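import Groth.Agent.EtTraceLib.NormPgroup
import Mathlib.FieldTheory.KummerExtension
import Mathlib.FieldTheory.Galois.Basic
import Mathlib.RingTheory.Norm.Transitivity
import Mathlib.GroupTheory.OrderOfElement

/-!
# Cyclic extensions of degree `p` inside cyclic extensions of degree `p²` (Albert)
-/

set_option autoImplicit false
set_option backward.isDefEq.respectTransparency false
set_option backward.isDefEq.respectTransparency.types false
set_option linter.style.haveILetI false

universe u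

open Polynomial

noncomputable section

namespace Groth.Agent.CdTameLib

variable {k L : Type u} [Field k] [Field L] [Algebra k L] [FiniteDimensional k L] [IsGalois k L]
  {p : ℕ} [hp : Fact p.Prime] {ζ : k}

/-- Albert's criterion. -/
theorem exists_cyclic_sq (hL : Module.finrank k L = p) (hζ : IsPrimitiveRoot ζ p) (ω : L)
    (hω : Algebra.norm k ω = ζ) :
    ∃ (M : Type u) (_ : Field M) (_ : Algebra k M) (_ : Algebra L M) (_ : IsScalarTower k L M)
      (_ : FiniteDimensional k M) (_ : IsGalois k M), IsCyclic (M ≃ₐ[k] M) ∧ Module.finrank L M = p := by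
  classical
  haveI : IsCyclic (L ≃ₐ[k] L) := isCyclic_of_prime_card (p := p) (by rw [IsGalois.card_aut_eq_finrank, hL])
  obtain ⟨g, hg⟩ := IsCyclic.exists_generator (α := L ≃ₐ[k] L)
  -- `ω ^ p` is `g c / c`
  have hω1 : Algebra.norm k ((ω ^ p)⁻¹) = 1 := by rw [Algebra.norm_inv, map_pow, hω, hζ.pow_eq_one, inv_one]
  obtain ⟨c, hc⟩ := EtTraceLib.hilbert90_cyclic k L hg hω1
  have hω0 : ω ≠ 0 := by
    rintro rfl
    rw [Algebra.norm_zero] at hω
    exact hζ.ne_zero hp.out.ne_zero hω.symm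
  have hgc : g (c : L) = ω ^ p * c := by
    rw [div_eq_iff (fun h => c.ne_zero (g.injective (by rw [h, map_zero])))] at hc
    have h2 := congrArg (ω ^ p * ·) hc
    simp only [← mul_assoc, mul_inv_cancel₀ (pow_ne_zero _ hω0), one_mul] at h2
    exact h2.symm
  let ξ := algebraMap k L ζ
  have hξ : IsPrimitiveRoot ξ p := hζ.map_of_injective (algebraMap k L).injective
  have hnξ : ∀ i : ℕ, Algebra.norm k (ξ ^ i) = 1 := fun i => by
    rw [map_pow, Algebra.norm_algebraMap, hL, hζ.pow_eq_one, one_pow]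
  -- `c` is not a `p`-th power
  have hnc : ∀ d : L, d ^ p ≠ c := by
    intro d hd
    have hd0 : d ≠ 0 := by rintro rfl; exact c.ne_zero (by rw [← hd, zero_pow hp.out.ne_zero])
    have h1 : (g d * (ω * d)⁻¹) ^ p = 1 := by
      rw [mul_pow, inv_pow, mul_pow, hd, ← map_pow, hd, hgc, mul_inv_cancel₀]
      exact mul_ne_zero (pow_ne_zero _ hω0) c.ne_zero
    obtain ⟨i, -, hi⟩ := hξ.eq_pow_of_pow_eq_one h1
    have h2 : g d = ω * (ξ ^ i * d) := by
      rw [hi]
      field_simp
    have h3 := congrArg (Algebra.norm k) h2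
    have hdn : Algebra.norm k d ≠ 0 := fun h => hd0 (Algebra.norm_eq_zero_iff.1 h)
    rw [Algebra.norm_eq_of_algEquiv g d, map_mul, map_mul, hω, hnξ, one_mul] at h3
    exact hζ.ne_one hp.out.one_lt (mul_right_cancel₀ hdn (h3.symm.trans (one_mul _).symm))
  let f : L[X] := X ^ p - C (c : L)
  haveI : Fact (Irreducible f) := ⟨X_pow_sub_C_irreducible_of_prime hp.out hnc⟩
  haveI : FiniteDimensional L (AdjoinRoot f) :=
    (monic_X_pow_sub_C _ hp.out.ne_zero).finite_adjoinRoot
  haveI : FiniteDimensional k (AdjoinRoot f) := FiniteDimensional.trans k L (AdjoinRoot f)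
  have hdeg : Module.finrank L (AdjoinRoot f) = p := by
    rw [(AdjoinRoot.powerBasis (Fact.out (p := Irreducible f)).ne_zero).finrank, AdjoinRoot.powerBasis_dim,
      natDegree_X_pow_sub_C]
  let γ : AdjoinRoot f := AdjoinRoot.root f
  let ι : L →ₐ[k] AdjoinRoot f := IsScalarTower.toAlgHom k L (AdjoinRoot f)
  have hγ : γ ^ p = ι (c : L) := by
    have := AdjoinRoot.eval₂_root f
    rw [eval₂_sub, eval₂_X_pow, eval₂_C, sub_eq_zero] at this
    exact this
  let G₀ : AdjoinRoot f →ₐ[k] AdjoinRoot f := AdjoinRoot.liftAlgHom f (ι.comp g.toAlgHom) (ι ω * γ) (by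
    rw [eval₂_sub, eval₂_X_pow, eval₂_C, mul_pow, hγ, sub_eq_zero, ← map_pow, ← map_mul, ← hgc]
    rfl)
  have hG₀ι : ∀ x : L, G₀ (ι x) = ι (g x) := fun x => AdjoinRoot.liftAlgHom_of _ _ _ _ x
  have hG₀γ : G₀ γ = ι ω * γ := AdjoinRoot.liftAlgHom_root _ _ _ _
  let G : AdjoinRoot f ≃ₐ[k] AdjoinRoot f := AlgEquiv.ofBijective G₀ ⟨G₀.toRingHom.injective,
    LinearMap.surjective_of_injective (f := G₀.toLinearMap) G₀.toRingHom.injective⟩
  have hGι : ∀ (n : ℕ) (x : L), (G ^ n) (ι x) = ι ((g ^ n) x) := fun n => by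
    induction n with
    | zero => intro x; simp
    | succ n ih => intro x; rw [pow_succ, pow_succ, AlgEquiv.mul_apply, AlgEquiv.mul_apply,
        show G (ι x) = ι (g x) from hG₀ι x, ih]
  have hGγ : ∀ n : ℕ, (G ^ n) γ = ι (∏ i ∈ Finset.range n, (g ^ i) ω) * γ := fun n => by
    induction n with
    | zero => simp
    | succ n ih =>
      rw [pow_succ, AlgEquiv.mul_apply, show G γ = ι ω * γ from hG₀γ, map_mul, hGι, ih, Finset.prod_range_succ,
        map_mul]
      ring
  have hord : orderOf g = p := by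
    rw [orderOf_eq_card_of_forall_mem_zpowers hg, IsGalois.card_aut_eq_finrank, hL]
  have hgp : g ^ p = 1 := hord ▸ pow_orderOf_eq_one g
  have hprod : (∏ i ∈ Finset.range p, (g ^ i) ω) = ξ := by
    rw [← hord]
    show _ = algebraMap k L ζ
    rw [← hω, Algebra.norm_eq_prod_automorphisms]
    refine Finset.prod_bij (fun i _ => g ^ i) (fun _ _ => Finset.mem_univ _) ?_ ?_ (fun _ _ => rfl)
    · intro a ha b hb h
      exact pow_injOn_Iio_orderOf (Finset.mem_range.1 ha) (Finset.mem_range.1 hb) h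
    · intro τ _
      obtain ⟨n, hn, rfl⟩ := (isOfFinOrder_of_finite g).mem_zpowers_iff_mem_range_orderOf.1 (hg τ) |>
        Finset.mem_image.1
      exact ⟨n, hn, rfl⟩
  have hext : ∀ φ ψ : AdjoinRoot f ≃ₐ[k] AdjoinRoot f, (∀ x, φ (ι x) = ψ (ι x)) → φ γ = ψ γ → φ = ψ := by
    intro φ ψ h1 h2
    refine AlgEquiv.ext fun x => ?_
    obtain ⟨q, rfl⟩ := AdjoinRoot.mk_surjective x
    induction q using Polynomial.induction_on' with
    | add a b ha hb => simp only [map_add, ha, hb]
    | monomial n a =>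
      rw [← C_mul_X_pow_eq_monomial, map_mul, map_pow, AdjoinRoot.mk_X, AdjoinRoot.mk_C, map_mul, map_mul, map_pow,
        map_pow]
      exact congrArg₂ (· * ·) (h1 a) (congrArg (· ^ n) h2)
  have hne : G ^ p ≠ 1 := fun h => by
    have h1 := hGγ p
    rw [h, hprod, AlgEquiv.one_apply] at h1
    have hγ0 : γ ≠ 0 := fun h0 => c.ne_zero (ι.toRingHom.injective (by
      show ι (c : L) = ι 0
      rw [← hγ, h0, zero_pow hp.out.ne_zero, map_zero]))
    refine hξ.ne_one hp.out.one_lt (ι.toRingHom.injective ?_)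
    show ι ξ = ι 1
    rw [map_one]
    exact mul_right_cancel₀ hγ0 (h1.symm.trans (one_mul _).symm)
  have hone : G ^ (p ^ (1 + 1)) = 1 := by
    refine hext _ _ (fun x => ?_) ?_
    · rw [hGι, AlgEquiv.one_apply, show p ^ (1 + 1) = p * p from by ring, pow_mul, hgp, one_pow, AlgEquiv.one_apply]
    · have hfix : ∀ n : ℕ, ((G ^ p) ^ n) γ = ι (ξ ^ n) * γ := fun n => by
        induction n with
        | zero => simp
        | succ n ih =>
          rw [pow_succ, AlgEquiv.mul_apply, hGγ p, hprod, map_mul, ih]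
          have : ((G ^ p) ^ n) (ι ξ) = ι ξ := by
            rw [← pow_mul, hGι, pow_mul, hgp, one_pow, AlgEquiv.one_apply]
          rw [this, pow_succ, map_mul]
          ring
      rw [show p ^ (1 + 1) = p * p from by ring, pow_mul, hfix, hξ.pow_eq_one, map_one, one_mul, AlgEquiv.one_apply]
  have hG : orderOf G = p ^ (1 + 1) := orderOf_eq_prime_pow (by rwa [pow_one]) hone
  have hM : Module.finrank k (AdjoinRoot f) = p ^ (1 + 1) := by
    rw [← Module.finrank_mul_finrank k L (AdjoinRoot f), hL, hdeg]; ring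
  have hle : Nat.card (AdjoinRoot f ≃ₐ[k] AdjoinRoot f) ≤ p ^ (1 + 1) := by
    rw [← hM, Nat.card_eq_fintype_card]
    exact AlgEquiv.card_le
  have hcard : Nat.card (AdjoinRoot f ≃ₐ[k] AdjoinRoot f) = p ^ (1 + 1) :=
    le_antisymm hle (hG ▸ Nat.le_of_dvd Nat.card_pos (orderOf_dvd_natCard G))
  haveI : IsGalois k (AdjoinRoot f) := IsGalois.of_card_aut_eq_finrank k _ (hcard.trans hM.symm)
  exact ⟨AdjoinRoot f, inferInstance, inferInstance, inferInstance, inferInstance, inferInstance, inferInstance,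
    isCyclic_of_orderOf_eq_card G (hG.trans hcard.symm), hdeg⟩

end Groth.Agent.CdTameLib
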