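import Groth.Agent.CdTameLib.Pred
import Mathlib.GroupTheory.SpecificGroups.Cyclic

/-!
# Cyclic extensions contained in cyclic extensions of degree `p²`

The two-extension of the cyclic extension of degree `p` is the push of that of the extension of degree
`p²` by multiplication with `p`, hence vanishes on sheaves killed by `p`.
-/

set_option autoImplicit false
set_option backward.isDefEq.respectTransparency false
set_option backward.isDefEq.respectTransparency.types false
set_option linter.style.haveILetI false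
set_option maxHeartbeats 1000000

universe u

open CategoryTheory CategoryTheory.Limits AlgebraicGeometry Opposite CategoryTheory.Abelian

noncomputable section

namespace Groth.Agent.CdTameLib

open EtTraceLib EtPtsLib

variable {k : Type u} [Field k] (L M : Type u) [Field L] [Field M] [Algebra k L] [Algebra k M] [Algebra L M]
  [IsScalarTower k L M] [FiniteDimensional k L] [FiniteDimensional k M] [Algebra.IsSeparable k L]
  [Algebra.IsSeparable k M]

/-- The two exact sequences of a cyclic extension, with their factorization. -/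
theorem exists_cyclic_sequences' (F : EtCoh.Ab (Spec (CommRingCat.of k))) [IsGalois k L] {σ : L ≃ₐ[k] L}
    (hσ : ∀ τ, τ ∈ Subgroup.zpowers σ) :
    ∃ (I : EtCoh.Ab (Spec (CommRingCat.of k))) (p : indSh L F ⟶ I) (i : I ⟶ indSh L F) (ν : indSh L F ⟶ F)
      (w₁ : indUnit L F ≫ p = 0) (w₂ : i ≫ ν = 0),
      (ShortComplex.mk _ _ w₁).ShortExact ∧ (ShortComplex.mk _ _ w₂).ShortExact ∧
        ν ≫ indUnit L F = indNorm L F ∧ p ≫ i = indDiff L F σ := by
  haveI := mono_indUnit L F
  have hE := exact_unit_diff L F hσ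
  obtain ⟨ν, hν⟩ : ∃ ν : indSh L F ⟶ F, ν ≫ indUnit L F = indNorm L F :=
    ⟨hE.lift (indNorm L F) (indNorm_diff L F σ), hE.lift_f _ _⟩
  let i : cokernel (indUnit L F) ⟶ indSh L F := cokernel.desc _ (indDiff L F σ) (indUnit_diff L F σ)
  have hi : cokernel.π (indUnit L F) ≫ i = indDiff L F σ := cokernel.π_desc _ _ _
  have w₂ : i ≫ ν = 0 := by
    rw [← cancel_mono (indUnit L F), ← cancel_epi (cokernel.π (indUnit L F)), Category.assoc, hν, reassoc_of% hi,
      indDiff_norm, zero_comp, comp_zero]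
  haveI : Mono i := hE.mono_cokernelDesc
  haveI : Epi ν := epi_of_locally ν fun V t x => by
    classical
    obtain ⟨V', f, v, hf⟩ := exists_cover_ext (L := L) V
    obtain ⟨z, hz⟩ := hf x
    let t' := F.obj.map f.op t
    obtain ⟨y, hy⟩ := (coord_bijective v (F := F)).2 (Pi.single 1 t')
    refine ⟨V', f, z, hz, y, injective_app (indUnit L F) V' ((coord_bijective v).1 (funext fun g => ?_))⟩
    refine Eq.trans ?_ (coord_unit v t' g).symm
    rw [show (indUnit L F).hom.app (op V') (ν.hom.app (op V') y) = (indNorm L F).hom.app (op V') y from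
      ConcreteCategory.congr_hom (congrArg (fun m => m.hom.app (op V')) hν) y, coord_norm, hy]
    exact Finset.sum_pi_single' 1 t' Finset.univ |>.trans (if_pos (Finset.mem_univ _))
  refine ⟨cokernel (indUnit L F), cokernel.π _, i, ν, cokernel.condition _, w₂,
    { exact := ShortComplex.exact_of_g_is_cokernel _ (cokernelIsCokernel _) }, { exact := ?_ }, hν, hi⟩
  refine exact_of_locally _ fun V t ht x => ?_
  obtain ⟨V', f, v, hf⟩ := exists_cover_ext (L := L) V
  obtain ⟨z, hz⟩ := hf x
  let t' := (indSh L F).obj.map f.op t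
  have hsum : ∑ g, coord v t' g = 0 := by
    rw [← coord_norm v t' 1,
      show (indNorm L F).hom.app (op V') t' = (indUnit L F).hom.app (op V') (ν.hom.app (op V') t') from
        (ConcreteCategory.congr_hom (congrArg (fun m => m.hom.app (op V')) hν) t').symm, coord_unit,
      NatTrans.naturality_apply ν.hom f.op t]
    exact (congrArg (F.obj.map f.op) ht).trans (map_zero _)
  obtain ⟨h, hh⟩ := exists_shift_sub hσ (coord v t') hsum
  obtain ⟨w, hw⟩ := (coord_bijective v (F := F)).2 h
  refine ⟨V', f, z, hz, (cokernel.π (indUnit L F)).hom.app (op V') w, (coord_bijective v).1 (funext fun g => ?_)⟩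
  rw [show i.hom.app (op V') ((cokernel.π (indUnit L F)).hom.app (op V') w) = (indDiff L F σ).hom.app (op V') w from
    ConcreteCategory.congr_hom (congrArg (fun m => m.hom.app (op V')) hi) w, coord_diff, hw, hh]

/-- The restriction between the two base changes. -/
def bRes (V : (Spec (CommRingCat.of k)).Etale) : bObj M V ⟶ bObj L V :=
  MorphismProperty.Over.homMk
    (pullback.lift (pullback.fst V.hom (specπ k M))
      (pullback.snd V.hom (specπ k M) ≫ Spec.map (CommRingCat.ofHom (algebraMap L M)))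
      (by
        rw [Category.assoc, ← Spec.map_comp, ← CommRingCat.ofHom_comp, ← IsScalarTower.algebraMap_eq]
        exact pullback.condition)) (by
    show pullback.lift _ _ _ ≫ pullback.snd V.hom _ ≫ specπ k L = pullback.snd V.hom _ ≫ specπ k M
    rw [pullback.lift_snd_assoc, Category.assoc, ← Spec.map_comp, ← CommRingCat.ofHom_comp,
      ← IsScalarTower.algebraMap_eq])

theorem bRes_left_fst (V : (Spec (CommRingCat.of k)).Etale) :
    (bRes L M V).left ≫ pullback.fst V.hom (specπ k L) = pullback.fst V.hom (specπ k M) := pullback.lift_fst _ _ _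

theorem bRes_left_snd (V : (Spec (CommRingCat.of k)).Etale) :
    (bRes L M V).left ≫ pullback.snd V.hom (specπ k L) =
      pullback.snd V.hom (specπ k M) ≫ Spec.map (CommRingCat.ofHom (algebraMap L M)) := pullback.lift_snd _ _ _

theorem bRes_ε (V : (Spec (CommRingCat.of k)).Etale) : bRes L M V ≫ bε V = bε V :=
  MorphismProperty.Over.Hom.ext (bRes_left_fst L M V)

theorem bRes_bMap {V W : (Spec (CommRingCat.of k)).Etale} (f : W ⟶ V) :
    bRes L M W ≫ bMap L f = bMap M f ≫ bRes L M V := by
  refine MorphismProperty.Over.Hom.ext (pullback.hom_ext ?_ ?_)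
  · show ((bRes L M W).left ≫ (bMap L f).left) ≫ _ = ((bMap M f).left ≫ (bRes L M V).left) ≫ _
    rw [Category.assoc, Category.assoc, bMap_left_fst, bRes_left_fst, ← Category.assoc, bRes_left_fst, bMap_left_fst]
  · show ((bRes L M W).left ≫ (bMap L f).left) ≫ _ = ((bMap M f).left ≫ (bRes L M V).left) ≫ _
    rw [Category.assoc, Category.assoc, bMap_left_snd, bRes_left_snd, bRes_left_snd, ← Category.assoc, bMap_left_snd]

theorem bRes_γ [Normal k L] (V : (Spec (CommRingCat.of k)).Etale) (g : M ≃ₐ[k] M) :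
    bγ V g ≫ bRes L M V = bRes L M V ≫ bγ V (g.restrictNormal L) := by
  refine MorphismProperty.Over.Hom.ext (pullback.hom_ext ?_ ?_)
  · show ((bγ V g).left ≫ (bRes L M V).left) ≫ _ = ((bRes L M V).left ≫ (bγ V _).left) ≫ _
    rw [Category.assoc, Category.assoc, bRes_left_fst, bγ_left_fst, bγ_left_fst, bRes_left_fst]
  · show ((bγ V g).left ≫ (bRes L M V).left) ≫ _ = ((bRes L M V).left ≫ (bγ V _).left) ≫ _
    rw [Category.assoc, Category.assoc, bRes_left_snd, bγ_left_snd, ← Category.assoc, bγ_left_snd,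
      ← Category.assoc, bRes_left_snd, Category.assoc, Category.assoc, ← Spec.map_comp, ← Spec.map_comp]
    refine congrArg (fun m => pullback.snd V.hom (specπ k M) ≫ Spec.map m) (CommRingCat.hom_ext (RingHom.ext fun x => ?_))
    exact (AlgEquiv.restrictNormal_commutes g L x).symm

variable (F : EtCoh.Ab (Spec (CommRingCat.of k)))

/-- The map between the induced sheaves. -/
def indIncl : indSh L F ⟶ indSh M F :=
  ⟨{ app := fun V => F.obj.map (bRes L M V.unop).op
     naturality := fun V W f => by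
       show F.obj.map (bMap L f.unop).op ≫ F.obj.map (bRes L M W.unop).op =
         F.obj.map (bRes L M V.unop).op ≫ F.obj.map (bMap M f.unop).op
       rw [← F.obj.map_comp, ← F.obj.map_comp, ← op_comp, ← op_comp, bRes_bMap] }⟩

theorem indUnit_incl : indUnit L F ≫ indIncl L M F = indUnit M F :=
  ObjectProperty.hom_ext _ (NatTrans.ext (funext fun V => by
    show F.obj.map (bε V.unop).op ≫ F.obj.map (bRes L M V.unop).op = F.obj.map (bε V.unop).op
    rw [← F.obj.map_comp, ← op_comp, bRes_ε]))

theorem indIncl_act [Normal k L] (g : M ≃ₐ[k] M) :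
    indIncl L M F ≫ indAct M F g = indAct L F (g.restrictNormal L) ≫ indIncl L M F :=
  ObjectProperty.hom_ext _ (NatTrans.ext (funext fun V => by
    show F.obj.map (bRes L M V.unop).op ≫ F.obj.map (bγ V.unop g).op =
      F.obj.map (bγ V.unop (g.restrictNormal L)).op ≫ F.obj.map (bRes L M V.unop).op
    rw [← F.obj.map_comp, ← F.obj.map_comp, ← op_comp, ← op_comp, bRes_γ]))

theorem indIncl_norm [IsGalois k L] [IsGalois k M] :
    indIncl L M F ≫ indNorm M F = Module.finrank L M • (indNorm L F ≫ indIncl L M F) := by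
  classical
  rw [indNorm, Preadditive.comp_sum, indNorm, Preadditive.sum_comp, Finset.smul_sum,
    Finset.sum_congr rfl fun g _ => indIncl_act L M F g]
  rw [← Finset.sum_fiberwise_of_maps_to (t := Finset.univ) (g := fun g : M ≃ₐ[k] M => g.restrictNormal L)
    fun _ _ => Finset.mem_univ _]
  refine Finset.sum_congr rfl fun h _ => ?_
  rw [Finset.sum_congr rfl (fun g hg => by rw [(Finset.mem_filter.1 hg).2]), Finset.sum_const]
  congr 1
  let π : (M ≃ₐ[k] M) →* (L ≃ₐ[k] L) := AlgEquiv.restrictNormalHom L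
  have hπ : Function.Surjective π := AlgEquiv.restrictNormalHom_surjective M
  have hfib : ∀ h', (Finset.univ.filter fun g => π g = h').card = (Finset.univ.filter fun g => π g = h).card := fun h' =>
    MonoidHom.card_fiber_eq_of_mem_range π (hπ h') (hπ h)
  have h1 := Finset.card_eq_sum_card_fiberwise (s := Finset.univ) (t := Finset.univ) (f := π) fun _ _ => Finset.mem_univ _
  rw [Finset.sum_congr rfl fun h' _ => hfib h', Finset.sum_const, Finset.card_univ, Finset.card_univ, smul_eq_mul,
    ← Nat.card_eq_fintype_card, ← Nat.card_eq_fintype_card, IsGalois.card_aut_eq_finrank, IsGalois.card_aut_eq_finrank,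
    ← Module.finrank_mul_finrank k L M] at h1
  exact (Nat.eq_of_mul_eq_mul_left Module.finrank_pos h1).symm

variable {L M F} {n : ℕ}

theorem nsmul_id_indSh {N : ℕ} (hF : N • 𝟙 F = 0) : N • 𝟙 ((EtShriek.restrAlong (specπ k L)).obj F) = 0 := by
  refine ObjectProperty.hom_ext _ (NatTrans.ext (funext fun V => ConcreteCategory.hom_ext _ _ fun s => ?_))
  exact ConcreteCategory.congr_hom
    (congrArg (fun m : F ⟶ F => m.hom.app (op ((EtShriek.compEtale (specπ k L)).obj V.unop))) hF) s

theorem nsmul_id_of_epi {G H : EtCoh.Ab (Spec (CommRingCat.of k))} {N : ℕ} (π : G ⟶ H) [Epi π] (hG : N • 𝟙 G = 0) :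
    N • 𝟙 H = 0 := by
  rw [← cancel_epi π, comp_zero, Preadditive.comp_nsmul, Category.comp_id, ← Category.id_comp π,
    ← Preadditive.nsmul_comp, hG, zero_comp]

theorem nsmul_id_indSh' {N : ℕ} (hF : N • 𝟙 F = 0) : N • 𝟙 (indSh L F) = 0 := by
  refine ObjectProperty.hom_ext _ (NatTrans.ext (funext fun V => ConcreteCategory.hom_ext _ _ fun s => ?_))
  exact ConcreteCategory.congr_hom (congrArg (fun m : F ⟶ F => m.hom.app (op (bObj L V.unop))) hF) s

/-- Above the dimension of a cyclic subextension the cohomology of sheaves killed by `p` vanishes. -/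
theorem eq_zero_of_cyclic_sq [IsGalois k L] [IsGalois k M] (hM : IsCyclic (M ≃ₐ[k] M)) (p : ℕ)
    (hp : p ∣ Module.finrank L M)
    (hL : ∀ G : EtCoh.Ab (Spec (CommRingCat.of L)), p • 𝟙 G = 0 → ∀ q : ℕ, n < q →
      ∀ x : EtCoh.H (Spec (CommRingCat.of L)) G q, x = 0)
    (hF : p • 𝟙 F = 0) (q : ℕ) (hq : n < q) (x : EtCoh.H (Spec (CommRingCat.of k)) F q) : x = 0 := by
  obtain ⟨σ, hσ⟩ := IsCyclic.exists_generator (α := M ≃ₐ[k] M)
  have hσL : ∀ τ, τ ∈ Subgroup.zpowers (σ.restrictNormal L) := fun τ => by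
    obtain ⟨g, rfl⟩ := AlgEquiv.restrictNormalHom_surjective (F := k) (K₁ := L) M τ
    obtain ⟨j, rfl⟩ := hσ g
    exact ⟨j, (map_zpow (AlgEquiv.restrictNormalHom L) σ j).symm⟩
  -- cohomology of the induced sheaves
  have hP : ∀ G : EtCoh.Ab (Spec (CommRingCat.of k)), p • 𝟙 G = 0 → ∀ r, n < r →
      ∀ y : EtCoh.H (Spec (CommRingCat.of k)) (indSh L G) r, y = 0 := fun G hG r hr y =>
    eq_zero_indSh k L (Iso.refl _) r (fun z => hL _ (nsmul_id_indSh hG) r hr z) y
  -- degrees at least `n + 2`
  have key : ∀ G : EtCoh.Ab (Spec (CommRingCat.of k)), p • 𝟙 G = 0 → ∀ r, n < r →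
      ∀ y : EtCoh.H (Spec (CommRingCat.of k)) G (r + 1), y = 0 := by
    intro G hG r hr y
    obtain ⟨r, rfl⟩ : ∃ s, r = s + 1 := ⟨r - 1, by omega⟩
    obtain ⟨I, pr, i, ν, w₁, w₂, h₁, h₂, hν, hi⟩ := exists_cyclic_sequences' L G hσL
    obtain ⟨I', pr', i', ν', w₁', w₂', h₁', h₂', hν', hi'⟩ := exists_cyclic_sequences' M G hσ
    haveI : Epi pr := h₁.epi_g
    let j : I ⟶ I' := h₁.exact.desc (indIncl L M G ≫ pr') (by rw [← Category.assoc, indUnit_incl]; exact w₁')
    have hj : pr ≫ j = indIncl L M G ≫ pr' := h₁.exact.g_desc _ _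
    have hji : i ≫ indIncl L M G = j ≫ i' := by
      rw [← cancel_epi pr, ← Category.assoc, hi, ← Category.assoc, hj, Category.assoc, hi', indDiff, indDiff,
        Preadditive.sub_comp, Preadditive.comp_sub, Category.id_comp, Category.comp_id, indIncl_act]
    have hzero : indIncl L M G ≫ ν' = 0 := by
      haveI := mono_indUnit M G
      obtain ⟨c, hc⟩ := hp
      rw [← cancel_mono (indUnit M G), zero_comp, Category.assoc, hν', indIncl_norm, hc, mul_comm, mul_nsmul',
        ← Category.comp_id (indNorm L G ≫ indIncl L M G), ← Preadditive.comp_nsmul, nsmul_id_indSh' hG, comp_zero,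
        nsmul_zero]
    let φ₁ : ShortComplex.mk _ _ w₁ ⟶ ShortComplex.mk _ _ w₁' :=
      { τ₁ := 𝟙 G, τ₂ := indIncl L M G, τ₃ := j
        comm₁₂ := (Category.id_comp _).trans (indUnit_incl L M G).symm
        comm₂₃ := hj.symm }
    let φ₂ : ShortComplex.mk _ _ w₂ ⟶ ShortComplex.mk _ _ w₂' :=
      { τ₁ := j, τ₂ := indIncl L M G, τ₃ := 0
        comm₁₂ := hji.symm
        comm₂₃ := hzero.trans comp_zero.symm }
    have e₁ : h₁.extClass = (Ext.mk₀ j).comp h₁'.extClass (zero_add 1) :=
      (Ext.comp_mk₀_id _).symm.trans (h₁.extClass_naturality h₁' φ₁)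
    have e₂ : h₂.extClass.comp (Ext.mk₀ j) (add_zero 1) = 0 := by
      refine (h₂.extClass_naturality h₂' φ₂).trans ?_
      show (Ext.mk₀ (0 : G ⟶ G)).comp h₂'.extClass (zero_add 1) = 0
      rw [Ext.mk₀_zero, Ext.zero_comp]
    obtain ⟨β, rfl⟩ := Ext.covariant_sequence_exact₁ _ h₁ y (hP G hG _ (by omega) _) (n₀ := r + 1) rfl
    obtain ⟨γ, rfl⟩ := Ext.covariant_sequence_exact₁ _ h₂ β (hP G hG _ hr _) (n₀ := r) rfl
    rw [e₁, ← Ext.comp_assoc_of_second_deg_zero, Ext.comp_assoc_of_third_deg_zero, e₂, Ext.comp_zero, Ext.zero_comp]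
  -- degree `n + 1`
  obtain ⟨I, pr, i, ν, w₁, w₂, h₁, h₂, hν, hi⟩ := exists_cyclic_sequences' L F hσL
  haveI : Epi pr := h₁.epi_g
  obtain ⟨y, rfl⟩ := Ext.covariant_sequence_exact₃ _ h₂ x rfl (key I (nsmul_id_of_epi pr (nsmul_id_indSh' hF)) q hq _)
  rw [hP F hF q hq y, Ext.zero_comp]

end Groth.Agent.CdTameLib
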