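import Groth.Agent.CdTameLib.Finite
import Mathlib.RingTheory.Norm.Basic

/-!
# Serre's theorem for fields: finite extensions detect the dimension

For `p` invertible in `k`, and `p ≠ 2` or `k` not orderable.
-/

set_option autoImplicit false
set_option backward.isDefEq.respectTransparency false
set_option backward.isDefEq.respectTransparency.types false
set_option linter.style.haveILetI false
set_option maxHeartbeats 1000000

universe u

open Polynomial

noncomputable section

namespace Groth.Agent.CdTameLib

variable {p : ℕ} [hp : Fact p.Prime] {n : ℕ}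

/-- The splitting field of `X ^ p - b` for `b` not a `p`-th power, with a root of unity of order `p` below. -/
theorem kummer_setup {k : Type u} [Field k] {ζ : k} (hζ : IsPrimitiveRoot ζ p) {b : k} (hb : ∀ c : k, c ^ p ≠ b) :
    ∃ (K₁ : Type u) (_ : Field K₁) (_ : Algebra k K₁) (_ : FiniteDimensional k K₁) (_ : IsGalois k K₁) (r : K₁),
      Module.finrank k K₁ = p ∧ r ^ p = algebraMap k K₁ b ∧ minpoly k r = X ^ p - C b := by
  have hirr : Irreducible (X ^ p - C b) := X_pow_sub_C_irreducible_of_prime hp.out hb
  haveI : Fact (Irreducible (X ^ p - C b)) := ⟨hirr⟩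
  let K₁ := AdjoinRoot (X ^ p - C b)
  haveI : FiniteDimensional k K₁ := (monic_X_pow_sub_C _ hp.out.ne_zero).finite_adjoinRoot
  have hroots : (primitiveRoots p k).Nonempty := ⟨ζ, (mem_primitiveRoots hp.out.pos).2 hζ⟩
  haveI : NeZero p := ⟨hp.out.ne_zero⟩
  haveI : IsSplittingField k K₁ (X ^ p - C b) := isSplittingField_AdjoinRoot_X_pow_sub_C hroots hirr
  haveI : IsGalois k K₁ := isGalois_of_isSplittingField_X_pow_sub_C hroots hirr K₁
  have hr : (AdjoinRoot.root (X ^ p - C b) : K₁) ^ p = algebraMap k K₁ b := by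
    have := AdjoinRoot.eval₂_root (X ^ p - C b)
    rw [eval₂_sub, eval₂_X_pow, eval₂_C, sub_eq_zero] at this
    exact this
  refine ⟨K₁, inferInstance, inferInstance, inferInstance, inferInstance, AdjoinRoot.root _,
    finrank_of_isSplittingField_X_pow_sub_C hroots hirr K₁, hr, ?_⟩
  exact (minpoly.eq_of_irreducible_of_monic hirr (by rw [map_sub, map_pow, aeval_X, aeval_C, hr, sub_self])
    (monic_X_pow_sub_C _ hp.out.ne_zero)).symm

theorem norm_of_minpoly {k L : Type u} [Field k] [Field L] [Algebra k L] [FiniteDimensional k L] (x : L)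
    (hd : (minpoly k x).natDegree = Module.finrank k L) :
    Algebra.norm k x = (-1) ^ Module.finrank k L * (minpoly k x).coeff 0 := by
  have hint : IsIntegral k x := IsIntegral.of_finite k x
  have h1 := IntermediateField.adjoin.finrank hint
  have h2 : Module.finrank (IntermediateField.adjoin k {x}) L = 1 := by
    have h3 := Module.finrank_mul_finrank k (IntermediateField.adjoin k {x}) L
    rw [h1, hd] at h3
    exact Nat.eq_of_mul_eq_mul_left Module.finrank_pos (h3.trans (mul_one _).symm)
  rw [Algebra.norm_eq_norm_adjoin, h2, pow_one, ← IntermediateField.adjoin.powerBasis_gen hint,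
    Algebra.PowerBasis.norm_gen_eq_coeff_zero_minpoly, IntermediateField.adjoin.powerBasis_dim,
    IntermediateField.adjoin.powerBasis_gen, IntermediateField.minpoly_gen, hd]

/-- Odd primes, with a root of unity of order `p`. -/
theorem desc_of_odd (hp2 : p ≠ 2) {k : Type u} [Field k] {ζ : k} (hζ : IsPrimitiveRoot ζ p) : Desc p k := by
  by_cases hk : ∃ z : k, IsPrimitiveRoot z (p ^ 2)
  · exact desc_of_root hk
  have hb : ∀ c : k, c ^ p ≠ ζ := fun c hc => hk ⟨c, by
    refine IsPrimitiveRoot.iff_orderOf.2 (orderOf_eq_prime_pow (n := 1) ?_ ?_)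
    · rw [pow_one, hc]
      exact hζ.ne_one hp.out.one_lt
    · rw [show 1 + 1 = 2 from rfl, sq, pow_mul, hc, hζ.pow_eq_one]⟩
  obtain ⟨K₁, _, _, _, _, r, hdeg, hr, hmin⟩ := kummer_setup hζ hb
  have hr2 : IsPrimitiveRoot r (p ^ 2) := by
    refine IsPrimitiveRoot.iff_orderOf.2 (orderOf_eq_prime_pow (n := 1) ?_ ?_)
    · rw [pow_one, hr]
      exact (isPrimitiveRoot_map hζ).ne_one hp.out.one_lt
    · rw [show 1 + 1 = 2 from rfl, sq, pow_mul, hr, ← map_pow, hζ.pow_eq_one, map_one]
  refine desc_of_ext K₁ (desc_of_root ⟨r, hr2⟩) fun n h => CdP.of_albert hdeg hζ r ?_ h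
  rw [norm_of_minpoly r (by rw [hmin, natDegree_X_pow_sub_C, hdeg]), hdeg, hmin, coeff_sub, coeff_X_pow,
    if_neg hp.out.ne_zero.symm, coeff_C_zero, (hp.out.odd_of_ne_two hp2).neg_one_pow]
  ring

theorem list_shorten {k : Type u} [Field k] {K₁ : Type u} [Field K₁] [Algebra k K₁] {a c : k} (l : List k) (r : K₁)
    (hr : r ^ 2 = algebraMap k K₁ (a ^ 2 + c ^ 2)) (hl : (-1 : k) = ((a :: c :: l).map fun x => x * x).sum) :
    (-1 : K₁) = ((r :: l.map (algebraMap k K₁)).map fun x => x * x).sum := by
  have h1 := congrArg (algebraMap k K₁) hl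
  simp only [List.map_cons, List.sum_cons, map_neg, map_one, map_add, map_mul, map_list_sum, List.map_map] at h1 ⊢
  rw [h1, ← sq r, hr, map_add, map_pow, map_pow, sq, sq, ← add_assoc]
  congr 1
  exact congrArg List.sum (List.map_congr_left fun x _ => by simp)

/-- The prime two, for fields of finite level. -/
theorem desc_two (h2 : p = 2) : ∀ (m : ℕ) (k : Type u) [Field k], (2 : k) ≠ 0 → ∀ l : List k, l.length ≤ m →
    (-1 : k) = (l.map fun x => x * x).sum → Desc p k := by
  intro m
  induction m with
  | zero =>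
    intro k _ _ l hl he
    rw [List.length_eq_zero_iff.1 (Nat.le_zero.1 hl)] at he
    exact absurd he (neg_ne_zero.2 one_ne_zero)
  | succ m ih =>
    intro k _ htwo l hl he
    match l with
    | [] => exact absurd he (neg_ne_zero.2 one_ne_zero)
    | [a] =>
      refine desc_of_root ⟨a, ?_⟩
      subst h2
      simp only [List.map_cons, List.map_nil, List.sum_cons, List.sum_nil, add_zero] at he
      refine IsPrimitiveRoot.iff_orderOf.2 (orderOf_eq_prime_pow (n := 1) ?_ ?_)
      · rw [pow_one, sq, ← he]
        exact fun h => htwo (by linear_combination -h)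
      · rw [show 2 ^ (1 + 1) = 2 * 2 from rfl, pow_mul, sq a, ← he, neg_one_sq]
    | a :: c :: l =>
      simp only [List.length_cons] at hl
      by_cases hsq : ∃ r : k, r ^ 2 = a ^ 2 + c ^ 2
      · obtain ⟨r, hr⟩ := hsq
        refine ih k htwo (r :: l) (by simp only [List.length_cons]; omega) ?_
        rw [he]
        simp only [List.map_cons, List.sum_cons, ← add_assoc]
        rw [← sq r, hr, sq, sq]
      simp only [not_exists] at hsq
      have ha : a ≠ 0 := fun h => hsq c (by rw [h]; ring)
      have hζ : IsPrimitiveRoot (-1 : k) p := by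
        refine IsPrimitiveRoot.iff_orderOf.2 (orderOf_eq_prime (by rw [h2]; ring) fun h => ?_)
        exact htwo (by linear_combination -h)
      obtain ⟨K₁, _, _, _, _, r, hdeg, hr, hmin⟩ := kummer_setup hζ (b := a ^ 2 + c ^ 2) (fun x hx => hsq x (by subst h2; exact hx))
      rw [h2] at hr hmin hdeg
      have htwo₁ : (2 : K₁) ≠ 0 := by
        rw [← map_ofNat (algebraMap k K₁) 2]
        exact (map_ne_zero_iff _ (algebraMap k K₁).injective).2 htwo
      refine desc_of_ext K₁ (ih K₁ htwo₁ (r :: l.map (algebraMap k K₁))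
        (by simp only [List.length_cons, List.length_map]; omega) (list_shorten l r hr he)) fun n h => ?_
      let w : K₁ := (algebraMap k K₁ c + r) * (algebraMap k K₁ a)⁻¹
      refine CdP.of_albert (hdeg.trans h2.symm) hζ w ?_ h
      classical
      obtain ⟨σ, hσ⟩ : ∃ σ : K₁ ≃ₐ[k] K₁, σ ≠ 1 := by
        haveI : Nontrivial (K₁ ≃ₐ[k] K₁) := Finite.one_lt_card_iff_nontrivial.1
          (by rw [IsGalois.card_aut_eq_finrank, hdeg]; norm_num)
        exact exists_ne 1
      have huniv : (Finset.univ : Finset (K₁ ≃ₐ[k] K₁)) = {1, σ} := by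
        refine (Finset.eq_univ_of_card _ ?_).symm
        rw [Finset.card_pair hσ.symm, ← Nat.card_eq_fintype_card, IsGalois.card_aut_eq_finrank, hdeg]
      have hσr : σ r = -r := by
        have h3 : (σ r - r) * (σ r + r) = 0 := by
          have h6 : σ r ^ 2 = r ^ 2 := by rw [← map_pow, hr, σ.commutes]
          linear_combination h6
        refine eq_neg_of_add_eq_zero_left ((mul_eq_zero.1 h3).resolve_left fun h4 => hσ ?_)
        have hgen : IntermediateField.adjoin k {r} = ⊤ := by
          refine (IntermediateField.finrank_eq_one_iff_eq_top).1 ?_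
          have h5 := Module.finrank_mul_finrank k (IntermediateField.adjoin k {r}) K₁
          rw [IntermediateField.adjoin.finrank (IsIntegral.of_finite k r), hmin, natDegree_X_pow_sub_C, hdeg] at h5
          omega
        refine AlgEquiv.ext fun x => ?_
        have hx : x ∈ IntermediateField.adjoin k {r} := hgen ▸ IntermediateField.mem_top
        have hle : IntermediateField.adjoin k {r} ≤
            IntermediateField.fixedField (Subgroup.zpowers σ) := IntermediateField.adjoin_simple_le_iff.2 (by
          rintro ⟨τ, hτ⟩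
          exact Subgroup.zpowers_le.2 (show σ ∈ MulAction.stabilizer _ r from sub_eq_zero.1 h4) hτ)
        exact hle hx ⟨σ, Subgroup.mem_zpowers σ⟩
      apply (algebraMap k K₁).injective
      rw [Algebra.norm_eq_prod_automorphisms, huniv, Finset.prod_pair hσ.symm, AlgEquiv.one_apply, map_mul,
        map_add, map_inv₀, AlgEquiv.commutes, AlgEquiv.commutes, hσr, map_neg, map_one]
      have ha₁ : algebraMap k K₁ a ≠ 0 := (map_ne_zero_iff _ (algebraMap k K₁).injective).2 ha
      rw [map_add, map_pow, map_pow] at hr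
      have key : (algebraMap k K₁ c + r) * (algebraMap k K₁ c + -r) = -1 * (algebraMap k K₁ a) ^ 2 := by
        linear_combination -hr
      calc _ = (algebraMap k K₁ c + r) * (algebraMap k K₁ c + -r) * ((algebraMap k K₁ a)⁻¹ * (algebraMap k K₁ a)⁻¹) := by
            ring
        _ = -1 := by rw [key]; field_simp

/-- Serre's theorem for fields. -/
theorem desc_of_hord {k : Type u} [Field k] (hpk : (p : k) ≠ 0)
    (hord : p ≠ 2 ∨ ¬ ∃ _ : LinearOrder k, IsStrictOrderedRing k) : Desc p k := by
  by_cases h2 : p = 2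
  · obtain ⟨l, hl⟩ := exists_level (hord.resolve_left (fun h => h h2))
    refine desc_two h2 l.length k ?_ l le_rfl hl
    rw [h2] at hpk
    exact_mod_cast hpk
  -- adjoin a root of unity
  haveI : NeZero (p : k) := ⟨hpk⟩
  let K₀ := CyclotomicField p k
  haveI : IsGalois k K₀ := IsCyclotomicExtension.isGalois {p} k K₀
  haveI : FiniteDimensional k K₀ := IsCyclotomicExtension.finiteDimensional {p} k K₀
  have hζ := IsCyclotomicExtension.zeta_spec p k K₀
  refine desc_of_ext K₀ (desc_of_odd h2 hζ) fun n h => h.of_finite_prime_to K₀ ?_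
  have hle : Module.finrank k K₀ ≤ p - 1 := by
    rw [(hζ.powerBasis k).finrank, IsPrimitiveRoot.powerBasis_dim (K := k) hζ]
    refine (natDegree_le_of_dvd (minpoly.dvd k _ ?_) (cyclotomic_ne_zero p k)).trans ?_
    · rw [← eval_map_algebraMap, map_cyclotomic]
      exact (hζ.isRoot_cyclotomic hp.out.pos).eq_zero
    · rw [natDegree_cyclotomic, Nat.totient_prime hp.out]
  intro hd
  have := Nat.le_of_dvd Module.finrank_pos hd
  have := hp.out.pos
  omega

/-- Finite extensions have the same dimension. -/
theorem CdP.of_finite {k : Type u} [Field k] (hpk : (p : k) ≠ 0)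
    (hord : p ≠ 2 ∨ ¬ ∃ _ : LinearOrder k, IsStrictOrderedRing k) (E : Type u) [Field E] [Algebra k E]
    [FiniteDimensional k E] (h : CdP p n E) : CdP p n k :=
  desc_of_hord hpk hord n (separableClosure k E) (h.of_purelyInseparable E)

end Groth.Agent.CdTameLib
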