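import Groth.Agent.CdTameLib.DvrIff
import Groth.Agent.CdTameLib.Serre
import Groth.Agent.DomDVR.KrullAkizuki
import Groth.Agent.GrSegreLib.Dim
import Groth.Agent.S9262

/-!
# Lower bound for the cohomological dimension of fields of fractions of Noetherian local domains
-/

set_option autoImplicit false
set_option backward.isDefEq.respectTransparency false
set_option backward.isDefEq.respectTransparency.types false
set_option linter.style.haveILetI false
set_option maxHeartbeats 1000000

universe u

open IsLocalRing nonZeroDivisors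

noncomputable section

namespace Groth.Agent.CdTameLib

variable {p : ℕ} [hp : Fact p.Prime]

/-- The image of a henselization in a field is algebraic. -/
theorem isAlgebraic_of_henselization {O R K L : Type u} [CommRing O] [IsLocalRing O] [CommRing R] [IsLocalRing R]
    [Algebra O R] [IsLocalHom (algebraMap O R)] [Hensel.IsHenselization O R] [Field K] [Field L] [Algebra O K]
    [Algebra K L] [Algebra O L] [IsScalarTower O K L] (φ : R →ₐ[O] L) (r : R) : IsAlgebraic K (φ r) := by
  obtain ⟨e⟩ := Henselization.exists_algEquiv_of_isHenselization O R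
  obtain ⟨z, rfl⟩ := e.surjective r
  obtain ⟨i, y, rfl⟩ := Henselization.exists_ι z
  let ψ : i.L →ₐ[O] L := (φ.comp e.toAlgHom).comp (Henselization.ι i)
  show IsAlgebraic K (ψ y)
  obtain ⟨⟨b, s⟩, hb⟩ := IsLocalization.surj i.q.primeCompl y
  have hS : ∀ w : i.S, IsAlgebraic K (ψ (algebraMap i.S i.L w)) := fun w =>
    (CdFieldLib.isIntegral_of_etale (ψ.comp (IsScalarTower.toAlgHom O i.S i.L)) w).isAlgebraic
  have hu : IsUnit (ψ (algebraMap i.S i.L s)) := (IsLocalization.map_units i.L s).map ψ
  have e1 : ψ y = ψ (algebraMap i.S i.L b) * (ψ (algebraMap i.S i.L s))⁻¹ := by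
    rw [← hb, map_mul, mul_inv_cancel_right₀ hu.ne_zero]
  rw [e1]
  exact (hS b).mul (hS s).inv

/-- Henselization of a discrete valuation ring: the residue field gets dimension one less. -/
theorem CdP.residueField_dvr_any {d : ℕ} (V : Type u) [CommRing V] [IsDomain V] [IsDiscreteValuationRing V]
    (hu : IsUnit (p : V)) (K : Type u) [Field K] [Algebra V K] [IsFractionRing V K] (hK : CdP p d K) :
    1 ≤ d ∧ CdP p (d - 1) (ResidueField V) := by
  obtain ⟨W, _, _, _, _, hW⟩ := Henselization.exists_henselization (R := V)
  obtain ⟨T, _, _, _, _, hT⟩ := Henselization.exists_strictHenselization (R := V)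
  haveI := hW
  haveI := hT
  obtain ⟨_, _⟩ := (Groth.Agent.S9262.result V W T).1.1 ⟨inferInstance, inferInstance⟩
  haveI : HenselianLocalRing W := Hensel.IsHenselization.henselian (R := V) (S := W)
  obtain ⟨e⟩ := Henselization.exists_algEquiv_of_isHenselization V W
  haveI := (Henselization.fineFibres_of_equiv e).flat
  haveI : Module.FaithfullyFlat V W := Module.FaithfullyFlat.of_flat_of_isLocalHom
  have hinj : Function.Injective (algebraMap V W) := FaithfulSMul.algebraMap_injective V W
  let E := FractionRing W
  let i : K →+* E := IsFractionRing.lift (K := K) (g := (algebraMap W E).comp (algebraMap V W))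
    ((IsFractionRing.injective W E).comp hinj)
  letI : Algebra K E := i.toAlgebra
  haveI : IsScalarTower V K E := IsScalarTower.of_algebraMap_eq fun a => by
    rw [IsScalarTower.algebraMap_apply V W E]
    exact (IsFractionRing.lift_algebraMap (A := V) (g := (algebraMap W E).comp (algebraMap V W)) _ a).symm
  let φ : W →ₐ[V] E := IsScalarTower.toAlgHom V W E
  haveI : Algebra.IsAlgebraic K E := ⟨fun z => by
    obtain ⟨a, b, hb, rfl⟩ := IsFractionRing.div_surjective (A := W) z
    rw [div_eq_mul_inv]
    exact (isAlgebraic_of_henselization φ a).mul (isAlgebraic_of_henselization φ b).inv⟩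
  have huW : IsUnit (p : W) := by
    rw [← map_natCast (algebraMap V W)]
    exact hu.map _
  obtain ⟨h1, h2⟩ := (hK.of_isAlgebraic E).residueField_dvr (shCd_of_isUnit huW) huW.ne_zero E
  exact ⟨h1, h2.of_ringEquiv (RingEquiv.ofBijective _ (Henselization.residueField_bijective_of_equiv e)).symm⟩

/-- Dimension one. -/
theorem exists_finite_residue_dim_one {d : ℕ} (A : Type u) [CommRing A] [IsDomain A] [IsNoetherianRing A]
    [IsLocalRing A] [Ring.KrullDimLE 1 A] (hA : ¬ IsField A) (hu : IsUnit (p : A)) (K : Type u) [Field K]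
    [Algebra A K] [IsFractionRing A K] (hK : CdP p d K) :
    1 ≤ d ∧ ∃ (L : Type u) (_ : Field L) (_ : Algebra (ResidueField A) L),
      FiniteDimensional (ResidueField A) L ∧ CdP p (d - 1) L := by
  let D := integralClosure A K
  haveI : IsDedekindDomain D := DomDVR.isDedekindDomain_integralClosure
  obtain ⟨Q, hQ, hQA⟩ := Ideal.exists_maximal_ideal_liesOver_of_isIntegral (S := D) (maximalIdeal A)
  have hcomap : ∀ r, r ∈ maximalIdeal A ↔ algebraMap A D r ∈ Q := fun r => by rw [hQA.over]; rfl
  obtain ⟨a, ha, ha0⟩ := Submodule.exists_mem_ne_zero_of_ne_bot (IsLocalRing.isField_iff_maximalIdeal_eq.not.mp hA)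
  have hQ0 : Q ≠ ⊥ := fun h => ha0 <| by
    have h2 : algebraMap A D a = 0 := by simpa [h] using (hcomap a).mp ha
    apply IsFractionRing.injective A K
    rw [map_zero]
    exact congrArg Subtype.val h2
  let V := Localization.AtPrime Q
  haveI : IsDiscreteValuationRing V :=
    IsLocalization.AtPrime.isDiscreteValuationRing_of_dedekind_domain D hQ0 V
  haveI : Algebra.IsAlgebraic A K := (IsFractionRing.comap_isAlgebraic_iff (A := A) (K := K) (C := K)).2 inferInstance
  haveI : IsFractionRing D K := integralClosure.isFractionRing_of_algebraic (A := A) (fun x hx => by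
    apply IsFractionRing.injective A K
    rw [map_zero]
    exact hx)
  have hmap : ∀ y : Q.primeCompl, IsUnit (algebraMap D K y) := fun y => IsUnit.mk0 _
    ((map_ne_zero_iff _ (IsFractionRing.injective D K)).2 fun h => y.2 (h ▸ Q.zero_mem))
  letI : Algebra V K := (IsLocalization.lift hmap).toAlgebra
  haveI : IsScalarTower D V K := IsScalarTower.of_algebraMap_eq fun x => (IsLocalization.lift_eq hmap x).symm
  haveI : IsFractionRing V K := IsFractionRing.isFractionRing_of_isDomain_of_isLocalization Q.primeCompl V K
  have huV : IsUnit (p : V) := by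
    rw [← map_natCast ((algebraMap D V).comp (algebraMap A D))]
    exact hu.map _
  obtain ⟨h1, h2⟩ := hK.residueField_dvr_any V huV K
  refine ⟨h1, ?_⟩
  letI : Field (D ⧸ Q) := Ideal.Quotient.field Q
  let f : ResidueField A →+* D ⧸ Q := Ideal.quotientMap Q (algebraMap A D) fun r hr => (hcomap r).1 hr
  letI : Algebra (ResidueField A) (D ⧸ Q) := f.toAlgebra
  refine ⟨D ⧸ Q, inferInstance, inferInstance, ?_,
    h2.of_ringEquiv (IsLocalization.AtPrime.equivQuotMaximalIdeal Q V).symm⟩
  haveI : IsScalarTower A (ResidueField A) (D ⧸ Q) := IsScalarTower.of_algebraMap_eq fun r => rfl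
  haveI : IsNoetherian A (D ⧸ Q) := (isFiniteLength_iff_isNoetherian_isArtinian.mp
    (DomDVR.isFiniteLength_quotient D ha0 Q ((hcomap a).1 ha))).1
  exact Module.Finite.of_restrictScalars_finite A (ResidueField A) (D ⧸ Q)

/-- A finite domain over `C` with given finite fraction field. -/
theorem exists_finite_domain (C F L : Type u) [CommRing C] [IsDomain C] [Field F] [Algebra C F] [IsFractionRing C F]
    [Field L] [Algebra C L] [Algebra F L] [IsScalarTower C F L] [FiniteDimensional F L] :
    ∃ B : Subalgebra C L, Module.Finite C B ∧ IsFractionRing B L := by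
  classical
  haveI : Algebra.IsAlgebraic C L := (IsFractionRing.comap_isAlgebraic_iff (A := C) (K := F) (C := L)).2
    inferInstance
  let b := Module.finBasis F L
  obtain ⟨y, hy, hint⟩ := Algebra.IsAlgebraic.exists_integral_multiples C (Finset.univ.image b)
  let S : Set L := Set.range fun i => y • b i
  let B := Algebra.adjoin C S
  have hfin : Module.Finite C B := Module.Finite.iff_fg.2 (fg_adjoin_of_finite (Set.finite_range _) (by
    rintro _ ⟨i, rfl⟩
    exact hint _ (Finset.mem_image_of_mem _ (Finset.mem_univ i))))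
  refine ⟨B, hfin, ?_⟩
  haveI : FaithfulSMul B L := (faithfulSMul_iff_algebraMap_injective B L).2 Subtype.val_injective
  refine IsFractionRing.of_field B L fun z => ?_
  obtain ⟨c, hc⟩ := IsLocalization.exist_integer_multiples C⁰ Finset.univ fun i => b.repr z i
  choose w hw using fun i => hc i (Finset.mem_univ i)
  let num : B := ∑ i, algebraMap C B (w i) * ⟨y • b i, Algebra.subset_adjoin ⟨i, rfl⟩⟩
  let den : B := algebraMap C B (c * y)
  refine ⟨num, den, ?_⟩
  have hne : (algebraMap C L) ((c : C) * y) ≠ 0 := by
    rw [IsScalarTower.algebraMap_apply C F L, map_ne_zero_iff _ (algebraMap F L).injective,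
      map_ne_zero_iff _ (IsFractionRing.injective C F)]
    exact mul_ne_zero (nonZeroDivisors.ne_zero c.2) hy
  rw [eq_div_iff (show algebraMap B L den ≠ 0 from hne)]
  show z * algebraMap C L (c * y) = ((num : B) : L)
  rw [show ((num : B) : L) = ∑ i, algebraMap C L (w i) * (y • b i) from
    (map_sum B.val _ _).trans (Finset.sum_congr rfl fun i _ => rfl)]
  conv_lhs => rw [← b.sum_repr z, Finset.sum_mul]
  refine Finset.sum_congr rfl fun i _ => ?_
  rw [IsScalarTower.algebraMap_apply C F L (w i), hw i, Algebra.smul_def, Algebra.smul_def,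
    Algebra.smul_def, map_mul, map_mul, ← IsScalarTower.algebraMap_apply]
  ring

/-- The lower bound along a chain of primes. -/
theorem exists_finite_residue_cdP : ∀ (n : ℕ) (A : Type u) [CommRing A] [IsDomain A] [IsNoetherianRing A] [IsLocalRing A]
    (K : Type u) [Field K] [Algebra A K] [IsFractionRing A K], ringKrullDim A = n → IsUnit (p : A) → ∀ d : ℕ,
      CdP p d K → n ≤ d ∧ ∃ (L : Type u) (_ : Field L) (_ : Algebra (ResidueField A) L),
        FiniteDimensional (ResidueField A) L ∧ CdP p (d - n) L := by
  intro n
  induction n with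
  | zero =>
    intro A _ _ _ _ K _ _ _ hn hu d hK
    haveI : Ring.KrullDimLE 0 A := Ring.krullDimLE_iff.mpr hn.le
    have hF : IsField A := Ring.KrullDimLE.isField_of_isDomain
    have hm : maximalIdeal A = ⊥ := IsLocalRing.isField_iff_maximalIdeal_eq.mp hF
    refine ⟨Nat.zero_le d, ResidueField A, inferInstance, inferInstance, inferInstance, ?_⟩
    have h1 : Function.Bijective (algebraMap A K) := hF.localization_map_bijective zero_notMem_nonZeroDivisors
    exact hK.of_ringEquiv (((RingEquiv.ofBijective _ h1).symm).trans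
      ((RingEquiv.quotientBot A).symm.trans (Ideal.quotEquivOfEq hm.symm)))
  | succ n ih =>
    intro A _ _ _ _ K _ _ _ hn hu d hK
    obtain ⟨l, hl⟩ : ∃ l : LTSeries (PrimeSpectrum A), l.length = n + 1 := by
      haveI : FiniteDimensionalOrder (PrimeSpectrum A) := Order.finiteDimensionalOrder_iff_krullDim_ne_bot_and_top.2
        ⟨by rw [← ringKrullDim, hn]; exact WithBot.natCast_ne_bot _,
          by
            rw [← ringKrullDim, hn]
            intro h
            exact ENat.natCast_ne_top (n + 1) (WithBot.coe_injective (h.trans WithBot.coe_top.symm))⟩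
      refine ⟨LTSeries.longestOf _, ?_⟩
      have h := Order.krullDim_eq_length_of_finiteDimensionalOrder (α := PrimeSpectrum A)
      rw [← ringKrullDim, hn] at h
      exact_mod_cast h.symm
    let P : PrimeSpectrum A := l ⟨1, by omega⟩
    have hlt : l ⟨0, by omega⟩ < P := l.strictMono Nat.zero_lt_one
    have hP0 : P.asIdeal ≠ ⊥ := fun h => hlt.not_ge ((show P.asIdeal ≤ (l ⟨0, by omega⟩).asIdeal from h.le.trans bot_le))
    haveI := P.2
    -- height and coheight
    have hh1 : 1 ≤ Order.height P := by
      rw [Order.one_le_iff_pos]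
      exact Order.height_pos.2 fun h => hlt.not_ge (h hlt.le)
    have hc1 : (n : ℕ∞) ≤ Order.coheight P := by
      refine le_trans (le_of_eq ?_) (Order.length_le_coheight (p := l.drop ⟨1, by omega⟩) ?_)
      · simp [hl]
      · simp [P]
    have hsum : Order.height P + Order.coheight P ≤ (n : ℕ∞) + 1 := by
      have h := Order.krullDim_eq_iSup_height_add_coheight_of_nonempty (α := PrimeSpectrum A)
      rw [← ringKrullDim, hn] at h
      have h' : ((n + 1 : ℕ) : ℕ∞) = ⨆ a : PrimeSpectrum A, Order.height a + Order.coheight a := by exact_mod_cast h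
      rw [Nat.cast_succ] at h'
      exact h'.symm ▸ le_iSup (fun a : PrimeSpectrum A => Order.height a + Order.coheight a) P
    obtain ⟨h₀, hh₀⟩ : ∃ m : ℕ, Order.height P = m := ENat.ne_top_iff_exists.1
      (ne_top_of_le_ne_top (by exact_mod_cast ENat.natCast_ne_top (n + 1)) (le_self_add.trans hsum)) |>.imp fun _ h => h.symm
    obtain ⟨c₀, hc₀⟩ : ∃ m : ℕ, Order.coheight P = m := ENat.ne_top_iff_exists.1
      (ne_top_of_le_ne_top (by exact_mod_cast ENat.natCast_ne_top (n + 1)) (le_add_self.trans hsum)) |>.imp fun _ h => h.symm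
    rw [hh₀] at hh1 hsum
    rw [hc₀] at hc1 hsum
    norm_cast at hh1 hc1 hsum
    obtain rfl : h₀ = 1 := by omega
    obtain rfl : c₀ = n := by omega
    let A₁ := Localization.AtPrime P.asIdeal
    haveI : IsNoetherianRing A₁ := IsLocalization.isNoetherianRing P.asIdeal.primeCompl A₁ inferInstance
    haveI : Ring.KrullDimLE 1 A₁ := Ring.krullDimLE_iff.mpr (le_of_eq (by
      rw [IsLocalization.AtPrime.ringKrullDim_eq_height P.asIdeal A₁, PrimeSpectrum.height_eq_orderHeight, hh₀]
      rfl))
    have hne1 : ¬ IsField A₁ := fun h => hP0 <| by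
      have hm := IsLocalRing.isField_iff_maximalIdeal_eq.mp h
      rw [← Localization.AtPrime.map_eq_maximalIdeal] at hm
      exact (Ideal.map_eq_bot_iff_of_injective (IsLocalization.injective A₁ P.asIdeal.primeCompl_le_nonZeroDivisors)).1 hm
    let C := A ⧸ P.asIdeal
    have hC : ringKrullDim C = (c₀ : ℕ) := by
      rw [ringKrullDim_quotient, show PrimeSpectrum.zeroLocus (P.asIdeal : Set A) = Set.Ici P from
        Set.ext fun x => (PrimeSpectrum.mem_zeroLocus x _).trans Iff.rfl, ← Order.coheight_eq_krullDim_Ici, hc₀]
      rfl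
    have hmap : ∀ y : P.asIdeal.primeCompl, IsUnit (algebraMap A K y) := fun y => IsUnit.mk0 _
      ((map_ne_zero_iff _ (IsFractionRing.injective A K)).2 fun h => y.2 (h ▸ P.asIdeal.zero_mem))
    letI : Algebra A₁ K := (IsLocalization.lift hmap).toAlgebra
    haveI : IsScalarTower A A₁ K := IsScalarTower.of_algebraMap_eq fun x => (IsLocalization.lift_eq hmap x).symm
    haveI : IsFractionRing A₁ K := IsFractionRing.isFractionRing_of_isDomain_of_isLocalization P.asIdeal.primeCompl A₁ K
    have hu₁ : IsUnit (p : A₁) := by
      rw [← map_natCast (algebraMap A A₁)]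
      exact hu.map _
    obtain ⟨hd1, L, _, _, hLfin, hL⟩ := exists_finite_residue_dim_one A₁ hne1 hu₁ K hK
    let F := P.asIdeal.ResidueField
    letI : Algebra F L := inferInstanceAs (Algebra (ResidueField A₁) L)
    haveI : FiniteDimensional F L := hLfin
    letI : Algebra C L := ((algebraMap F L).comp (algebraMap C F)).toAlgebra
    haveI : IsScalarTower C F L := IsScalarTower.of_algebraMap_eq fun _ => rfl
    obtain ⟨B, hBfin, hBfrac⟩ := exists_finite_domain C F L
    have hinjB : Function.Injective (algebraMap C B) := fun x y h =>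
      IsFractionRing.injective C F ((algebraMap F L).injective (congrArg Subtype.val h))
    haveI : Algebra.IsIntegral C B := Algebra.IsIntegral.of_finite C B
    haveI : IsNoetherianRing B := IsNoetherianRing.of_finite C B
    have hB : ringKrullDim B = (c₀ : ℕ) := by
      rw [← GrSegreLib.ringKrullDim_eq_of_integral_injective (algebraMap C B) hinjB
        (algebraMap_isIntegral_iff.2 inferInstance), hC]
    obtain ⟨M, hM, hMh⟩ : ∃ M : Ideal B, M.IsMaximal ∧ M.height = c₀ := by
      have hsup := Ideal.sup_isMaximal_height_eq_ringKrullDim (R := B)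
      rw [hB] at hsup
      have hsup' : (⨆ (I : Ideal B) (_ : I.IsMaximal), I.height) = (c₀ : ℕ∞) := by exact_mod_cast hsup
      by_contra hno
      have hlt : ∀ I : Ideal B, I.IsMaximal → I.height < (c₀ : ℕ∞) := fun I hI =>
        lt_of_le_of_ne (hsup' ▸ le_iSup₂ (f := fun (I : Ideal B) (_ : I.IsMaximal) => I.height) I hI)
          fun h => hno ⟨I, hI, h⟩
      obtain ⟨M₀, hM₀⟩ := Ideal.exists_maximal B
      rcases c₀ with _ | m
      · exact absurd (hlt M₀ hM₀) (by simp)
      · have : ((m + 1 : ℕ) : ℕ∞) ≤ (m : ℕ∞) := hsup' ▸ iSup₂_le fun I hI =>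
          ENat.lt_natCast_add_one_iff.1 (by exact_mod_cast hlt I hI)
        norm_cast at this
        omega
    haveI := hM
    let A' := Localization.AtPrime M
    haveI : IsNoetherianRing A' := IsLocalization.isNoetherianRing M.primeCompl A' inferInstance
    have hmap' : ∀ y : M.primeCompl, IsUnit (algebraMap B L y) := fun y => IsUnit.mk0 _
      ((map_ne_zero_iff _ (IsFractionRing.injective B L)).2 fun h => y.2 (h ▸ M.zero_mem))
    letI : Algebra A' L := (IsLocalization.lift hmap').toAlgebra
    haveI : IsScalarTower B A' L := IsScalarTower.of_algebraMap_eq fun x => (IsLocalization.lift_eq hmap' x).symm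
    haveI : IsFractionRing A' L := IsFractionRing.isFractionRing_of_isDomain_of_isLocalization M.primeCompl A' L
    let g₀ : A →+* B := (algebraMap C B).comp (Ideal.Quotient.mk P.asIdeal)
    letI : Algebra A B := g₀.toAlgebra
    haveI : IsScalarTower A C B := IsScalarTower.of_algebraMap_eq fun _ => rfl
    haveI : Module.Finite A C := Module.Finite.of_surjective (Ideal.Quotient.mkₐ A P.asIdeal).toLinearMap
      Ideal.Quotient.mk_surjective
    haveI : Module.Finite A B := Module.Finite.trans C B
    let g : A →+* A' := algebraMap A A'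
    have hu' : IsUnit (p : A') := by
      rw [← map_natCast g]
      exact hu.map _
    obtain ⟨hn', L', _, _, hL'fin, hL'⟩ := ih A' L (by
      rw [IsLocalization.AtPrime.ringKrullDim_eq_height M A', hMh]
      rfl) hu' (d - 1) hL
    refine ⟨by omega, L', inferInstance, ?_⟩
    haveI : IsLocalHom (algebraMap A A') := ⟨fun a ha => by
      rw [IsScalarTower.algebraMap_apply A B A'] at ha
      have h1 : g₀ a ∉ M := (IsLocalization.AtPrime.isUnit_to_map_iff A' M _).1 ha
      by_contra h
      apply h1
      haveI : Algebra.IsIntegral A B := Algebra.IsIntegral.of_finite A B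
      have h2 : M.comap (algebraMap A B) = maximalIdeal A :=
        IsLocalRing.eq_maximalIdeal (Ideal.isMaximal_comap_of_isIntegral_of_isMaximal M)
      have h3 : a ∈ M.comap (algebraMap A B) := h2.symm ▸ (mem_maximalIdeal a).2 h
      exact h3⟩
    haveI : Module.Finite A (ResidueField A') := by
      refine Module.Finite.of_surjective (IsScalarTower.toAlgHom A B (ResidueField A')).toLinearMap fun z => ?_
      obtain ⟨b, hb⟩ := (Ideal.bijective_algebraMap_quotient_residueField M).2 z
      obtain ⟨b, rfl⟩ := Ideal.Quotient.mk_surjective b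
      exact ⟨b, hb⟩
    haveI : Module.Finite (ResidueField A) (ResidueField A') :=
      Module.Finite.of_restrictScalars_finite A (ResidueField A) (ResidueField A')
    letI : Algebra (ResidueField A) L' :=
      ((algebraMap (ResidueField A') L').comp (algebraMap (ResidueField A) (ResidueField A'))).toAlgebra
    haveI : IsScalarTower (ResidueField A) (ResidueField A') L' := IsScalarTower.of_algebraMap_eq fun _ => rfl
    haveI := hL'fin
    refine ⟨inferInstance, Module.Finite.trans (ResidueField A') L', ?_⟩
    rwa [show d - 1 - c₀ = d - (c₀ + 1) by omega] at hL'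

/-- With Serre's theorem. -/
theorem le_and_cdP_of_ringKrullDim {n d : ℕ} (A : Type u) [CommRing A] [IsDomain A] [IsNoetherianRing A] [IsLocalRing A]
    (K : Type u) [Field K] [Algebra A K] [IsFractionRing A K] (hn : ringKrullDim A = n) (hu : IsUnit (p : A))
    (hK : CdP p d K) : n ≤ d ∧ ((p ≠ 2 ∨ ¬ ∃ _ : LinearOrder (ResidueField A), IsStrictOrderedRing (ResidueField A)) →
      CdP p (d - n) (ResidueField A)) := by
  obtain ⟨h1, L, _, _, hfin, hL⟩ := exists_finite_residue_cdP n A K hn hu d hK
  refine ⟨h1, fun hord => CdP.of_finite ?_ hord L hL⟩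
  rw [← map_natCast (residue A)]
  exact (residue_ne_zero_iff_isUnit _).2 hu

end Groth.Agent.CdTameLib
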