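import Groth.Agent.CdTameLib.DimChain
import Groth.Agent.H9GeomConn

/-!
# Henselian local domains of dimension one
-/

set_option autoImplicit false
set_option backward.isDefEq.respectTransparency false
set_option backward.isDefEq.respectTransparency.types false
set_option linter.style.haveILetI false
set_option maxHeartbeats 1000000

universe u

open IsLocalRing

noncomputable section

namespace Groth.Agent.CdTameLib

theorem henselianLocalRing_of_integral (R : Type u) [CommRing R] [HenselianLocalRing R]
    (S : Type u) [CommRing S] [IsLocalRing S] [Algebra R S] [Algebra.IsIntegral R S] : HenselianLocalRing S := by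
  rw [← Hensel.henselianRing_maximalIdeal_iff]
  haveI : HenselianRing R (maximalIdeal R) := Hensel.henselianRing_maximalIdeal_iff.2 inferInstance
  haveI := Hensel.of_isIntegral (I := IsLocalRing.maximalIdeal R) S
  refine Hensel.of_le_radical (I := (IsLocalRing.maximalIdeal R).map (algebraMap R S)) ?_
  rw [Ideal.radical_eq_sInf]
  refine le_sInf fun P ⟨hP, hPp⟩ => ?_
  have : (P.comap (algebraMap R S)).IsMaximal := by
    have h1 : IsLocalRing.maximalIdeal R ≤ P.comap (algebraMap R S) := Ideal.map_le_iff_le_comap.1 hP
    rw [← (IsLocalRing.maximalIdeal.isMaximal R).eq_of_le (Ideal.comap_ne_top _ hPp.ne_top) h1]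
    exact IsLocalRing.maximalIdeal.isMaximal R
  exact (IsLocalRing.eq_maximalIdeal (Ideal.isMaximal_of_isIntegral_of_isMaximal_comap P this)).ge

/-- Orderings restrict along field homomorphisms. -/
theorem exists_linearOrder_of_ringHom {k k' : Type u} [Field k] [Field k'] [LinearOrder k'] [IsStrictOrderedRing k']
    (f : k →+* k') : ∃ _ : LinearOrder k, IsStrictOrderedRing k := by
  refine exists_linearOrder fun h => ?_
  obtain ⟨l, hl⟩ := isSumSq_iff_exists_list h
  have h1 := congrArg f hl
  rw [map_neg, map_one, map_list_sum, List.map_map] at h1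
  have h2 : 0 ≤ (List.map (⇑f ∘ fun a => a * a) l).sum := List.sum_nonneg fun x hx => by
    obtain ⟨a, -, rfl⟩ := List.mem_map.1 hx
    show 0 ≤ f (a * a)
    rw [map_mul]
    exact mul_self_nonneg _
  rw [← h1] at h2
  exact absurd h2 (not_le.2 neg_one_lt_zero)

variable {p : ℕ} [hp : Fact p.Prime]

/-- The field of fractions of a henselian local domain of dimension one. -/
theorem cdP_fractionRing_dim_one (A : Type u) [CommRing A] [IsDomain A] [IsNoetherianRing A] [HenselianLocalRing A]
    [Ring.KrullDimLE 1 A] (hA : ¬ IsField A) (hu : IsUnit (p : A)) (K : Type u) [Field K] [Algebra A K]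
    [IsFractionRing A K] {d : ℕ} :
    (CdP p d (ResidueField A) → CdP p (d + 1) K) ∧
      ((p ≠ 2 ∨ ¬ ∃ _ : LinearOrder (ResidueField A), IsStrictOrderedRing (ResidueField A)) →
        CdP p (d + 1) K → CdP p d (ResidueField A)) ∧ ¬ CdP p 0 K := by
  refine ⟨fun hk => ?_, fun hord hK => ?_, fun hK => ?_⟩
  · let D := integralClosure A K
    haveI : IsDedekindDomain D := DomDVR.isDedekindDomain_integralClosure
    haveI : IsLocalRing D := H9GeomConn.isLocalRing_of_integral_domain A D
    have hinj : Function.Injective (algebraMap A D) := fun x y h =>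
      IsFractionRing.injective A K (congrArg Subtype.val h)
    haveI : FaithfulSMul A D := (faithfulSMul_iff_algebraMap_injective A D).2 hinj
    have hne : ¬ IsField D := fun h => hA (isField_of_isIntegral_of_isField hinj h)
    haveI : IsDiscreteValuationRing D :=
      ((IsDiscreteValuationRing.TFAE D hne).out 2 0).1 (inferInstance : IsDedekindDomain D)
    haveI : HenselianLocalRing D := henselianLocalRing_of_integral A D
    haveI : Algebra.IsAlgebraic A K := (IsFractionRing.comap_isAlgebraic_iff (A := A) (K := K) (C := K)).2 inferInstance
    haveI : IsFractionRing D K := integralClosure.isFractionRing_of_algebraic (A := A) (fun x hx => by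
      apply IsFractionRing.injective A K
      rw [map_zero]
      exact hx)
    haveI : IsLocalHom (algebraMap A D) := RingHom.IsIntegral.isLocalHom (algebraMap_isIntegral_iff.2 inferInstance) hinj
    haveI : Algebra.IsAlgebraic (ResidueField A) (ResidueField D) := ⟨fun z => by
      obtain ⟨z, rfl⟩ := residue_surjective z
      have h1 : IsIntegral A (residue D z) :=
        (Algebra.IsIntegral.isIntegral (R := A) z).map (IsScalarTower.toAlgHom A D (ResidueField D))
      exact (h1.tower_top (A := ResidueField A)).isAlgebraic⟩
    have huD : IsUnit (p : D) := by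
      rw [← map_natCast (algebraMap A D)]
      exact hu.map _
    exact (hk.of_isAlgebraic (ResidueField D)).fractionRing_dvr (shCd_of_isUnit huD) K
  · obtain ⟨-, L, _, _, hfin, hL⟩ := exists_finite_residue_dim_one A hA hu K hK
    rw [Nat.add_sub_cancel] at hL
    refine CdP.of_finite ?_ hord L hL
    rw [← map_natCast (residue A)]
    exact (residue_ne_zero_iff_isUnit _).2 hu
  · exact absurd (exists_finite_residue_dim_one A hA hu K hK).1 (by omega)

end Groth.Agent.CdTameLib
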