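import Groth.Agent.CdTameLib.Pred
import Groth.Agent.WLocalLib.FiniteContr
import Groth.Agent.NormalTensor.Henselian
import Mathlib.FieldTheory.KummerExtension
import Mathlib.RingTheory.DedekindDomain.IntegralClosure
import Mathlib.RingTheory.DiscreteValuationRing.TFAE

/-!
# Fields of fractions of strictly henselian discrete valuation rings have `cd_ℓ ≤ 1`
-/

set_option autoImplicit false
set_option backward.isDefEq.respectTransparency false
set_option backward.isDefEq.respectTransparency.types false
set_option linter.style.haveILetI false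
set_option maxHeartbeats 1000000

universe u

open IsLocalRing Polynomial

noncomputable section

namespace Groth.Agent.CdTameLib

variable {p : ℕ} [hp : Fact p.Prime]

/-- The integral closure in a finite separable extension is again a strictly henselian DVR. -/
theorem exists_dvr_extension (R K E : Type u) [CommRing R] [IsDomain R] [IsDiscreteValuationRing R]
    (hR : EtCoh.IsStrictlyHenselianLocalRing R) [Field K] [Algebra R K] [IsFractionRing R K] [Field E] [Algebra K E]
    [FiniteDimensional K E] [Algebra.IsSeparable K E] :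
    ∃ (B : Type u) (_ : CommRing B) (_ : IsDomain B) (_ : IsDiscreteValuationRing B) (_ : Algebra B E)
      (_ : IsFractionRing B E) (f : R →+* B), EtCoh.IsStrictlyHenselianLocalRing B ∧
        (PerfectField (ResidueField R) → PerfectField (ResidueField B)) := by
  letI : Algebra R E := ((algebraMap K E).comp (algebraMap R K)).toAlgebra
  haveI : IsScalarTower R K E := IsScalarTower.of_algebraMap_eq fun _ => rfl
  obtain ⟨_, _⟩ := hR
  let B := integralClosure R E
  haveI : Module.Finite R B := IsIntegralClosure.finite R K E B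
  haveI : IsLocalRing B := NormalTensor.isLocalRing_of_finite_domain R B
  haveI : IsDedekindDomain B := IsIntegralClosure.isDedekindDomain R K E B
  haveI : IsFractionRing B E := IsIntegralClosure.isFractionRing_of_finite_extension R K E B
  have hinj : Function.Injective (algebraMap R B) := by
    refine Function.Injective.of_comp (f := algebraMap B E) ?_
    rw [← RingHom.coe_comp, ← IsScalarTower.algebraMap_eq R B E, IsScalarTower.algebraMap_eq R K E]
    exact (algebraMap K E).injective.comp (IsFractionRing.injective R K)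
  have hne : ¬ IsField B := fun h => by
    haveI : FaithfulSMul R B := (faithfulSMul_iff_algebraMap_injective R B).2 hinj
    exact IsDiscreteValuationRing.not_isField R (isField_of_isIntegral_of_isField hinj h)
  haveI : IsDiscreteValuationRing B := ((IsDiscreteValuationRing.TFAE B hne).out 2 0).1 (inferInstance : IsDedekindDomain B)
  refine ⟨B, inferInstance, inferInstance, inferInstance, inferInstance, inferInstance, algebraMap R B,
    WLocalLib.isStrictlyHenselian_of_finite R ⟨inferInstance, inferInstance⟩ B, fun _ => ?_⟩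
  haveI : IsLocalHom (algebraMap R B) := RingHom.IsIntegral.isLocalHom (algebraMap_isIntegral_iff.2 inferInstance) hinj
  haveI : Module.Finite (ResidueField R) (ResidueField B) := inferInstance
  exact Algebra.IsAlgebraic.perfectField (K := ResidueField R) (L := ResidueField B)

/-- Units are `p`-th powers. -/
theorem exists_pow_eq_unit {B : Type u} [CommRing B] (hB : ∃ _ : IsLocalRing B, EtCoh.IsStrictlyHenselianLocalRing B)
    (hu : IsUnit (p : B)) (u : Bˣ) : ∃ w : Bˣ, w ^ p = u := by
  obtain ⟨_, ⟨_, _⟩⟩ := hB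
  have he : (p : ResidueField B) ≠ 0 := by
    rw [← map_natCast (residue B), residue_ne_zero_iff_isUnit]
    exact hu
  haveI : NeZero (p : ResidueField B) := ⟨he⟩
  obtain ⟨c, hc⟩ := IsSepClosed.exists_pow_nat_eq (residue B (u : B)) p
  obtain ⟨c, rfl⟩ := residue_surjective c
  have hc0 : IsUnit c := by
    rw [← residue_ne_zero_iff_isUnit]
    intro h
    rw [h, zero_pow hp.out.ne_zero] at hc
    exact (residue_ne_zero_iff_isUnit _).mpr u.isUnit hc.symm
  obtain ⟨a, ha, -⟩ := HenselianLocalRing.is_henselian (X ^ p - C (u : B)) (monic_X_pow_sub_C _ hp.out.ne_zero) c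
    (by rw [← residue_eq_zero_iff]; simp [hc])
    (by
      simp only [derivative_sub, derivative_X_pow, derivative_C, sub_zero, eval_mul, eval_C, eval_pow, eval_X]
      exact hu.mul (hc0.pow _))
  simp only [IsRoot.def, eval_sub, eval_pow, eval_X, eval_C, sub_eq_zero] at ha
  have : IsUnit a := by
    rw [← isUnit_pow_iff hp.out.ne_zero, ha]; exact u.isUnit
  exact ⟨this.unit, Units.ext (by simpa using ha)⟩

theorem exists_primitive_root {B : Type u} [CommRing B] [IsDomain B] (hB : EtCoh.IsStrictlyHenselianLocalRing B)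
    (hu : IsUnit (p : B)) : ∃ z : B, IsPrimitiveRoot z p := by
  obtain ⟨_, _⟩ := hB
  have he : (p : ResidueField B) ≠ 0 := by
    rw [← map_natCast (residue B), residue_ne_zero_iff_isUnit]
    exact hu
  haveI : NeZero (p : ResidueField B) := ⟨he⟩
  have hcyc : (cyclotomic p (ResidueField B)).degree ≠ 0 := by
    rw [degree_cyclotomic, Nat.totient_prime hp.out]
    exact_mod_cast Nat.sub_ne_zero_of_lt hp.out.one_lt
  obtain ⟨c, hc⟩ := IsSepClosed.exists_root _ hcyc (separable_cyclotomic p (ResidueField B))
  obtain ⟨c, rfl⟩ := residue_surjective c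
  have hroot : IsPrimitiveRoot (residue B c) p := isRoot_cyclotomic_iff.1 hc
  obtain ⟨a, ha, hac⟩ := HenselianLocalRing.is_henselian (X ^ p - C (1 : B)) (monic_X_pow_sub_C _ hp.out.ne_zero) c
    (by rw [← residue_eq_zero_iff]; simp [hroot.pow_eq_one])
    (by
      simp only [derivative_sub, derivative_X_pow, derivative_C, sub_zero, eval_mul, eval_C, eval_pow, eval_X]
      refine hu.mul (IsUnit.pow _ ?_)
      rw [← residue_ne_zero_iff_isUnit]
      exact hroot.ne_zero hp.out.ne_zero)
  simp only [IsRoot.def, eval_sub, eval_pow, eval_X, eval_C, sub_eq_zero] at ha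
  refine ⟨a, IsPrimitiveRoot.iff_orderOf.2 (orderOf_eq_prime ha fun h => hroot.ne_one hp.out.one_lt ?_)⟩
  rw [h, ← residue_eq_zero_iff, map_sub, map_one, sub_eq_zero] at hac
  exact hac.symm

/-- Norms from Galois extensions of degree `p` are surjective. -/
theorem exists_norm_dvr (B E L : Type u) [CommRing B] [IsDomain B] [IsDiscreteValuationRing B]
    (hB : EtCoh.IsStrictlyHenselianLocalRing B) (hu : IsUnit (p : B)) [Field E] [Algebra B E] [IsFractionRing B E]
    [Field L] [Algebra E L] [FiniteDimensional E L] [IsGalois E L] (hL : Module.finrank E L = p) (a : Eˣ) :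
    ∃ b : L, Algebra.norm E b = (a : E) := by
  let H : Subgroup Eˣ := (Units.map (Algebra.norm E : L →* E)).range
  suffices h : a ∈ H by
    obtain ⟨b, hb⟩ := h
    exact ⟨b, congrArg Units.val hb⟩
  let ι : Bˣ →* Eˣ := Units.map (algebraMap B E : B →* E)
  obtain ⟨π, hπ⟩ := IsDiscreteValuationRing.exists_irreducible B
  let P : Eˣ := Units.mk0 (algebraMap B E π) ((map_ne_zero_iff _ (IsFractionRing.injective B E)).2 hπ.ne_zero)
  have hpow : ∀ x : Eˣ, x ^ p ∈ H := fun x => ⟨Units.map (algebraMap E L : E →* L) x, Units.ext (by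
    show Algebra.norm E (algebraMap E L (x : E)) = (x : E) ^ p
    rw [Algebra.norm_algebraMap, hL])⟩
  have hdec : ∀ x : Eˣ, ∃ (i : ℤ) (w : Eˣ), x = P ^ i * w ^ p := fun x => by
    obtain ⟨y, z, hz, hx⟩ := IsFractionRing.div_surjective (A := B) (x : E)
    have hy : y ≠ 0 := by rintro rfl; rw [map_zero, zero_div] at hx; exact x.ne_zero hx.symm
    obtain ⟨i, u, rfl⟩ := IsDiscreteValuationRing.eq_unit_mul_pow_irreducible hy hπ
    obtain ⟨j, v, rfl⟩ := IsDiscreteValuationRing.eq_unit_mul_pow_irreducible (nonZeroDivisors.ne_zero hz) hπ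
    obtain ⟨w, hw⟩ := exists_pow_eq_unit ⟨inferInstance, hB⟩ hu (u / v)
    refine ⟨(i : ℤ) - j, ι w, Units.ext ?_⟩
    rw [← map_pow, hw, _root_.map_div, ← hx]
    simp only [map_mul, map_pow, ι, P, Units.val_mul, Units.val_div_eq_div_val, Units.coe_map, MonoidHom.coe_coe,
      Units.val_zpow_eq_zpow_val, Units.val_mk0, zpow_sub₀ ((map_ne_zero_iff _ (IsFractionRing.injective B E)).2 hπ.ne_zero),
      zpow_natCast]
    field_simp
  obtain ⟨z, hz⟩ := exists_primitive_root hB hu
  have hζ : IsPrimitiveRoot (algebraMap B E z) p := hz.map_of_injective (IsFractionRing.injective B E)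
  haveI : IsCyclic (L ≃ₐ[E] L) := isCyclic_of_prime_card (p := p) (by rw [IsGalois.card_aut_eq_finrank, hL])
  obtain ⟨α, hα, htop⟩ := exists_root_adjoin_eq_top_of_isCyclic E L
    ⟨algebraMap B E z, by rw [hL, mem_primitiveRoots hp.out.pos]; exact hζ⟩
  rw [hL] at hα
  obtain ⟨c, hc⟩ := hα
  have hirr := irreducible_X_pow_sub_C_of_root_adjoin_eq_top (a := c) (by rw [hL]; exact hc.symm) htop
  rw [hL] at hirr
  have hc0 : c ≠ 0 := by
    rintro rfl
    exact (X_pow_sub_C_irreducible_iff_of_prime hp.out).1 hirr 0 (zero_pow hp.out.ne_zero)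
  obtain ⟨i, w, hiw⟩ := hdec (Units.mk0 c hc0)
  have hi : ¬ (p : ℤ) ∣ i := by
    rintro ⟨j, rfl⟩
    refine (X_pow_sub_C_irreducible_iff_of_prime hp.out).1 hirr ((P ^ j * w : Eˣ) : E) ?_
    rw [← Units.val_pow_eq_pow_val, mul_pow, ← zpow_natCast (P ^ j), ← zpow_mul, mul_comm j, ← hiw, Units.val_mk0]
  -- the sign
  obtain ⟨e, he⟩ := exists_pow_eq_unit ⟨inferInstance, hB⟩ hu ((-1) ^ (p + 1))
  have hmin : minpoly E α = X ^ p - C c := (minpoly.eq_of_irreducible_of_monic hirr
    (by rw [map_sub, map_pow, aeval_X, aeval_C, hc, sub_self]) (monic_X_pow_sub_C _ hp.out.ne_zero)).symm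
  have hnorm : Algebra.norm E α = (-1) ^ (p + 1) * c := by
    have h1 := Algebra.PowerBasis.norm_gen_eq_coeff_zero_minpoly
      (IntermediateField.adjoin.powerBasis (IsIntegral.of_finite E α))
    have h2 : Module.finrank (IntermediateField.adjoin E {α}) L = 1 := by
      have h3 := Module.finrank_mul_finrank E (IntermediateField.adjoin E {α}) L
      rw [IntermediateField.adjoin.finrank (IsIntegral.of_finite E α), hmin, natDegree_X_pow_sub_C, hL] at h3
      exact Nat.eq_of_mul_eq_mul_left hp.out.pos (h3.trans (mul_one _).symm)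
    rw [Algebra.norm_eq_norm_adjoin, h2, pow_one, ← IntermediateField.adjoin.powerBasis_gen (IsIntegral.of_finite E α),
      h1, IntermediateField.adjoin.powerBasis_dim, IntermediateField.adjoin.powerBasis_gen,
      IntermediateField.minpoly_gen, hmin, natDegree_X_pow_sub_C, coeff_sub, coeff_X_pow, if_neg hp.out.ne_zero.symm,
      coeff_C_zero]
    ring
  have hC : Units.mk0 c hc0 ∈ H := by
    have h2 : (ι e) ^ p * Units.mk0 c hc0 ∈ H := by
      have hα0 : α ≠ 0 := by
        rintro rfl
        rw [zero_pow hp.out.ne_zero] at hc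
        exact hc0 ((algebraMap E L).injective (hc.trans (map_zero _).symm))
      refine ⟨Units.mk0 α hα0, Units.ext ?_⟩
      rw [← map_pow, he]
      show Algebra.norm E α = algebraMap B E ((((-1 : Bˣ) ^ (p + 1) : Bˣ)) : B) * c
      rw [hnorm, Units.val_pow_eq_pow_val, Units.val_neg, Units.val_one, map_pow, map_neg, map_one]
    exact (H.mul_mem_cancel_left (hpow _)).1 h2
  have hPi : P ^ i ∈ H := by
    rw [hiw] at hC
    exact (H.mul_mem_cancel_right (hpow _)).1 hC
  have hP : P ∈ H := by
    obtain ⟨s, t, hst⟩ := ((Nat.prime_iff_prime_int.1 hp.out).coprime_iff_not_dvd.2 hi)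
    have : P = (P ^ i) ^ t * (P ^ p) ^ s := by
      rw [← zpow_natCast P p, ← zpow_mul, ← zpow_mul, ← zpow_add, show i * t + (p : ℤ) * s = 1 by linear_combination hst,
        zpow_one]
    rw [this]
    exact H.mul_mem (H.zpow_mem hPi _) (H.zpow_mem (hpow _) _)
  obtain ⟨j, w', rfl⟩ := hdec a
  exact H.mul_mem (H.zpow_mem hP _) (hpow _)

/-- `cd_p ≤ 1`. -/
theorem cdP_one_of_strictlyHenselian_dvr (R K : Type u) [CommRing R] [IsDomain R] [IsDiscreteValuationRing R]
    (hR : EtCoh.IsStrictlyHenselianLocalRing R) [Field K] [Algebra R K] [IsFractionRing R K] (hu : IsUnit (p : R)) :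
    CdP p 1 K := by
  have hpK : (p : K) ≠ 0 := by
    rw [← map_natCast (algebraMap R K)]
    exact (hu.map _).ne_zero
  have hnorm : EtTraceLib.NormP p K := fun E L _ _ _ _ _ _ _ _ hd a => by
    obtain ⟨B, _, _, _, _, _, f, hB, -⟩ := exists_dvr_extension R K E hR
    refine exists_norm_dvr B E L hB ?_ hd a
    rw [← map_natCast f]
    exact hu.map f
  refine EtTraceLib.cd_one_of_brauer p hpK fun E _ _ _ _ x hx => ?_
  exact EtTraceLib.brauer_eq_zero_of_normP p (hnorm.of_finite p E) x 1 (by rwa [pow_one])

end Groth.Agent.CdTameLib
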