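import Groth.Agent.CdTameLib.DvrLine
import Groth.Agent.ConnEt.Component
import Mathlib.FieldTheory.PrimitiveElement
import Mathlib.RingTheory.Localization.Integral

/-!
# The cohomological dimension of the field of fractions of a henselian discrete valuation ring
-/

set_option autoImplicit false
set_option backward.isDefEq.respectTransparency false
set_option backward.isDefEq.respectTransparency.types false
set_option linter.style.haveILetI false
set_option maxHeartbeats 1000000

universe u

open CategoryTheory CategoryTheory.Limits AlgebraicGeometry Opposite IsLocalRing CategoryTheory.Abelian Polynomial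

noncomputable section

namespace Groth.Agent.CdTameLib

attribute [local instance] Groth.Agent.S0101.result

theorem SHCd.comp {p : ℕ} {R B : Type u} [CommRing R] [CommRing B] [IsLocalRing R] [IsLocalRing B] (f : R →+* B)
    [IsLocalHom f] (hinj : Function.Injective f) (hf : PerfectField (ResidueField R) → PerfectField (ResidueField B))
    (h : SHCd p R) :
    SHCd p B :=
  fun S _ _ _ hS g hg hgi hperf => haveI := hg; h S hS (g.comp f) (RingHom.isLocalHom_comp _ _) (hgi.comp hinj) (hperf ∘ hf)

theorem nontrivial_H0_const_zmod (p : ℕ) [Fact p.Prime] (k : Type u) [Field k] :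
    ∃ x : EtCoh.H (Spec (CommRingCat.of k)) (EtCoh.const (Spec (CommRingCat.of k)) (ZMod p)) 0, x ≠ 0 := by
  let X := Spec (CommRingCat.of k)
  let M : AddCommGrpCat.{u + 1} := AddCommGrpCat.of (ULift.{u + 1} (ZMod p))
  refine ⟨(Sheaf.H.equiv₀ (EtCoh.const X (ZMod p)) (EtCore.topIsTerminal X)).symm (EtPtsLib.cst M (EtCoh.top X) ⟨1⟩),
    fun h => ?_⟩
  have h1 := congrArg (Sheaf.H.equiv₀ (EtCoh.const X (ZMod p)) (EtCore.topIsTerminal X)) h
  rw [AddEquiv.apply_symm_apply, map_zero] at h1
  have h2 : EtPtsLib.cst M (EtCoh.top X) ⟨1⟩ = EtPtsLib.cst M (EtCoh.top X) 0 := h1.trans (map_zero _).symm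
  have h3 := congrArg ULift.down (EtTraceLib.cst_inj (IsLocalRing.closedPoint k : (EtCoh.top X).left) h2)
  exact one_ne_zero h3

/-- Finite separable extensions of the residue field lift. -/
theorem exists_lift_dvr (R E : Type u) [CommRing R] [IsDomain R] [IsDiscreteValuationRing R] [HenselianLocalRing R]
    [Field E] [Algebra (ResidueField R) E] [FiniteDimensional (ResidueField R) E]
    [Algebra.IsSeparable (ResidueField R) E] :
    ∃ (B : Type u) (_ : CommRing B) (_ : IsDomain B) (_ : IsDiscreteValuationRing B) (_ : HenselianLocalRing B)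
      (_ : Algebra R B) (_ : Module.Finite R B) (_ : IsLocalHom (algebraMap R B)),
      Function.Injective (algebraMap R B) ∧ Nonempty (ResidueField B ≃+* E) := by
  obtain ⟨ϖ, hϖ⟩ := IsDiscreteValuationRing.exists_irreducible R
  obtain ⟨α, hα⟩ := Field.exists_primitive_element (ResidueField R) E
  have hint : IsIntegral (ResidueField R) α := IsIntegral.of_finite _ α
  obtain ⟨f, hf, hdeg, hmon⟩ := lifts_and_degree_eq_and_monic (p := minpoly (ResidueField R) α)
    (f := residue R) (Polynomial.map_surjective (residue R) residue_surjective _) (minpoly.monic hint)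
  haveI : Module.Finite R (AdjoinRoot f) := hmon.finite_adjoinRoot
  haveI : IsNoetherianRing (AdjoinRoot f) := IsNoetherianRing.of_finite R _
  let φ : R →+* E := (algebraMap (ResidueField R) E).comp (residue R)
  let ψ : AdjoinRoot f →+* E := AdjoinRoot.lift φ α (by
    rw [← eval₂_map, hf]
    exact minpoly.aeval _ α)
  have hψsurj : Function.Surjective ψ := fun e => by
    obtain ⟨g, rfl⟩ : ∃ g : (ResidueField R)[X], aeval α g = e := by
      have : e ∈ (Algebra.adjoin (ResidueField R) {α}) := by
        rw [← IntermediateField.adjoin_simple_toSubalgebra_of_isAlgebraic hint.isAlgebraic, hα]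
        trivial
      rwa [Algebra.adjoin_singleton_eq_range_aeval] at this
    obtain ⟨g, rfl⟩ := Polynomial.map_surjective (residue R) residue_surjective g
    exact ⟨AdjoinRoot.mk f g, (AdjoinRoot.lift_mk _ g).trans (eval₂_map (residue R) (algebraMap _ E) α).symm⟩
  have hker : RingHom.ker ψ = Ideal.span {algebraMap R (AdjoinRoot f) ϖ} := by
    refine le_antisymm (fun a ha => ?_) ?_
    · obtain ⟨g, rfl⟩ := AdjoinRoot.mk_surjective a
      have h1 : aeval α (g.map (residue R)) = 0 := by
        rw [aeval_def, eval₂_map]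
        exact (AdjoinRoot.lift_mk _ g).symm.trans ha
      obtain ⟨q, hq⟩ := minpoly.dvd (ResidueField R) α h1
      obtain ⟨q, rfl⟩ := Polynomial.map_surjective (residue R) residue_surjective q
      have h2 : C ϖ ∣ g - f * q := by
        refine C_dvd_iff_dvd_coeff _ _ |>.2 fun i => ?_
        rw [← Ideal.mem_span_singleton, ← hϖ.maximalIdeal_eq, ← residue_eq_zero_iff, ← coeff_map, Polynomial.map_sub,
          Polynomial.map_mul, hf, ← hq, sub_self, coeff_zero]
      obtain ⟨r, hr⟩ := h2
      refine Ideal.mem_span_singleton.2 ⟨AdjoinRoot.mk f r, ?_⟩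
      rw [AdjoinRoot.algebraMap_eq, ← AdjoinRoot.mk_C, ← map_mul, ← hr, map_sub, map_mul, AdjoinRoot.mk_self,
        zero_mul, sub_zero]
    · refine (Ideal.span_singleton_le_iff_mem _).2 ?_
      show ψ (algebraMap R (AdjoinRoot f) ϖ) = 0
      rw [AdjoinRoot.algebraMap_eq, AdjoinRoot.lift_of, RingHom.comp_apply,
        (residue_eq_zero_iff ϖ).2 (hϖ.maximalIdeal_eq.ge (Ideal.mem_span_singleton_self ϖ)), map_zero]
  have hmax : (Ideal.span {algebraMap R (AdjoinRoot f) ϖ}).IsMaximal :=
    hker ▸ RingHom.ker_isMaximal_of_surjective ψ hψsurj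
  have huniq : ∀ M : Ideal (AdjoinRoot f), M.IsMaximal → M = Ideal.span {algebraMap R (AdjoinRoot f) ϖ} := fun M hM => by
    refine (hmax.eq_of_le hM.ne_top ((Ideal.span_singleton_le_iff_mem _).2 ?_)).symm
    have h1 : (M.comap (algebraMap R (AdjoinRoot f))).IsMaximal := Ideal.isMaximal_comap_of_isIntegral_of_isMaximal M
    have h2 := IsLocalRing.eq_maximalIdeal h1
    show ϖ ∈ M.comap (algebraMap R (AdjoinRoot f))
    rw [h2]
    exact hϖ.maximalIdeal_eq.ge (Ideal.mem_span_singleton_self ϖ)
  haveI : IsLocalRing (AdjoinRoot f) := IsLocalRing.of_unique_max_ideal ⟨_, hmax, huniq⟩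
  have hm : maximalIdeal (AdjoinRoot f) = Ideal.span {algebraMap R (AdjoinRoot f) ϖ} :=
    huniq _ inferInstance
  have hinj : Function.Injective (algebraMap R (AdjoinRoot f)) :=
    AdjoinRoot.of.injective_of_degree_ne_zero (by
      rw [hdeg]
      exact (minpoly.degree_pos hint).ne')
  obtain ⟨_, _⟩ := ArtinVanLib.exists_isDomain_dvr (algebraMap R (AdjoinRoot f) ϖ) hm
    fun h => hϖ.ne_zero ((IsNilpotent.map_iff hinj).1 h).eq_zero
  haveI : HenselianLocalRing (AdjoinRoot f) := ConnEt.henselianLocalRing_of_finite R _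
  have hl : IsLocalHom (algebraMap R (AdjoinRoot f)) := ⟨fun a ha => by
    by_contra h
    have h1 : algebraMap R (AdjoinRoot f) a ∈ maximalIdeal (AdjoinRoot f) := by
      rw [hm]
      obtain ⟨c, rfl⟩ := Ideal.mem_span_singleton.1 (hϖ.maximalIdeal_eq.le ((mem_maximalIdeal a).2 h))
      rw [map_mul]
      exact Ideal.mul_mem_right _ _ (Ideal.mem_span_singleton_self _)
    exact (mem_maximalIdeal _).1 h1 ha⟩
  exact ⟨AdjoinRoot f, inferInstance, inferInstance, inferInstance, inferInstance, inferInstance, inferInstance, hl, hinj,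
    ⟨(Ideal.quotEquivOfEq (hm.trans hker.symm)).trans (RingHom.quotientKerEquivOfSurjective hψsurj)⟩⟩

theorem eq_zero_of_ringEquiv {p q : ℕ} {k k' : Type u} [Field k] [Field k'] (e : k ≃+* k')
    (h : ∀ x : EtCoh.H (Spec (CommRingCat.of k)) (EtCoh.const (Spec (CommRingCat.of k)) (ZMod p)) q, x = 0)
    (x : EtCoh.H (Spec (CommRingCat.of k')) (EtCoh.const (Spec (CommRingCat.of k')) (ZMod p)) q) : x = 0 := by
  let g : Spec (CommRingCat.of k) ⟶ Spec (CommRingCat.of k') := Spec.map e.toCommRingCatIso.inv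
  haveI : IsIso g := inferInstance
  refine (PBCLib.bijective_Hpull_of_isIso g _ q).1 ?_
  rw [map_zero]
  have := h ((EtCore.Hpull g _ q x).comp (Ext.mk₀ (EtCore.pullConst g (ZMod p)).hom) (add_zero q))
  have h2 := congrArg (fun z => z.comp (Ext.mk₀ (EtCore.pullConst g (ZMod p)).inv) (add_zero q)) this
  simpa only [Ext.comp_assoc_of_second_deg_zero, Ext.mk₀_comp_mk₀, Iso.hom_inv_id, Ext.comp_mk₀_id, Ext.zero_comp]
    using h2

/-- The lower bound. -/
theorem CdP.residueField_dvr {p d : ℕ} [Fact p.Prime] {R : Type u} [CommRing R] [IsDomain R] [IsDiscreteValuationRing R]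
    [HenselianLocalRing R] (hSH : SHCd p R) (hpR : (p : R) ≠ 0) (K : Type u) [Field K] [Algebra R K]
    [IsFractionRing R K] (hK : CdP p d K) : 1 ≤ d ∧ CdP p (d - 1) (ResidueField R) := by
  have hK₀ : CdP p d (K₀ R) :=
    hK.of_ringEquiv ((FractionRing.algEquiv R K).symm.trans (FractionRing.algEquiv R (K₀ R))).toRingEquiv
  have hd : 1 ≤ d := by
    by_contra h
    obtain ⟨x, hx⟩ := nontrivial_H0_const_zmod p (ResidueField R)
    exact hx (eq_zero_residue hSH hpR hK₀ 0 (by omega) x)
  refine ⟨hd, cdP_of_killed fun E _ _ _ _ _ q hq x => ?_⟩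
  obtain ⟨B, _, _, _, _, _, _, _, hinj, ⟨e⟩⟩ := exists_lift_dvr R E
  let i : K₀ R →+* K₀ B := IsFractionRing.lift (K := K₀ R)
    (g := (algebraMap B (K₀ B)).comp (algebraMap R B)) ((IsFractionRing.injective B (K₀ B)).comp hinj)
  letI : Algebra (K₀ R) (K₀ B) := i.toAlgebra
  letI : Algebra R (K₀ B) := ((algebraMap B (K₀ B)).comp (algebraMap R B)).toAlgebra
  haveI : IsScalarTower R B (K₀ B) := IsScalarTower.of_algebraMap_eq fun _ => rfl
  haveI : IsScalarTower R (K₀ R) (K₀ B) := IsScalarTower.of_algebraMap_eq fun a =>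
    (IsFractionRing.lift_algebraMap _ a).symm
  haveI : Module.IsTorsionFree R (K₀ B) := (Module.isTorsionFree_iff_algebraMap_injective).2
    ((IsFractionRing.injective B (K₀ B)).comp hinj)
  haveI : Algebra.IsAlgebraic R B := Algebra.IsIntegral.isAlgebraic
  haveI : Algebra.IsAlgebraic R (K₀ B) := (IsFractionRing.isAlgebraic_iff' R B (K₀ B)).1 inferInstance
  haveI : Algebra.IsAlgebraic (K₀ R) (K₀ B) := Algebra.IsAlgebraic.extendScalars (IsFractionRing.injective R (K₀ R))
  refine eq_zero_of_ringEquiv e (fun y => ?_) x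
  exact eq_zero_residue (hSH.comp (algebraMap R B) hinj fun _ =>
    Algebra.IsAlgebraic.perfectField (K := ResidueField R) (L := ResidueField B)) (fun h => hpR (hinj (by rw [map_natCast, h, map_zero])))
    (hK₀.of_isAlgebraic (K₀ B)) q (by omega) y

/-- The dimension goes up by exactly one. -/
theorem cdP_residueField_iff {p d : ℕ} [Fact p.Prime] {R : Type u} [CommRing R] [IsDomain R] [IsDiscreteValuationRing R]
    [HenselianLocalRing R] (hSH : SHCd p R) (hpR : (p : R) ≠ 0) (K : Type u) [Field K] [Algebra R K]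
    [IsFractionRing R K] : (CdP p d (ResidueField R) ↔ CdP p (d + 1) K) ∧ ¬ CdP p 0 K :=
  ⟨⟨fun h => h.fractionRing_dvr hSH K, fun h => (h.residueField_dvr hSH hpR K).2⟩,
    fun h => absurd (h.residueField_dvr hSH hpR K).1 (by omega)⟩

end Groth.Agent.CdTameLib
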