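import Groth.Agent.CdTameLib.DvrStalk
import Groth.Agent.EtTraceLib.H90Push
import Groth.Agent.EtPtsLib.IntegralUI
import Groth.Agent.ExtAdj.Basic

/-!
# The residue field of a henselian discrete valuation ring and its field of fractions: cohomological dimension

For `x` in `H^q(k, ℤ/p)` the class `x ∪ (π)` in `H^{q+1}(K, μ_p)` has residue `x`; this is written on
`Spec R` with the order map `j_* G_m ⟶ i_* ℤ`.
-/

set_option autoImplicit false
set_option backward.isDefEq.respectTransparency false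
set_option backward.isDefEq.respectTransparency.types false
set_option linter.style.haveILetI false
set_option maxHeartbeats 1000000

universe u

open CategoryTheory CategoryTheory.Limits AlgebraicGeometry Opposite IsLocalRing CategoryTheory.Abelian

noncomputable section

namespace Groth.Agent.CdTameLib

open CdFieldLib EtTraceLib

attribute [local instance] Groth.Agent.S0101.result

/-! ### Constant sheaves -/

theorem preservesFiniteLimits_constantSheaf (X : Scheme.{u}) :
    PreservesFiniteLimits (constantSheaf X.smallEtaleTopology AddCommGrpCat.{u + 1}) := by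
  unfold constantSheaf; infer_instance

theorem mono_nsmul_const (X : Scheme.{u}) {p : ℕ} (hp : p ≠ 0) : Mono (p • 𝟙 (EtCoh.const X ℤ)) := by
  haveI : (constantSheaf X.smallEtaleTopology AddCommGrpCat.{u + 1}).Additive :=
    (EtCore.constAdj X).left_adjoint_additive
  haveI := preservesFiniteLimits_constantSheaf X
  haveI : Mono (p • 𝟙 (AddCommGrpCat.of (ULift.{u + 1} ℤ))) := (AddCommGrpCat.mono_iff_injective _).2 fun a b h => by
    apply ULift.ext
    have h' : (p • a : ULift.{u + 1} ℤ) = p • b := h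
    have h'' := congrArg ULift.down h'
    simpa [hp] using h''
  show Mono (p • 𝟙 ((constantSheaf X.smallEtaleTopology AddCommGrpCat.{u + 1}).obj (AddCommGrpCat.of (ULift.{u + 1} ℤ))))
  rw [← CategoryTheory.Functor.map_id, ← Functor.map_nsmul]
  haveI : (constantSheaf X.smallEtaleTopology AddCommGrpCat.{u + 1}).PreservesMonomorphisms :=
    preservesMonomorphisms_of_preservesLimitsOfShape _
  infer_instance

/-- The constant sheaf modulo `p`. -/
theorem nonempty_cokernel_const_iso (X : Scheme.{u}) {p : ℕ} [Fact p.Prime] :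
    Nonempty (cokernel (p • 𝟙 (EtCoh.const X ℤ)) ≅ EtCoh.const X (ZMod p)) := by
  let C := constantSheaf X.smallEtaleTopology AddCommGrpCat.{u + 1}
  haveI : C.Additive := (EtCore.constAdj X).left_adjoint_additive
  haveI : PreservesFiniteLimits C := preservesFiniteLimits_constantSheaf X
  haveI : PreservesFiniteColimits C := by
    haveI : PreservesColimitsOfSize.{0, 0} C := (EtCore.constAdj X).leftAdjoint_preservesColimits
    exact PreservesColimitsOfSize.preservesFiniteColimits _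
  let f : AddCommGrpCat.of (ULift.{u + 1} ℤ) ⟶ AddCommGrpCat.of (ULift.{u + 1} ℤ) := p • 𝟙 _
  let g : AddCommGrpCat.of (ULift.{u + 1} ℤ) ⟶ AddCommGrpCat.of (ULift.{u + 1} (ZMod p)) :=
    AddCommGrpCat.ofHom ((AddEquiv.ulift.symm.toAddMonoidHom.comp (Int.castAddHom (ZMod p))).comp
      AddEquiv.ulift.toAddMonoidHom)
  have hf : ∀ a : ULift.{u + 1} ℤ, f a = (p • a : ULift.{u + 1} ℤ) := fun a => rfl
  let S : ShortComplex AddCommGrpCat.{u + 1} := ShortComplex.mk f g (AddCommGrpCat.hom_ext (AddMonoidHom.ext fun a => by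
    show g (f a) = 0
    rw [hf]
    apply ULift.ext
    show ((p • a.down : ℤ) : ZMod p) = 0
    simp))
  haveI : Epi g := (AddCommGrpCat.epi_iff_surjective g).2 fun b =>
    ⟨ULift.up (b.down.val : ℤ), ULift.ext _ _ (by show ((b.down.val : ℤ) : ZMod p) = b.down; simp)⟩
  have hS : S.Exact := (ShortComplex.ab_exact_iff S).2 fun a ha => by
    obtain ⟨c, hc⟩ := (ZMod.intCast_zmod_eq_zero_iff_dvd a.down p).1 (congrArg ULift.down ha)
    exact ⟨ULift.up c, ULift.ext _ _ (by show (p • c : ℤ) = a.down; rw [hc, nsmul_eq_mul])⟩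
  haveI : Epi (S.map C).g := inferInstanceAs (Epi (C.map g))
  have hc := (hS.map C).gIsCokernel
  have e : C.map f = p • 𝟙 (EtCoh.const X ℤ) := by
    rw [Functor.map_nsmul, CategoryTheory.Functor.map_id]
  exact ⟨cokernelIsoOfEq e.symm ≪≫ (cokernelIsCokernel _).coconePointUniqueUpToIso hc⟩

theorem isIso_map_cokernel_map {A B : Type*} [Category A] [Category B] [HasZeroMorphisms A] [HasZeroMorphisms B]
    (F : A ⥤ B) [F.PreservesZeroMorphisms] {X Y X' Y' : A} (f : X ⟶ Y) (f' : X' ⟶ Y') [HasCokernel f] [HasCokernel f']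
    [PreservesColimit (parallelPair f 0) F] [PreservesColimit (parallelPair f' 0) F]
    [HasCokernel (F.map f)] [HasCokernel (F.map f')]
    (a : X ⟶ X') (b : Y ⟶ Y') (w : f ≫ b = a ≫ f') [IsIso (F.map a)] [IsIso (F.map b)] :
    IsIso (F.map (cokernel.map f f' a b w)) := by
  let w' : F.map f ≫ F.map b = F.map a ≫ F.map f' := by rw [← F.map_comp, w, F.map_comp]
  have e : F.map (cokernel.map f f' a b w) = (PreservesCokernel.iso F f).hom ≫
      (cokernel.mapIso (F.map f) (F.map f') (asIso (F.map a)) (asIso (F.map b)) w').hom ≫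
        (PreservesCokernel.iso F f').inv := by
    rw [← Category.assoc, Iso.eq_comp_inv]
    exact (preserves_cokernel_iso_comp_cokernel_map F f f' a b w).symm
  rw [e]
  infer_instance

/-! ### Sections and homomorphisms from `ℤ` -/

variable {X : Scheme.{u}}

/-- The section at the final object of a homomorphism from `ℤ`. -/
def topSect (G : EtCoh.Ab X) : (EtCoh.const X ℤ ⟶ G) ≃+ EtCoh.sect G (EtCoh.top X) :=
  Ext.addEquiv₀.symm.trans (Sheaf.H.equiv₀ G (EtCore.topIsTerminal X))

theorem topSect_comp {G G' : EtCoh.Ab X} (a : EtCoh.const X ℤ ⟶ G) (D : G ⟶ G') :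
    topSect G' (a ≫ D) = D.hom.app (op (EtCoh.top X)) (topSect G a) := by
  show Sheaf.H.equiv₀ G' _ (Ext.mk₀ (a ≫ D)) = _
  refine Eq.trans ?_ (Sheaf.H.equiv₀_naturality (EtCore.topIsTerminal X) D (Ext.mk₀ a)).symm
  exact congrArg _ (Ext.mk₀_comp_mk₀ a D).symm

theorem eq_id_of_generator {A : Type*} [Category A] [Preadditive A] {Z : A} (v : Z ⟶ Z) (ψ : (Z ⟶ Z) ≃+ ℤ)
    (hv : ψ v = 1) : v ≫ v = 𝟙 Z := by
  have key : ∀ a : Z ⟶ Z, a = ψ a • v := fun a => ψ.injective (by rw [map_zsmul, hv, smul_eq_mul, mul_one])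
  obtain ⟨n, hn⟩ : ∃ n : ℤ, 𝟙 Z = n • v := ⟨_, key _⟩
  obtain ⟨b, hb⟩ : ∃ b : ℤ, v ≫ v = b • v := ⟨_, key _⟩
  have h1 : v = (n * b) • v :=
    calc v = v ≫ 𝟙 Z := (Category.comp_id v).symm
      _ = n • (v ≫ v) := by rw [hn, Preadditive.comp_zsmul]
      _ = (n * b) • v := by rw [hb, smul_smul]
  have h2 : n * b = 1 := by
    have := congrArg ψ h1
    rw [map_zsmul, hv, smul_eq_mul, mul_one] at this
    exact this.symm
  rw [hb, hn]
  rcases Int.eq_one_or_neg_one_of_mul_eq_one' h2 with ⟨rfl, rfl⟩ | ⟨rfl, rfl⟩ <;> rfl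

/-- A map `ℤ ⟶ i_* ℤ` with value one at the point restricts to an isomorphism. -/
theorem isIso_pull_unit_sk (x : X) [IsClosedImmersion (X.fromSpecResidueField x)]
    (u' : EtCoh.const X ℤ ⟶ Sk X x) (hu : ∀ w, skVal x (EtCoh.top X) (topSect _ u') w = 1) :
    IsIso ((EtCoh.pull (X.fromSpecResidueField x)).map u') := by
  let i := X.fromSpecResidueField x
  let adj := EtCoh.pullPushAdj i
  haveI : (EtCoh.pull i).Additive := adj.left_adjoint_additive
  let c := EtCore.pullConst i ℤ
  let κ := Spec (X.residueField x)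
  let T : (EtCoh.const X ℤ ⟶ Sk X x) ≃+ (EtCoh.const κ ℤ ⟶ EtCoh.const κ ℤ) :=
    AddEquiv.mk' ((adj.homEquiv _ _).symm.trans ⟨fun a => c.inv ≫ a, fun a => c.hom ≫ a,
      fun a => Iso.hom_inv_id_assoc c a, fun a => Iso.inv_hom_id_assoc c a⟩) fun a b => by
      show c.inv ≫ (adj.homEquiv _ _).symm (a + b) = c.inv ≫ (adj.homEquiv _ _).symm a + c.inv ≫ (adj.homEquiv _ _).symm b
      rw [Adjunction.homEquiv_counit, Adjunction.homEquiv_counit, Adjunction.homEquiv_counit, Functor.map_add,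
        Preadditive.add_comp, Preadditive.comp_add]
  -- the fibre over the final object is a point
  haveI : Subsingleton (fib x (EtCoh.top X)).left := by
    haveI : IsPreimmersion (fibι x (EtCoh.top X)) := MorphismProperty.pullback_fst _ _ inferInstance
    exact ⟨fun a b => (fibι x (EtCoh.top X)).isEmbedding.injective
      ((str_fibι x (EtCoh.top X) a).trans (str_fibι x (EtCoh.top X) b).symm)⟩
  obtain ⟨w₀, -⟩ := exists_fibι_eq x (EtCoh.top X) x rfl
  let val : EtCoh.sect (Sk X x) (EtCoh.top X) ≃+ ℤ :=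
    AddEquiv.ofBijective (AddMonoidHom.mk' (fun t => skVal x (EtCoh.top X) t w₀) fun s t => skVal_add _ _ s t w₀)
      ⟨fun s t h => skVal_ext fun w => by rw [Subsingleton.elim w w₀]; exact h,
        fun n => ⟨skMk x (EtCoh.top X) fun _ => n, skVal_skMk _ _ _ _⟩⟩
  let v := T u'
  have hv := eq_id_of_generator v (T.symm.trans ((topSect _).trans val)) (by
    show val (topSect _ (T.symm (T u'))) = 1
    rw [T.symm_apply_apply]
    exact hu w₀)
  haveI : IsIso v := ⟨⟨v, hv, hv⟩⟩
  haveI : IsIso (adj.counit.app (EtCoh.const κ ℤ)) := EtPtsLib.isIso_counit_integral i _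
  have e : (EtCoh.pull i).map u' = (c.hom ≫ v) ≫ inv (adj.counit.app (EtCoh.const κ ℤ)) := by
    rw [IsIso.eq_comp_inv]
    show _ = c.hom ≫ c.inv ≫ (adj.homEquiv _ _).symm u'
    rw [Iso.hom_inv_id_assoc, Adjunction.homEquiv_counit]
  rw [e]
  infer_instance

theorem nsmul_sect {p : ℕ} {G : EtCoh.Ab X} (h : p • 𝟙 G = 0) (U : X.Etale) (s : EtCoh.sect G U) : p • s = 0 :=
  ConcreteCategory.congr_hom (congrArg (fun m : G ⟶ G => m.hom.app (op U)) h) s

theorem isLTorsion_of_nsmul {p : ℕ} (hp : p.Prime) {G : EtCoh.Ab X} (h : p • 𝟙 G = 0) : EtAcyc.IsLTorsion {p} G :=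
  (isLTorsion_singleton_iff hp).2 fun U s x => ⟨U, 𝟙 U, ⟨x, rfl⟩, 1, by
    rw [op_id, CategoryTheory.Functor.map_id, pow_one]
    exact nsmul_sect h U s⟩

theorem Hpull_comp {Y Z : Scheme.{u}} (j : Z ⟶ Y) {F G : EtCoh.Ab Y} (q : ℕ) (x : EtCoh.H Y F q) (a : F ⟶ G) :
    EtCore.Hpull j G q (x.comp (Ext.mk₀ a) (add_zero q)) =
      (EtCore.Hpull j F q x).comp (Ext.mk₀ ((EtCoh.pull j).map a)) (add_zero q) := by
  show (Ext.mk₀ (EtCore.pullConst j ℤ).inv).comp ((x.comp (Ext.mk₀ a) _).mapExactFunctor (EtCoh.pull j)) (zero_add q) = _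
  rw [Ext.mapExactFunctor_comp, Ext.mapExactFunctor_mk₀]
  exact (Ext.comp_assoc _ _ _ (zero_add q) (add_zero q) (by omega)).symm

theorem exists_comp_residueField {Ω : Type u} [Field Ω] (y : X) (ξ : Spec (CommRingCat.of Ω) ⟶ X)
    (h : ξ (IsLocalRing.closedPoint Ω) = y) :
    ∃ ζ : Spec (CommRingCat.of Ω) ⟶ Spec (X.residueField y), ξ = ζ ≫ X.fromSpecResidueField y := by
  obtain ⟨⟨z, a⟩, rfl⟩ := (Scheme.SpecToEquivOfField Ω X).symm.surjective ξ
  obtain rfl : z = y := by simpa [Scheme.SpecToEquivOfField] using h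
  exact ⟨Spec.map a, rfl⟩

/-- A section of order one. -/
theorem exists_ord_one [IsIntegral X] [IsLocallyNoetherian X] (hreg : RegularScheme X) (x : HtOne X) :
    ∃ e : EtCoh.const X ℤ ⟶ RF X, ∀ w, skVal x.1 (EtCoh.top X) (topSect _ (e ≫ dMap hreg x)) w = 1 := by
  haveI : IsIntegral (EtCoh.top X).left := inferInstanceAs (IsIntegral X)
  let x₀ : (EtCoh.top X).left := x.1
  have ha : Order.coheight x₀ = 1 := coheight_str.2 x.2
  have hn := normal_etale hreg (EtCoh.top X)
  haveI := RefOne.isDVR hn ha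
  obtain ⟨π, hπ⟩ := IsDiscreteValuationRing.exists_irreducible ((EtCoh.top X).left.presheaf.stalk x₀)
  obtain ⟨s, hs⟩ := exists_ρval_eq (EtCoh.top X) (RefOne.toK_ne_zero (x := x₀) hπ.ne_zero)
  refine ⟨(topSect (RF X)).symm s, fun w => ?_⟩
  rw [topSect_comp, AddEquiv.apply_symm_apply, skVal_dMap]
  refine (congrArg (ordAt hreg (EtCoh.top X) s) (str_fibι x.1 (EtCoh.top X) w)).trans ?_
  have h1 := ordAt_eq hreg (𝟙 (EtCoh.top X)) s (a := x₀) ha
  rw [show rRes (𝟙 (EtCoh.top X)) s = s from by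
    show ((EtCoh.push (jη X)).obj _).obj.map (𝟙 (EtCoh.top X)).op s = s
    rw [op_id, CategoryTheory.Functor.map_id]
    rfl, hs] at h1
  exact h1.trans (RefOne.ord_uniformizer hn ha hπ.maximalIdeal_eq)

/-- Restricted to any point with values in a field over `x`. -/
theorem isIso_pull_point (x : X) [IsClosedImmersion (X.fromSpecResidueField x)] {Ω : Type u} [Field Ω]
    (ξ : Spec (CommRingCat.of Ω) ⟶ X) (hξ : ξ (IsLocalRing.closedPoint Ω) = x)
    (u' : EtCoh.const X ℤ ⟶ Sk X x) (hu : ∀ w, skVal x (EtCoh.top X) (topSect _ u') w = 1) :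
    IsIso ((EtCoh.pull ξ).map u') := by
  obtain ⟨l, rfl⟩ := exists_comp_residueField x ξ hξ
  haveI := isIso_pull_unit_sk x u' hu
  exact (NatIso.isIso_map_iff (EtCore.pullComp l (X.fromSpecResidueField x)) u').2
    (inferInstanceAs (IsIso ((EtCoh.pull l).map _)))

/-! ### Residues -/

section

variable {R : Type u} [CommRing R] [IsDomain R] [IsDiscreteValuationRing R]

theorem ringKrullDim_stalk_closedPoint :
    ringKrullDim ((Spec (CommRingCat.of R)).presheaf.stalk (IsLocalRing.closedPoint R)) = 1 := by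
  letI : Algebra R ((Spec (CommRingCat.of R)).presheaf.stalk (IsLocalRing.closedPoint R)) :=
    StructureSheaf.stalkAlgebra R (IsLocalRing.closedPoint R)
  haveI : IsLocalization.AtPrime ((Spec (CommRingCat.of R)).presheaf.stalk (IsLocalRing.closedPoint R)) (maximalIdeal R) :=
    StructureSheaf.IsLocalization.to_stalk R (IsLocalRing.closedPoint R)
  rw [IsLocalization.AtPrime.ringKrullDim_eq_height (maximalIdeal R)
    ((Spec (CommRingCat.of R)).presheaf.stalk (IsLocalRing.closedPoint R))]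
  rw [IsLocalRing.maximalIdeal_height_eq_ringKrullDim]
  exact IsPrincipalIdealRing.ringKrullDim_eq_one R (IsDiscreteValuationRing.not_isField R)

variable {p d : ℕ} [hp : Fact p.Prime] [HenselianLocalRing R]

theorem isClosedImmersion_closedPoint :
    IsClosedImmersion ((Spec (CommRingCat.of R)).fromSpecResidueField (IsLocalRing.closedPoint R)) :=
  isClosed_singleton_iff_isClosedImmersion.1 (IsLocalRing.isClosed_singleton_closedPoint R)

/-- Multiplication by `p` on `ℤ`. -/
abbrev mulZ (p : ℕ) (X : Scheme.{u}) : EtCoh.const X ℤ ⟶ EtCoh.const X ℤ := p • 𝟙 _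

omit [IsDomain R] [IsDiscreteValuationRing R] in
/-- Classes on the closed point come from the whole spectrum. -/
theorem eq_zero_of_comp {T : EtCoh.Ab (Spec (CommRingCat.of R))}
    (u' : EtCoh.const (Spec (CommRingCat.of R)) ℤ ⟶ T) [IsIso ((EtCoh.pull (HensH0.closedIncl R)).map u')] (q : ℕ)
    (w : mulZ p (Spec (CommRingCat.of R)) ≫ u' = u' ≫ (p • 𝟙 T))
    (h : ∀ y : EtCoh.H (Spec (CommRingCat.of R)) (cokernel (mulZ p (Spec (CommRingCat.of R)))) q,
      y.comp (Ext.mk₀ (cokernel.map (mulZ p _) (p • 𝟙 T) u' u' w)) (add_zero q) = 0)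
    (x : EtCoh.H (Spec (CommRingCat.of (ResidueField R))) (EtCoh.const (Spec (CommRingCat.of (ResidueField R))) (ZMod p)) q) :
    x = 0 := by
  let ci := HensH0.closedIncl R
  haveI : (EtCoh.pull ci).Additive := (EtCoh.pullPushAdj ci).left_adjoint_additive
  haveI : PreservesFiniteColimits (EtCoh.pull ci) := by
    haveI : PreservesColimitsOfSize.{0, 0} (EtCoh.pull ci) := (EtCoh.pullPushAdj ci).leftAdjoint_preservesColimits
    exact PreservesColimitsOfSize.preservesFiniteColimits _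
  haveI : IsIso ((EtCoh.pull ci).map (cokernel.map (mulZ p _) (p • 𝟙 T) u' u' w)) :=
    isIso_map_cokernel_map _ _ _ _ _ _
  let c := EtCore.pullConst ci ℤ
  obtain ⟨b⟩ := nonempty_cokernel_const_iso (Spec (CommRingCat.of (ResidueField R))) (p := p)
  let Ψ : (EtCoh.pull ci).obj (cokernel (mulZ p _)) ≅ EtCoh.const _ (ZMod p) :=
    PreservesCokernel.iso _ _ ≪≫ cokernel.mapIso _ _ c c (by
      rw [Functor.map_nsmul, CategoryTheory.Functor.map_id, Preadditive.nsmul_comp, Preadditive.comp_nsmul,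
        Category.id_comp, Category.comp_id]) ≪≫ b
  obtain ⟨y, hy⟩ := (HensH0.bijective_Hpull (cokernel (mulZ p _)) q).2 (x.comp (Ext.mk₀ Ψ.inv) (add_zero q))
  have h1 := congrArg (EtCore.Hpull ci _ q) (h y)
  rw [map_zero, Hpull_comp, hy] at h1
  have h2 := congrArg (fun z => z.comp (Ext.mk₀ (inv ((EtCoh.pull ci).map (cokernel.map (mulZ p _) (p • 𝟙 T) u' u' w)) ≫ Ψ.hom))
    (add_zero q)) h1
  simpa only [Ext.comp_assoc_of_second_deg_zero, Ext.mk₀_comp_mk₀, Category.assoc, IsIso.hom_inv_id_assoc,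
    Iso.inv_hom_id, Ext.comp_mk₀_id, Ext.zero_comp] using h2

/-- The sequence `0 ⟶ μ ⟶ I ⟶ C ⟶ 0` with the compatible sequence of `G_m`. -/
theorem exists_kummer_compare (hpR : (p : R) ≠ 0) :
    ∃ (C : EtCoh.Ab (Spec (CommRingCat.of (K₀ R))))
      (f : EtCoh.mu (Spec (CommRingCat.of (K₀ R))) p ⟶ Injective.under (EtCoh.Gm (Spec (CommRingCat.of (K₀ R)))))
      (g : Injective.under (EtCoh.Gm (Spec (CommRingCat.of (K₀ R)))) ⟶ C)
      (φ : EtCoh.Gm (Spec (CommRingCat.of (K₀ R))) ⟶ C) (w : f ≫ g = 0),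
      (ShortComplex.mk f g w).ShortExact ∧
      Injective.ι (EtCoh.Gm (Spec (CommRingCat.of (K₀ R)))) ≫ g +
        EtCoh.powMap (Spec (CommRingCat.of (K₀ R))) p ≫ φ = 0 ∧
      ∀ (T : EtCoh.Ab (Spec (CommRingCat.of R))) (r : RF (Spec (CommRingCat.of R)) ⟶ T), p • r = 0 →
        ∃ r₂ : (EtCoh.push (jη (Spec (CommRingCat.of R)))).obj C ⟶ T,
          (EtCoh.push (jη (Spec (CommRingCat.of R)))).map g ≫ r₂ = 0 ∧
          (EtCoh.push (jη (Spec (CommRingCat.of R)))).map φ ≫ r₂ = r := by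
  let G := EtCoh.Gm (Spec (CommRingCat.of (K₀ R)))
  let j := jη (Spec (CommRingCat.of R))
  let pw := EtCoh.powMap (Spec (CommRingCat.of (K₀ R))) p
  haveI hpw : Epi pw := Groth.Agent.S0108.result _ p (isUnit_natCast_spec p (by
    rw [← map_natCast (algebraMap R (K₀ R))]
    exact (map_ne_zero_iff _ (IsFractionRing.injective R (K₀ R))).2 hpR))
  let I₀ := Injective.under G
  let m : G ⟶ I₀ ⊞ G := biprod.lift (Injective.ι G) pw
  haveI : Mono m := mono_of_mono_fac (biprod.lift_fst (Injective.ι G) pw)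
  let g : I₀ ⟶ cokernel m := biprod.inl ≫ cokernel.π m
  let φ : G ⟶ cokernel m := biprod.inr ≫ cokernel.π m
  have hrel : Injective.ι G ≫ g + pw ≫ φ = 0 := by
    rw [← cokernel.condition m]
    simp [g, φ, m, biprod.lift_eq]
  haveI : Mono (EtCoh.muι (Spec (CommRingCat.of (K₀ R))) p) := inferInstanceAs (Mono (kernel.ι pw))
  let f : EtCoh.mu (Spec (CommRingCat.of (K₀ R))) p ⟶ I₀ := EtCoh.muι _ p ≫ Injective.ι G
  haveI : Mono f := mono_comp _ _
  have hk : EtCoh.muι (Spec (CommRingCat.of (K₀ R))) p ≫ pw = 0 := kernel.condition _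
  have hfg : f ≫ g = 0 := by
    have h := congrArg (fun z => EtCoh.muι (Spec (CommRingCat.of (K₀ R))) p ≫ z) hrel
    simp only [Preadditive.comp_add, comp_zero, reassoc_of% hk, zero_comp, add_zero] at h
    exact (Category.assoc _ _ _).trans h
  haveI : Epi g := by
    refine Preadditive.epi_of_cancel_zero _ fun {Q} t ht => ?_
    have hφ : φ ≫ t = 0 := by
      refine (cancel_epi pw).1 ?_
      have h := congrArg (· ≫ t) hrel
      simp only [Preadditive.add_comp, Category.assoc, ht, comp_zero, zero_add, zero_comp] at h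
      rw [h, comp_zero]
    refine (cancel_epi (cokernel.π m)).1 (biprod.hom_ext' _ _ ?_ ?_)
    · rw [comp_zero, comp_zero, ← Category.assoc]
      exact ht
    · rw [comp_zero, comp_zero, ← Category.assoc]
      exact hφ
  have hS : (ShortComplex.mk f g hfg).ShortExact := by
    refine { exact := ?_ }
    rw [ShortComplex.exact_iff_exact_up_to_refinements]
    intro W a ha
    obtain ⟨W', π', hπ', w, hw⟩ := (ShortComplex.exact_cokernel m).exact_up_to_refinements (a ≫ biprod.inl)
      ((Category.assoc _ _ _).trans ha)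
    have h1 : π' ≫ a = w ≫ Injective.ι G := by
      have h := congrArg (· ≫ biprod.fst) hw
      simpa [m] using h
    have h2 : w ≫ pw = 0 := by
      have h := congrArg (· ≫ biprod.snd) hw
      simpa [m] using h.symm
    refine ⟨W', π', hπ', kernel.lift pw w h2, ?_⟩
    rw [h1]
    show _ = kernel.lift pw w h2 ≫ kernel.ι pw ≫ Injective.ι G
    rw [kernel.lift_ι_assoc]
  refine ⟨cokernel m, f, g, φ, hfg, hS, hrel, fun T r hr => ?_⟩
  haveI := preservesFiniteLimits_push j
  haveI : (EtCoh.push j).Additive := (EtCoh.pullPushAdj j).right_adjoint_additive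
  have hT : (ShortComplex.mk m (cokernel.π m) (cokernel.condition m)).ShortExact :=
    { exact := ShortComplex.exact_cokernel m }
  haveI : Epi ((ShortComplex.mk m (cokernel.π m) (cokernel.condition m)).map (EtCoh.push j)).g :=
    epi_push_map (K₀ R) j hT (Iso.refl _)
  have hTj : ((ShortComplex.mk m (cokernel.π m) (cokernel.condition m)).map (EtCoh.push j)).Exact :=
    hT.exact.map_of_mono_of_preservesKernel (EtCoh.push j) hT.mono_f inferInstance
  let r₀ : (EtCoh.push j).obj (I₀ ⊞ G) ⟶ T := (EtCoh.push j).map biprod.snd ≫ r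
  have hr₀ : (EtCoh.push j).map m ≫ r₀ = 0 := by
    rw [← Category.assoc, ← Functor.map_comp, biprod.lift_snd]
    show (EtCoh.push j).map (p • 𝟙 G) ≫ r = 0
    rw [Functor.map_nsmul, CategoryTheory.Functor.map_id, Preadditive.nsmul_comp, Category.id_comp, hr]
  let r₂ : (EtCoh.push j).obj (cokernel m) ⟶ T := hTj.gIsCokernel.desc (CokernelCofork.ofπ r₀ hr₀)
  have hr₂ : (EtCoh.push j).map (cokernel.π m) ≫ r₂ = r₀ :=
    hTj.gIsCokernel.fac (CokernelCofork.ofπ r₀ hr₀) WalkingParallelPair.one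
  refine ⟨r₂, ?_, ?_⟩
  · rw [Functor.map_comp, Category.assoc, hr₂, ← Category.assoc, ← Functor.map_comp, biprod.inl_snd, Functor.map_zero,
      zero_comp]
  · rw [Functor.map_comp, Category.assoc, hr₂, ← Category.assoc, ← Functor.map_comp, biprod.inr_snd,
      CategoryTheory.Functor.map_id, Category.id_comp]

/-- Classes with values in `ℤ/p` pushed along a residue map die. -/
theorem comp_residue_eq_zero (hSH : SHCd p R) (hpR : (p : R) ≠ 0) (hK : CdP p d (K₀ R)) (q : ℕ) (hq : d ≤ q)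
    {T : EtCoh.Ab (Spec (CommRingCat.of R))} (r : RF (Spec (CommRingCat.of R)) ⟶ T) (hr : p • r = 0)
    (e : EtCoh.const (Spec (CommRingCat.of R)) ℤ ⟶ RF (Spec (CommRingCat.of R)))
    (u₁ : cokernel (mulZ p (Spec (CommRingCat.of R))) ⟶ T) (hu₁ : cokernel.π _ ≫ u₁ = e ≫ r)
    (y : EtCoh.H (Spec (CommRingCat.of R)) (cokernel (mulZ p (Spec (CommRingCat.of R)))) q) :
    y.comp (Ext.mk₀ u₁) (add_zero q) = 0 := by
  let j := jη (Spec (CommRingCat.of R))
  haveI : (EtCoh.push j).Additive := (EtCoh.pullPushAdj j).right_adjoint_additive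
  haveI : (EtCoh.pull j).Additive := (EtCoh.pullPushAdj j).left_adjoint_additive
  haveI : PreservesFiniteColimits (EtCoh.pull j) := by
    haveI : PreservesColimitsOfSize.{0, 0} (EtCoh.pull j) := (EtCoh.pullPushAdj j).leftAdjoint_preservesColimits
    exact PreservesColimitsOfSize.preservesFiniteColimits _
  obtain ⟨C, f, g, φ, w, hS, hrel, hC⟩ := exists_kummer_compare (R := R) hpR
  obtain ⟨r₂, hg, hφ⟩ := hC T r hr
  haveI : Injective ((EtCoh.push j).obj (Injective.under (EtCoh.Gm (Spec (CommRingCat.of (K₀ R)))))) :=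
    Injective.injective_of_adjoint (EtCoh.pullPushAdj j) _
  haveI : Mono (mulZ p (Spec (CommRingCat.of R))) := mono_nsmul_const _ hp.out.ne_zero
  let ι₀ := (EtCoh.push j).map (Injective.ι (EtCoh.Gm (Spec (CommRingCat.of (K₀ R)))))
  let h₂ := Injective.factorThru (e ≫ ι₀) (mulZ p (Spec (CommRingCat.of R)))
  have hh₂ : p • h₂ = e ≫ ι₀ := by
    refine Eq.trans ?_ (Injective.comp_factorThru _ (mulZ p (Spec (CommRingCat.of R))))
    rw [Preadditive.nsmul_comp, Category.id_comp]
  have hh : mulZ p _ ≫ (e ≫ (EtCoh.push j).map φ + h₂ ≫ (EtCoh.push j).map g) = 0 := by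
    have h1 := congrArg (fun z => e ≫ (EtCoh.push j).map z) hrel
    simp only [Functor.map_add, Functor.map_comp, Preadditive.comp_add, Functor.map_zero, comp_zero] at h1
    have h3 : (EtCoh.push j).map (EtCoh.powMap (Spec (CommRingCat.of (K₀ R))) p) = p • 𝟙 _ := by
      show (EtCoh.push j).map (p • 𝟙 _) = _
      rw [Functor.map_nsmul, CategoryTheory.Functor.map_id]
    rw [h3] at h1
    simp only [Preadditive.nsmul_comp, Category.id_comp, Preadditive.comp_nsmul] at h1
    rw [Preadditive.nsmul_comp, Category.id_comp, smul_add, add_comm, ← Preadditive.nsmul_comp, hh₂, Category.assoc]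
    exact h1
  let h₁ := cokernel.desc (mulZ p (Spec (CommRingCat.of R))) _ hh
  have hu : h₁ ≫ r₂ = u₁ := by
    refine (cancel_epi (cokernel.π _)).1 ?_
    rw [cokernel.π_desc_assoc, hu₁, Preadditive.add_comp, Category.assoc, Category.assoc, hg, hφ, comp_zero, add_zero]
  have hμ := nsmul_id_mu (Spec (CommRingCat.of (K₀ R))) p
  obtain ⟨Δ⟩ := RDerLib.nonempty_derivedLES (EtCoh.push j)
  have hac : SpSeqLib.IsAcyclicFor (EtCoh.push j) C := fun r =>
    ShortComplex.Exact.isZero_of_both_zeros (Δ.exact₃ _ hS (r + 1) (r + 2) rfl)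
      ((Functor.isZero_rightDerived_obj_injective_succ (EtCoh.push j) r _).eq_of_src _ _)
      ((isZero_Rpush_jη hSH _ (isLTorsion_of_nsmul hp.out hμ) (r + 2) (by omega)).eq_of_tgt _ _)
  let adj := EtCoh.pullPushAdj j
  let z := y.comp (Ext.mk₀ h₁) (add_zero q)
  obtain ⟨t, ht⟩ := Ext.covariant_sequence_exact₃ _ hS
    (ExtAdj.transpose adj (EtCoh.const (Spec (CommRingCat.of R)) ℤ) C q z) (n₁ := q + 1) rfl
    (by
      generalize (ExtAdj.transpose adj (EtCoh.const (Spec (CommRingCat.of R)) ℤ) C q z).comp hS.extClass _ = v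
      let c' := EtCore.pullConst j ℤ
      have h0 : (Ext.mk₀ c'.inv).comp v (zero_add (q + 1)) = 0 :=
        hK (q + 1) (by omega) _ (isTorsion_of_nsmul_id_eq_zero hp.out.pos hμ) _
          ⟨1, by rw [pow_one]; exact nsmul_ext_eq_zero hμ _⟩
      have h1 := congrArg (fun v => (Ext.mk₀ c'.hom).comp v (zero_add (q + 1))) h0
      simpa only [Ext.comp_zero, Ext.mk₀_comp_mk₀_assoc, Iso.hom_inv_id, Ext.mk₀_id_comp] using h1)
  obtain ⟨t', rfl⟩ := (ExtAdj.transpose_bijective adj (EtCoh.const (Spec (CommRingCat.of R)) ℤ) _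
    (SpSeqLib.isAcyclicFor_of_injective _ _) q).2 t
  have hz : z = t'.comp (Ext.mk₀ ((EtCoh.push j).map g)) (add_zero q) := by
    refine (ExtAdj.transpose_bijective adj (EtCoh.const (Spec (CommRingCat.of R)) ℤ) C hac q).1 ?_
    rw [ExtAdj.transpose_mk₀]
    exact ht.symm
  rw [← hu, ← Ext.mk₀_comp_mk₀, ← Ext.comp_assoc_of_second_deg_zero]
  change z.comp (Ext.mk₀ r₂) (add_zero q) = 0
  rw [hz, Ext.comp_assoc_of_second_deg_zero, Ext.mk₀_comp_mk₀, hg, Ext.mk₀_zero, Ext.comp_zero]

/-- Classes in degrees `≥ d` die. -/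
theorem eq_zero_residue (hSH : SHCd p R) (hpR : (p : R) ≠ 0) (hK : CdP p d (K₀ R)) (q : ℕ) (hq : d ≤ q)
    (x : EtCoh.H (Spec (CommRingCat.of (ResidueField R))) (EtCoh.const (Spec (CommRingCat.of (ResidueField R))) (ZMod p)) q) :
    x = 0 := by
  let x₀ : HtOne (Spec (CommRingCat.of R)) := ⟨IsLocalRing.closedPoint R, ringKrullDim_stalk_closedPoint⟩
  haveI : IsClosedImmersion ((Spec (CommRingCat.of R)).fromSpecResidueField x₀.1) := isClosedImmersion_closedPoint
  obtain ⟨e, he⟩ := exists_ord_one regularScheme_spec x₀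
  haveI : IsIso ((EtCoh.pull (HensH0.closedIncl R)).map (e ≫ dMap regularScheme_spec x₀)) :=
    isIso_pull_point x₀.1 (HensH0.closedIncl R) (IsLocalRing.comap_closedPoint (residue R)) _ he
  refine eq_zero_of_comp (e ≫ dMap regularScheme_spec x₀) q (by
    rw [Preadditive.nsmul_comp, Preadditive.comp_nsmul, Category.id_comp, Category.comp_id]) (fun y => ?_) x
  refine comp_residue_eq_zero hSH hpR hK q hq (dMap regularScheme_spec x₀ ≫ cokernel.π (p • 𝟙 _)) ?_ e _ ?_ y
  · rw [← Preadditive.comp_nsmul, ← Category.id_comp (cokernel.π (p • 𝟙 (Sk (Spec (CommRingCat.of R)) x₀.1))),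
      ← Preadditive.nsmul_comp, cokernel.condition, comp_zero]
  · rw [cokernel.π_desc, Category.assoc]

end

end Groth.Agent.CdTameLib
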