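import Groth.Agent.CdTameLib.Dvr
import Groth.Agent.ArtinVanLib.Local
import Groth.Agent.ArtinVanLib.HensModel
import Groth.Agent.HensH0.HenLocal
import Groth.Agent.EtTraceLib.DivSheaf
import Groth.Agent.Henselization.Fibre

/-!
# The generic point of the spectrum of a discrete valuation ring: higher direct images
-/

set_option autoImplicit false
set_option backward.isDefEq.respectTransparency false
set_option backward.isDefEq.respectTransparency.types false
set_option linter.style.haveILetI false
set_option maxHeartbeats 1000000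

universe u

open CategoryTheory CategoryTheory.Limits AlgebraicGeometry Opposite IsLocalRing

noncomputable section

namespace Groth.Agent.CdTameLib

open CdFieldLib EtTraceLib

attribute [local instance] Groth.Agent.S0101.result

/-- Strictly henselian discrete valuation rings over `R` have fields of fractions with `cd_p ≤ 1`. -/
def SHCd (p : ℕ) (R : Type u) [CommRing R] [IsLocalRing R] : Prop :=
  ∀ (S : Type u) [CommRing S] [IsDomain S] [IsDiscreteValuationRing S],
    EtCoh.IsStrictlyHenselianLocalRing S → ∀ f : R →+* S, IsLocalHom f → Function.Injective f →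
      (PerfectField (ResidueField R) → PerfectField (ResidueField S)) → CdP p 1 (FractionRing S)

theorem shCd_of_isUnit {p : ℕ} [Fact p.Prime] {R : Type u} [CommRing R] [IsLocalRing R] (hu : IsUnit (p : R)) :
    SHCd p R :=
  fun S _ _ _ hS f _ _ _ => cdP_one_of_strictlyHenselian_dvr S (FractionRing S) hS (by
    rw [← map_natCast f]
    exact hu.map f)

section

variable {R : Type u} [CommRing R] [IsDomain R] [IsDiscreteValuationRing R]

/-- The function field of the spectrum. -/
abbrev K₀ (R : Type u) [CommRing R] [IsDomain R] : Type u :=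
  (Spec (CommRingCat.of R)).presheaf.stalk (genericPoint (Spec (CommRingCat.of R)))

instance algebraK₀ : Algebra R (K₀ R) :=
  (StructureSheaf.toStalk R (genericPoint (Spec (CommRingCat.of R)))).hom.toAlgebra

instance fieldK₀ : Field (K₀ R) := inferInstanceAs (Field (Spec (CommRingCat.of R)).functionField)

instance isFractionRingK₀ : IsFractionRing R (K₀ R) :=
  haveI : IsDomain (CommRingCat.of R) := inferInstanceAs (IsDomain R)
  functionField_isFractionRing_of_affine (CommRingCat.of R)

theorem isPrincipalIdealRing_stalk (y : Spec (CommRingCat.of R)) :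
    IsPrincipalIdealRing ((Spec (CommRingCat.of R)).presheaf.stalk y) := by
  letI : Algebra R ((Spec (CommRingCat.of R)).presheaf.stalk y) := StructureSheaf.stalkAlgebra R y
  haveI : IsLocalization.AtPrime ((Spec (CommRingCat.of R)).presheaf.stalk y) y.asIdeal :=
    StructureSheaf.IsLocalization.to_stalk R y
  refine ⟨fun I => ?_⟩
  obtain ⟨a, ha⟩ := (IsPrincipalIdealRing.principal
    (I.comap (algebraMap R ((Spec (CommRingCat.of R)).presheaf.stalk y)))).principal
  refine ⟨⟨algebraMap R ((Spec (CommRingCat.of R)).presheaf.stalk y) a, ?_⟩⟩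
  refine Eq.trans (IsLocalization.map_comap y.asIdeal.primeCompl _ I).symm ?_
  refine (congrArg (Ideal.map (algebraMap R ((Spec (CommRingCat.of R)).presheaf.stalk y))) ha).trans ?_
  exact (Ideal.map_span _ _).trans (congrArg _ (Set.image_singleton ..))

theorem regularScheme_spec : RegularScheme (Spec (CommRingCat.of R)) := fun y => by
  haveI := isPrincipalIdealRing_stalk y
  haveI : IsDomain ((Spec (CommRingCat.of R)).presheaf.stalk y) := inferInstance
  infer_instance

theorem jη_eq :
    jη (Spec (CommRingCat.of R)) = Spec.map (CommRingCat.ofHom (algebraMap R (K₀ R))) :=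
  Spec.fromSpecStalk_eq' (CommRingCat.of R) _

theorem isLocalization_away (K : Type u) [Field K] [Algebra R K] [IsFractionRing R K] {π : R} (hπ : Irreducible π) :
    IsLocalization.Away π K := by
  refine ⟨?_, ?_, ?_⟩
  · rintro ⟨_, n, rfl⟩
    exact (IsUnit.mk0 _ ((map_ne_zero_iff _ (IsFractionRing.injective R K)).2 (pow_ne_zero n hπ.ne_zero)))
  · intro z
    obtain ⟨a, b, hb, rfl⟩ := IsFractionRing.div_surjective (A := R) z
    obtain ⟨n, u, rfl⟩ := IsDiscreteValuationRing.eq_unit_mul_pow_irreducible (nonZeroDivisors.ne_zero hb) hπ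
    refine ⟨⟨a * ((u⁻¹ : Rˣ) : R), ⟨π ^ n, n, rfl⟩⟩, ?_⟩
    show algebraMap R K a / algebraMap R K ((u : R) * π ^ n) * algebraMap R K (π ^ n) =
      algebraMap R K (a * ((u⁻¹ : Rˣ) : R))
    have h1 : algebraMap R K ((u⁻¹ : Rˣ) : R) * algebraMap R K (u : R) = 1 := by
      rw [← map_mul, Units.inv_mul, map_one]
    have h2 : algebraMap R K (π ^ n) ≠ 0 :=
      (map_ne_zero_iff _ (IsFractionRing.injective R K)).2 (pow_ne_zero n hπ.ne_zero)
    rw [map_mul, map_mul, mul_comm (algebraMap R K (u : R)), ← div_div, div_mul_eq_mul_div, div_mul_cancel₀ _ h2,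
      div_eq_iff (left_ne_zero_of_mul (a := algebraMap R K (u : R)) (b := algebraMap R K ((u⁻¹ : Rˣ) : R))
        (by rw [mul_comm, h1]; exact one_ne_zero)), mul_assoc, h1, mul_one]
  · intro x y h
    exact ⟨1, by rw [IsFractionRing.injective R K h]⟩

/-- The generic point is open. -/
theorem jη_open {π : R} (hπ : Irreducible π) :
    IsOpenImmersion (jη (Spec (CommRingCat.of R))) ∧
      Set.range (jη (Spec (CommRingCat.of R))) = (PrimeSpectrum.basicOpen π : Set (PrimeSpectrum R)) := by
  haveI := isLocalization_away (K₀ R) hπ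
  rw [jη_eq]
  exact ⟨IsOpenImmersion.of_isLocalization π, PrimeSpectrum.localization_away_comap_range (K₀ R) π⟩

instance quasiCompact_jη : QuasiCompact (jη (Spec (CommRingCat.of R))) := inferInstance

instance quasiSeparated_jη : QuasiSeparated (jη (Spec (CommRingCat.of R))) := inferInstance

/-- The cohomology of the punctured strict localizations vanishes above degree one. -/
theorem cdLE_pullback_jη {p : ℕ} [Fact p.Prime] (hSH : SHCd p R) (y : Spec (CommRingCat.of R)) (S : Type u)
    [CommRing S] [IsLocalRing S] [Algebra ((Spec (CommRingCat.of R)).presheaf.stalk y) S]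
    [IsLocalHom (algebraMap ((Spec (CommRingCat.of R)).presheaf.stalk y) S)]
    [Hensel.IsStrictHenselization ((Spec (CommRingCat.of R)).presheaf.stalk y) S] :
    CdLE {p} (pullback (jη (Spec (CommRingCat.of R))) (Hens2.specOf (Spec (CommRingCat.of R)) y S)) 1 := by
  obtain ⟨π, hπ⟩ := IsDiscreteValuationRing.exists_irreducible R
  let O := (Spec (CommRingCat.of R)).presheaf.stalk y
  letI : Algebra R O := StructureSheaf.stalkAlgebra R y
  haveI : IsLocalization.AtPrime O y.asIdeal := StructureSheaf.IsLocalization.to_stalk R y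
  haveI : IsNoetherianRing O := IsLocalization.isNoetherianRing y.asIdeal.primeCompl O inferInstance
  haveI : HenselianLocalRing S := Hensel.IsStrictHenselization.henselian (R := O) (S := S)
  haveI : IsSepClosed (ResidueField S) := (Hensel.IsStrictHenselization.isSepClosure (R := O) (S := S)).sep_closed
  obtain ⟨hj, hjr⟩ := jη_open hπ
  let f : R →+* S := (algebraMap O S).comp (algebraMap R O)
  have hspec : Hens2.specOf (Spec (CommRingCat.of R)) y S = Spec.map (CommRingCat.ofHom f) := by
    show Spec.map _ ≫ (Spec (CommRingCat.of R)).fromSpecStalk y = _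
    rw [Spec.fromSpecStalk_eq', ← Spec.map_comp]
    rfl
  have hpre : (Hens2.specOf (Spec (CommRingCat.of R)) y S) ⁻¹' Set.range (jη (Spec (CommRingCat.of R))) =
      (PrimeSpectrum.basicOpen (f π) : Set (PrimeSpectrum S)) := by
    rw [hjr, hspec]
    exact congrArg SetLike.coe (PrimeSpectrum.comap_basicOpen f π)
  by_cases hy : y.asIdeal = maximalIdeal R
  · -- the closed point
    obtain ⟨e⟩ := Henselization.exists_algEquiv_of_isStrictHenselization O S
    haveI : IsNoetherianRing S := (Henselization.isNoetherianRing_of_equiv e).2 inferInstance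
    have hmS : maximalIdeal S = Ideal.span {f π} := by
      rw [← Henselization.map_maximalIdeal_of_equiv e, ← IsLocalization.AtPrime.map_eq_maximalIdeal y.asIdeal O,
        Ideal.map_map, hy, hπ.maximalIdeal_eq, Ideal.map_span, Set.image_singleton]
    have h1 : Function.Injective f := by
      haveI := (Henselization.fineFibres_of_equiv e).flat
      haveI : Module.FaithfullyFlat O S := Module.FaithfullyFlat.of_flat_of_isLocalHom
      refine (FaithfulSMul.algebraMap_injective O S).comp ?_
      exact IsLocalization.injective O y.asIdeal.primeCompl_le_nonZeroDivisors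
    have hnil : ¬ IsNilpotent (f π) := by
      rw [IsNilpotent.map_iff h1, isNilpotent_iff_eq_zero]
      exact hπ.ne_zero
    obtain ⟨_, _⟩ := ArtinVanLib.exists_isDomain_dvr (f π) hmS hnil
    have hirr : Irreducible (f π) := (IsDiscreteValuationRing.irreducible_iff_uniformizer _).2 hmS
    haveI := isLocalization_away (FractionRing S) hirr
    let v : Spec (CommRingCat.of (FractionRing S)) ⟶ Spec (CommRingCat.of S) :=
      Spec.map (CommRingCat.ofHom (algebraMap S (FractionRing S)))
    haveI : IsOpenImmersion v := IsOpenImmersion.of_isLocalization (f π)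
    obtain ⟨i⟩ := ArtinVanLib.nonempty_iso_of_range (jη _) _ v
      ((PrimeSpectrum.localization_away_comap_range (FractionRing S) (f π)).trans hpre.symm)
    haveI hloc : IsLocalHom (algebraMap R O) := ⟨fun a ha => by
      by_contra h
      exact (IsLocalization.AtPrime.isUnit_to_map_iff O y.asIdeal a).1 ha (hy ▸ (mem_maximalIdeal a).2 h)⟩
    haveI hf : IsLocalHom f := RingHom.isLocalHom_comp _ _
    refine cdLE_of_iso i (hSH S ⟨inferInstance, inferInstance⟩ f hf h1 fun _ => ?_).cdLE
    haveI : Algebra.IsAlgebraic (ResidueField O) (ResidueField S) :=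
      (Hensel.IsStrictHenselization.isSepClosure (R := O) (S := S)).separable.isAlgebraic
    have hsurj : Function.Surjective (ResidueField.map (algebraMap R O)) := fun z => by
      obtain ⟨z, rfl⟩ := residue_surjective z
      obtain ⟨a, s, rfl⟩ := IsLocalization.exists_mk'_eq y.asIdeal.primeCompl z
      have hs : IsUnit (s : R) := by
        by_contra h
        exact s.2 ((SetLike.ext_iff.1 hy (s : R)).2 ((mem_maximalIdeal (s : R)).2 h))
      refine ⟨residue R (a * ((hs.unit⁻¹ : Rˣ) : R)), ?_⟩
      rw [ResidueField.map_residue]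
      refine congrArg _ ((IsLocalization.mk'_eq_iff_eq_mul.2 ?_).symm)
      rw [← map_mul, mul_assoc, IsUnit.val_inv_mul, mul_one]
    haveI : PerfectField (ResidueField O) :=
      PerfectField.of_ringEquiv (RingEquiv.ofBijective _ ⟨RingHom.injective _, hsurj⟩)
    exact Algebra.IsAlgebraic.perfectField (K := ResidueField O) (L := ResidueField S)
  · -- the generic point
    have hu : IsUnit (f π) := by
      refine ((IsLocalization.AtPrime.isUnit_to_map_iff O y.asIdeal π).2 fun h => hy ?_).map (algebraMap O S)
      exact (le_maximalIdeal y.isPrime.ne_top).antisymm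
        (hπ.maximalIdeal_eq.trans_le ((Ideal.span_singleton_le_iff_mem _).2 h))
    obtain ⟨i⟩ := ArtinVanLib.nonempty_iso_of_range (jη _) _ (𝟙 (Spec (CommRingCat.of S))) (by
      rw [hpre]
      refine (Set.range_id (α := PrimeSpectrum S)).trans (Eq.symm ?_)
      exact Set.eq_univ_of_forall fun x hx => x.isPrime.ne_top (Ideal.eq_top_of_isUnit_mem _ hx hu))
    refine cdLE_of_iso i fun F hF q hq => ?_
    obtain ⟨r, rfl⟩ : ∃ r, q = r + 1 := ⟨q - 1, by omega⟩
    exact EtVanish.subsingleton_H_strictlyHenselian S F r

/-- Higher direct images from the generic point vanish above degree one. -/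
theorem isZero_Rpush_jη {p : ℕ} [Fact p.Prime] (hSH : SHCd p R)
    (F : EtCoh.Ab (Spec (CommRingCat.of (K₀ R)))) (hF : EtAcyc.IsLTorsion {p} F) (q : ℕ) (hq : 1 < q) :
    IsZero ((EtCoh.Rpush (jη (Spec (CommRingCat.of R))) q).obj F) := by
  refine (EtPtsLib.isZero_iff_ab _).2 fun Ω _ _ ξ => ?_
  obtain ⟨y, hy⟩ : ∃ y, ξ default = y := ⟨_, rfl⟩
  obtain ⟨S, _, _, _, _, hS⟩ :=
    Henselization.exists_strictHenselization (R := (Spec (CommRingCat.of R)).presheaf.stalk y)
  haveI := hS
  haveI : IsSepClosed (ResidueField S) := (Hensel.IsStrictHenselization.isSepClosure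
    (R := (Spec (CommRingCat.of R)).presheaf.stalk y) (S := S)).sep_closed
  obtain ⟨e⟩ := Groth.Agent.S0620.result (jη (Spec (CommRingCat.of R))) F y S q
  haveI := cdLE_pullback_jη hSH y S _ (AcycCompLib.isLTorsion_pull (pullback.fst _ _) hF) q hq
  exact isZero_stalk_of_default_eq _ ((AddCommGrpCat.isZero_of_subsingleton _).of_iso e)
    (hy.trans (ArtinVanLib.geomPt_default y S).symm)

/-- The upper bound. -/
theorem CdP.fractionRing_dvr {p n : ℕ} [Fact p.Prime] [HenselianLocalRing R] (hSH : SHCd p R)
    (hk : CdP p n (ResidueField R)) (K : Type u) [Field K] [Algebra R K] [IsFractionRing R K] : CdP p (n + 1) K := by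
  have hY : CdLE {p} (Spec (CommRingCat.of R)) n := fun G hG q hq => by
    haveI := hk.cdLE _ (AcycCompLib.isLTorsion_pull (HensH0.closedIncl R) hG) q hq
    exact (HensH0.bijective_Hpull G q).1.subsingleton
  have h := cdLE_of_leray (jη (Spec (CommRingCat.of R))) (c := 1) (fun F hF q hq => isZero_Rpush_jη hSH F hF q hq) hY
  exact CdP.of_ringEquiv (FractionRing.algEquiv R K |>.symm.trans (FractionRing.algEquiv R (K₀ R)) |>.symm.toRingEquiv)
    (cdP_of_cdLE (Nat.add_comm 1 n ▸ h))

end

end Groth.Agent.CdTameLib
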