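import Mathlib.Algebra.Order.Ring.Ordering.Basic
import Mathlib.Algebra.Ring.Semireal.Defs
import Mathlib.Algebra.Ring.SumsOfSquares
import Mathlib.Order.Zorn
import Mathlib.Tactic

/-!
# Fields in which `-1` is not a sum of squares are orderable (Artin–Schreier)
-/

set_option autoImplicit false

universe u

namespace Groth.Agent.CdTameLib

variable {k : Type u} [Field k]

theorem exists_linearOrder (h : ¬ IsSumSq (-1 : k)) : ∃ _ : LinearOrder k, IsStrictOrderedRing k := by
  classical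
  let S : Set (Set k) := {P | (∀ x y, x ∈ P → y ∈ P → x + y ∈ P) ∧ (∀ x y, x ∈ P → y ∈ P → x * y ∈ P) ∧
    (∀ x, x * x ∈ P) ∧ (-1 : k) ∉ P}
  have h0 : {x : k | IsSumSq x} ∈ S :=
    ⟨fun x y hx hy => IsSumSq.add hx hy, fun x y hx hy => IsSumSq.mul hx hy, fun x => IsSumSq.mul_self x, h⟩
  obtain ⟨P, -, hP, hmax⟩ := zorn_subset_nonempty S (fun c hc hch hne => by
    refine ⟨⋃₀ c, ⟨?_, ?_, ?_, ?_⟩, fun s hs => Set.subset_sUnion_of_mem hs⟩
    · rintro x y ⟨s, hs, hx⟩ ⟨t, ht, hy⟩
      rcases hch.total hs ht with hst | hst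
      · exact ⟨t, ht, (hc ht).1 x y (hst hx) hy⟩
      · exact ⟨s, hs, (hc hs).1 x y hx (hst hy)⟩
    · rintro x y ⟨s, hs, hx⟩ ⟨t, ht, hy⟩
      rcases hch.total hs ht with hst | hst
      · exact ⟨t, ht, (hc ht).2.1 x y (hst hx) hy⟩
      · exact ⟨s, hs, (hc hs).2.1 x y hx (hst hy)⟩
    · intro x
      obtain ⟨s, hs⟩ := hne
      exact ⟨s, hs, (hc hs).2.2.1 x⟩
    · rintro ⟨s, hs, hx⟩
      exact (hc hs).2.2.2 hx) _ h0
  obtain ⟨hadd, hmul, hsq, hneg⟩ := hP
  have h1 : (1 : k) ∈ P := by simpa using hsq 1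
  have h00 : (0 : k) ∈ P := by simpa using hsq 0
  have hinv : ∀ x ∈ P, x⁻¹ ∈ P := fun x hx => by
    rcases eq_or_ne x 0 with rfl | hx0
    · simpa using h00
    · have : x⁻¹ = x * (x⁻¹ * x⁻¹) := by field_simp
      rw [this]
      exact hmul _ _ hx (hsq _)
  have htot : ∀ a, a ∈ P ∨ -a ∈ P := fun a => by
    by_contra hc
    rw [not_or] at hc
    let Q : Set k := {z | ∃ x ∈ P, ∃ y ∈ P, z = x - a * y}
    have hQ : Q ∈ S := by
      refine ⟨?_, ?_, fun x => ⟨x * x, hsq x, 0, h00, by ring⟩, ?_⟩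
      · rintro _ _ ⟨x, hx, y, hy, rfl⟩ ⟨x', hx', y', hy', rfl⟩
        exact ⟨x + x', hadd _ _ hx hx', y + y', hadd _ _ hy hy', by ring⟩
      · rintro _ _ ⟨x, hx, y, hy, rfl⟩ ⟨x', hx', y', hy', rfl⟩
        exact ⟨x * x' + a * a * (y * y'), hadd _ _ (hmul _ _ hx hx') (hmul _ _ (hsq a) (hmul _ _ hy hy')),
          x * y' + x' * y, hadd _ _ (hmul _ _ hx hy') (hmul _ _ hx' hy), by ring⟩
      · rintro ⟨x, hx, y, hy, he⟩
        rcases eq_or_ne y 0 with rfl | hy0
        · exact hneg (by rw [he, mul_zero, sub_zero]; exact hx)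
        · refine hc.1 ?_
          have : a = (1 + x) * y⁻¹ := by field_simp; linear_combination he
          rw [this]
          exact hmul _ _ (hadd _ _ h1 hx) (hinv _ hy)
    have hPQ : P ⊆ Q := fun x hx => ⟨x, hx, 0, h00, by ring⟩
    exact hc.2 (hmax hQ hPQ ⟨0, h00, 1, h1, by ring⟩)
  have hanti : ∀ a, a ∈ P → -a ∈ P → a = 0 := fun a ha hna => by
    by_contra ha0
    refine hneg ?_
    have : (-1 : k) = a⁻¹ * -a := by field_simp
    rw [this]
    exact hmul _ _ (hinv _ ha) hna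
  letI : LinearOrder k :=
    { le := fun x y => y - x ∈ P
      le_refl := fun x => by simpa using h00
      le_trans := fun x y z hxy hyz => by rw [show z - x = (y - x) + (z - y) by ring]; exact hadd _ _ hxy hyz
      le_antisymm := fun x y hxy hyx => (sub_eq_zero.1 (hanti _ hxy (by simpa using hyx))).symm
      le_total := fun x y => (htot (y - x)).imp id fun hh => by rwa [neg_sub] at hh
      toDecidableLE := Classical.decRel _ }
  haveI : IsOrderedAddMonoid k :=
    { add_le_add_left := fun a b hab c => by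
        show _ - _ ∈ P
        have hab' : b - a ∈ P := hab
        simpa using hab' }
  haveI : ZeroLEOneClass k := ⟨by show (1 : k) - 0 ∈ P; simpa using h1⟩
  refine ⟨inferInstance, IsStrictOrderedRing.of_mul_pos fun a b ha hb => ?_⟩
  have h2 : a * b - 0 ∈ P := by
    rw [sub_zero]
    have ha' : a - 0 ∈ P := ha.le
    have hb' : b - 0 ∈ P := hb.le
    rw [sub_zero] at ha' hb'
    exact hmul _ _ ha' hb'
  exact lt_of_le_of_ne h2 (mul_ne_zero ha.ne' hb.ne').symm

theorem isSumSq_iff_exists_list {x : k} (h : IsSumSq x) : ∃ l : List k, x = (l.map fun a => a * a).sum := by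
  induction h using IsSumSq.rec' with
  | zero => exact ⟨[], rfl⟩
  | sq_add ha _ ih =>
    obtain ⟨l, hl⟩ := ih
    obtain ⟨r, hr⟩ := ha
    exact ⟨r :: l, by simp [hl, hr]⟩

/-- A field without orderings has finite level. -/
theorem exists_level (h : ¬ ∃ _ : LinearOrder k, IsStrictOrderedRing k) :
    ∃ l : List k, (-1 : k) = (l.map fun a => a * a).sum :=
  isSumSq_iff_exists_list (by_contra fun hn => h (exists_linearOrder hn))

end Groth.Agent.CdTameLib
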