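import Groth.Agent.CdTameLib.Cyclic
import Groth.Agent.CdTameLib.Albert
import Groth.Agent.CdTameLib.Ordering
import Mathlib.FieldTheory.KummerExtension

/-!
# The dimension is insensitive to finite extensions (Serre), for fields

For `p` invertible and `p ≠ 2` or the field not orderable.
-/

set_option autoImplicit false
set_option backward.isDefEq.respectTransparency false
set_option backward.isDefEq.respectTransparency.types false
set_option linter.style.haveILetI false
set_option maxHeartbeats 1000000

universe u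

open CategoryTheory CategoryTheory.Limits AlgebraicGeometry Opposite CategoryTheory.Abelian Polynomial

noncomputable section

namespace Groth.Agent.CdTameLib

open EtTraceLib CdFieldLib

variable {p : ℕ} [hp : Fact p.Prime] {n : ℕ}

/-- Sheaves killed by `p` detect the dimension. -/
theorem cdP_of_nsmul {K : Type u} [Field K]
    (h : ∀ F : EtCoh.Ab (Spec (CommRingCat.of K)), p • 𝟙 F = 0 → ∀ q : ℕ, n < q →
      ∀ x : EtCoh.H (Spec (CommRingCat.of K)) F q, x = 0) : CdP p n K := by
  refine cdP_of_killed fun E _ _ _ _ _ q hq x => ?_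
  haveI := isFinite_specMap K E
  let π := Spec.map (CommRingCat.ofHom (algebraMap K E))
  obtain ⟨e⟩ := EtVanish.nonempty_H_push_equiv π (EtCoh.const (Spec (CommRingCat.of E)) (ZMod p)) q
  haveI : Subsingleton (EtCoh.H _ ((EtCoh.push π).obj (EtCoh.const (Spec (CommRingCat.of E)) (ZMod p))) q) :=
    subsingleton_of_forall_eq 0 fun y => h _ (by
      have h1 : p • 𝟙 (EtCoh.const (Spec (CommRingCat.of E)) (ZMod p)) = 0 :=
        (FLCLib.killedBy_iff p _).1 (PBCLib.killedBy_const _ p)
      rw [← CategoryTheory.Functor.map_id, ← Functor.map_nsmul, h1, Functor.map_zero]) q hq y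
  haveI := e.symm.toEquiv.subsingleton
  exact Subsingleton.elim x 0

theorem CdP.nsmul {K : Type u} [Field K] (h : CdP p n K) (F : EtCoh.Ab (Spec (CommRingCat.of K))) (hF : p • 𝟙 F = 0)
    (q : ℕ) (hq : n < q) (x : EtCoh.H (Spec (CommRingCat.of K)) F q) : x = 0 :=
  h q hq F (isTorsion_of_nsmul_id_eq_zero hp.out.pos hF) x ⟨1, by rw [pow_one]; exact nsmul_ext_eq_zero hF x⟩

/-- A cyclic extension of degree `p` inside a cyclic extension of degree `p²`. -/
theorem CdP.of_albert {k L : Type u} [Field k] [Field L] [Algebra k L] [FiniteDimensional k L] [IsGalois k L]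
    (hL : Module.finrank k L = p) {ζ : k} (hζ : IsPrimitiveRoot ζ p) (ω : L) (hω : Algebra.norm k ω = ζ)
    (h : CdP p n L) : CdP p n k := by
  obtain ⟨M, _, _, _, _, _, _, hcyc, hM⟩ := exists_cyclic_sq hL hζ ω hω
  exact cdP_of_nsmul fun F hF q hq x => eq_zero_of_cyclic_sq (L := L) (M := M) hcyc p hM.symm.dvd
    (fun G hG r hr y => h.nsmul G hG r hr y) hF q hq x

/-- The dimension of finite separable extensions bounds that of the field. -/
def Desc (p : ℕ) (k : Type u) [Field k] : Prop :=
  ∀ n : ℕ, ∀ (E : Type u) [Field E] [Algebra k E] [FiniteDimensional k E] [Algebra.IsSeparable k E],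
    CdP p n E → CdP p n k

omit hp in
theorem isPrimitiveRoot_map {k E : Type u} [Field k] [Field E] [Algebra k E] {ζ : k} {m : ℕ}
    (hζ : IsPrimitiveRoot ζ m) : IsPrimitiveRoot (algebraMap k E ζ) m :=
  hζ.map_of_injective (algebraMap k E).injective

/-- Galois extensions of `p`-power degree, with a root of unity of order `p²`. -/
theorem pgroup_descend : ∀ (N : ℕ) (E M : Type u) [Field E] [Field M] [Algebra E M] [FiniteDimensional E M]
    [IsGalois E M], (∃ z : E, IsPrimitiveRoot z (p ^ 2)) → Module.finrank E M = p ^ N → CdP p n M → CdP p n E := by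
  intro N
  induction N with
  | zero =>
    intro E M _ _ _ _ _ _ hN h
    refine h.of_finite_prime_to M ?_
    rw [hN, pow_zero]
    exact hp.out.not_dvd_one
  | succ N ih =>
    rintro E M _ _ _ _ _ ⟨z, hz⟩ hN h
    have hcard : Nat.card (M ≃ₐ[E] M) = p ^ (N + 1) := by rw [IsGalois.card_aut_eq_finrank, hN]
    obtain ⟨H, hH⟩ := Sylow.exists_subgroup_card_pow_prime (G := M ≃ₐ[E] M) p (n := N)
      (hcard ▸ pow_dvd_pow p (Nat.le_succ N))
    have hidx : H.index = p := by
      have := Subgroup.card_mul_index H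
      rw [hH, hcard, pow_succ] at this
      exact Nat.eq_of_mul_eq_mul_left (pow_pos hp.out.pos N) this
    haveI : H.Normal := Subgroup.normal_of_index_eq_minFac_card (by
      rw [hidx, hcard, Nat.pow_minFac N.succ_ne_zero, hp.out.minFac_eq])
    let E₁ := IntermediateField.fixedField H
    haveI : IsGalois E E₁ := IsGalois.of_fixedField_normal_subgroup H
    have hM1 : Module.finrank E₁ M = p ^ N := (IntermediateField.finrank_fixedField_eq_card H).trans hH
    have h1 : Module.finrank E E₁ = p := by
      refine Nat.eq_of_mul_eq_mul_right (pow_pos hp.out.pos N) ?_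
      rw [← hM1, Module.finrank_mul_finrank, hN, hM1, pow_succ, mul_comm]
    have h2 : CdP p n E₁ := ih E₁ M ⟨_, isPrimitiveRoot_map hz⟩ hM1 h
    refine CdP.of_albert h1 (hz.pow (pow_pos hp.out.pos 2) (sq p)) (algebraMap E E₁ z) ?_ h2
    rw [Algebra.norm_algebraMap, h1]

/-- The case of a root of unity of order `p²`. -/
theorem desc_of_root {k : Type u} [Field k] (hk : ∃ z : k, IsPrimitiveRoot z (p ^ 2)) : Desc p k := by
  intro n E _ _ _ _ h
  obtain ⟨M, _, _, _, _, _, ⟨σ⟩⟩ := exists_galois k E
  letI : Algebra E M := σ.toRingHom.toAlgebra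
  haveI : IsScalarTower k E M := IsScalarTower.of_algebraMap_eq fun x => (σ.commutes x).symm
  haveI : FiniteDimensional E M := FiniteDimensional.right k E M
  have hM : CdP p n M := h.of_isAlgebraic M
  let P : Sylow p (M ≃ₐ[k] M) := default
  let F := IntermediateField.fixedField (P : Subgroup (M ≃ₐ[k] M))
  obtain ⟨N, hN⟩ := IsPGroup.iff_card.1 P.isPGroup'
  have hMF : Module.finrank F M = p ^ N := (IntermediateField.finrank_fixedField_eq_card _).trans hN
  have hF : Module.finrank k F = (P : Subgroup (M ≃ₐ[k] M)).index := by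
    refine Nat.eq_of_mul_eq_mul_right (Module.finrank_pos : 0 < Module.finrank F M) ?_
    rw [Module.finrank_mul_finrank, hMF, ← hN, Subgroup.index_mul_card, IsGalois.card_aut_eq_finrank]
  haveI : IsGalois F M := IsGalois.tower_top_intermediateField F
  obtain ⟨z, hz⟩ := hk
  exact (pgroup_descend N F M ⟨_, isPrimitiveRoot_map hz⟩ hMF hM).of_finite_prime_to F
    (hF ▸ P.not_dvd_index)

/-- A finite extension containing two given ones. -/
theorem exists_compositum (k : Type u) [Field k] (E : Type u) [Field E] [Algebra k E] [FiniteDimensional k E]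
    [Algebra.IsSeparable k E] (K₁ : Type u) [Field K₁] [Algebra k K₁] [FiniteDimensional k K₁]
    [Algebra.IsSeparable k K₁] :
    ∃ (E' : Type u) (_ : Field E') (_ : Algebra E E') (_ : Algebra.IsAlgebraic E E') (_ : Algebra K₁ E'),
      FiniteDimensional K₁ E' ∧ Algebra.IsSeparable K₁ E' := by
  let Ω := AlgebraicClosure E
  let σ : K₁ →ₐ[k] Ω := IsAlgClosed.lift
  letI : Algebra K₁ Ω := σ.toRingHom.toAlgebra
  haveI : IsScalarTower k K₁ Ω := IsScalarTower.of_algebraMap_eq fun x => (σ.commutes x).symm
  let A : IntermediateField k Ω := (IsScalarTower.toAlgHom k E Ω).fieldRange ⊔ σ.fieldRange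
  haveI : FiniteDimensional k (IsScalarTower.toAlgHom k E Ω).fieldRange :=
    Module.Finite.equiv (AlgEquiv.ofInjectiveField (IsScalarTower.toAlgHom k E Ω)).toLinearEquiv
  haveI : FiniteDimensional k σ.fieldRange := Module.Finite.equiv (AlgEquiv.ofInjectiveField σ).toLinearEquiv
  haveI : FiniteDimensional k A := IntermediateField.finiteDimensional_sup _ _
  let iE : E →ₐ[k] A := (IsScalarTower.toAlgHom k E Ω).codRestrict A.toSubalgebra fun x =>
    (le_sup_left : _ ≤ A) ⟨x, rfl⟩
  let iK : K₁ →ₐ[k] A := σ.codRestrict A.toSubalgebra fun x => (le_sup_right : _ ≤ A) ⟨x, rfl⟩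
  letI : Algebra E A := iE.toRingHom.toAlgebra
  haveI : IsScalarTower k E A := IsScalarTower.of_algebraMap_eq fun x => (iE.commutes x).symm
  letI : Algebra K₁ A := iK.toRingHom.toAlgebra
  haveI : IsScalarTower k K₁ A := IsScalarTower.of_algebraMap_eq fun x => (iK.commutes x).symm
  haveI : FiniteDimensional E A := FiniteDimensional.right k E A
  haveI : Algebra.IsSeparable k A := by
    haveI : Algebra.IsSeparable k (IsScalarTower.toAlgHom k E Ω).fieldRange :=
      AlgEquiv.Algebra.isSeparable (AlgEquiv.ofInjectiveField (IsScalarTower.toAlgHom k E Ω))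
    haveI : Algebra.IsSeparable k σ.fieldRange := AlgEquiv.Algebra.isSeparable (AlgEquiv.ofInjectiveField σ)
    exact IntermediateField.isSeparable_sup k Ω _ _
  exact ⟨A, inferInstance, inferInstance, inferInstance, inferInstance, FiniteDimensional.right k K₁ A,
    Algebra.isSeparable_tower_top_of_isSeparable k K₁ A⟩

/-- Descent through an intermediate field. -/
theorem desc_of_ext {k : Type u} [Field k] (K₁ : Type u) [Field K₁] [Algebra k K₁] [FiniteDimensional k K₁]
    [Algebra.IsSeparable k K₁] (h₁ : Desc p K₁) (h : ∀ n, CdP p n K₁ → CdP p n k) : Desc p k := by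
  intro n E _ _ _ _ hE
  obtain ⟨E', _, _, _, _, hfin, hsep⟩ := exists_compositum k E K₁
  exact h n (h₁ n E' (hE.of_isAlgebraic E'))

end Groth.Agent.CdTameLib
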