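import Groth.Agent.CdTameLib.Dvr
import Mathlib.RingTheory.Trace.Basic
import Mathlib.RingTheory.Norm.Transitivity

/-!
# Norms over henselian discrete valuation rings with algebraically closed residue field

In residue characteristic `p` the norm of a Galois extension of degree `p` is surjective: for each level `j`
there is an element `z` with `N(1 + x z)` a polynomial in `x` whose reduction at level `j` is not constant, and
units close to one are `p`-th powers.
-/

set_option autoImplicit false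
set_option backward.isDefEq.respectTransparency false
set_option backward.isDefEq.respectTransparency.types false
set_option linter.style.haveILetI false
set_option maxHeartbeats 1000000

universe u

open IsLocalRing Polynomial

noncomputable section

namespace Groth.Agent.CdTameLib

variable {p : ℕ} [hp : Fact p.Prime]

/-- Units close to one are `p`-th powers. -/
theorem exists_pow_eq_of_sq {B : Type u} [CommRing B] [HenselianLocalRing B] (w : B) (hw : w ∈ maximalIdeal B) :
    ∃ z : B, (1 + (p : B) * z) ^ p = 1 + (p : B) ^ 2 * w := by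
  rcases subsingleton_or_nontrivial B with hB | hB
  · exact ⟨0, Subsingleton.elim _ _⟩
  -- the coefficients of `((1 + p z) ^ p - 1) / p ^ 2`
  have hc : ∀ i, 2 ≤ i → ∃ c : B, (p.choose i : B) * (p : B) ^ i = (p : B) ^ 2 * c := fun i hi =>
    ⟨(p.choose i : B) * (p : B) ^ (i - 2), by rw [mul_left_comm, ← pow_add, Nat.add_sub_cancel' hi]⟩
  choose c hc using hc
  let d : ℕ → B := fun i => if h : 2 ≤ i then c i h * w ^ (i - 1) else 0
  have hd : ∀ i, d i ∈ maximalIdeal B := fun i => by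
    by_cases h : 2 ≤ i
    · simp only [d, dif_pos h]
      exact Ideal.mul_mem_left _ _ (Ideal.pow_mem_of_mem _ hw _ (by omega))
    · simp [d, h]
  let g : B[X] := X ^ p - (X ^ (p - 1) + ∑ i ∈ Finset.Icc 2 p, C (d i) * X ^ (p - i))
  have hmon : g.Monic := by
    refine monic_X_pow_sub ?_
    refine (degree_add_le _ _).trans_lt (max_lt ?_ ?_)
    · rw [degree_X_pow]
      exact_mod_cast Nat.sub_lt hp.out.pos one_pos
    · refine (degree_sum_le _ _).trans_lt ((Finset.sup_lt_iff (WithBot.bot_lt_coe _)).2 fun i hi => ?_)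
      refine (degree_C_mul_X_pow_le _ _).trans_lt ?_
      have := (Finset.mem_Icc.1 hi).1
      exact_mod_cast Nat.sub_lt hp.out.pos (by omega)
  have h0 : g.eval 1 ∈ maximalIdeal B := by
    simp only [g, eval_sub, eval_add, eval_pow, eval_X, one_pow, eval_finset_sum, eval_mul, eval_C, mul_one,
      sub_add_cancel_left]
    exact neg_mem (Ideal.sum_mem _ fun i _ => hd i)
  have h1 : IsUnit (g.derivative.eval 1) := by
    have e : g.derivative.eval 1 = 1 + -∑ i ∈ Finset.Icc 2 p, d i * ((p - i : ℕ) : B) := by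
      simp only [g, derivative_sub, derivative_add, derivative_X_pow, derivative_sum, derivative_C_mul_X_pow,
        eval_sub, eval_add, eval_mul, eval_C, eval_pow, eval_X, one_pow, mul_one, eval_finset_sum]
      rw [Nat.cast_sub hp.out.one_le, Nat.cast_one]
      ring
    rw [e, ← notMem_maximalIdeal]
    intro h
    refine (maximalIdeal B).ne_top_iff_one.1 (maximalIdeal.isMaximal B).ne_top ?_
    have h2 : (∑ i ∈ Finset.Icc 2 p, d i * ((p - i : ℕ) : B)) ∈ maximalIdeal B :=
      Ideal.sum_mem _ fun i _ => Ideal.mul_mem_right _ _ (hd i)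
    have h3 := add_mem h h2
    rwa [neg_add_cancel_right] at h3
  obtain ⟨s, hs, hs1⟩ := HenselianLocalRing.is_henselian g hmon 1 h0 h1
  have hsu : IsUnit s := by
    rw [← notMem_maximalIdeal]
    intro h
    exact (maximalIdeal B).ne_top_iff_one.1 (maximalIdeal.isMaximal B).ne_top (by simpa using sub_mem h hs1)
  obtain ⟨r, hr⟩ := hsu.exists_right_inv
  refine ⟨w * r, ?_⟩
  simp only [g, IsRoot.def, eval_sub, eval_add, eval_pow, eval_X, eval_finset_sum, eval_mul, eval_C, sub_eq_zero] at hs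
  have key : (p : B) ^ 2 * w * s ^ p = ∑ i ∈ Finset.Icc 1 p, (p.choose i : B) * ((p : B) * w) ^ i * s ^ (p - i) := by
    rw [show Finset.Icc 1 p = insert 1 (Finset.Icc 2 p) by
      ext i; simp only [Finset.mem_Icc, Finset.mem_insert]; have := hp.out.one_le; omega]
    rw [Finset.sum_insert (by simp), Nat.choose_one_right, hs, mul_add, Finset.mul_sum]
    congr 1
    · ring
    · refine Finset.sum_congr rfl fun i hi => ?_
      have h2 := (Finset.mem_Icc.1 hi).1
      simp only [d, dif_pos h2]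
      obtain ⟨n, rfl⟩ : ∃ n, i = n + 1 := ⟨i - 1, by omega⟩
      rw [Nat.add_sub_cancel, mul_pow, ← mul_assoc (p.choose (n + 1) : B), hc _ h2]
      ring
  have hb : ∑ i ∈ Finset.Icc 1 p, (p.choose i : B) * ((p : B) * w) ^ i * s ^ (p - i) = ((p : B) * w + s) ^ p - s ^ p := by
    rw [add_pow, Finset.range_eq_Ico, Finset.sum_eq_sum_Ico_succ_bot (Nat.succ_pos p)]
    simp only [pow_zero, one_mul, Nat.sub_zero, Nat.choose_zero_right, Nat.cast_one, mul_one, add_sub_cancel_left]
    rw [show Finset.Ico (0 + 1) (p + 1) = Finset.Icc 1 p by ext i; simp]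
    exact Finset.sum_congr rfl fun i _ => by ring
  have h4 : (1 + (p : B) * (w * r)) ^ p * s ^ p = ((p : B) * w + s) ^ p := by
    rw [← mul_pow]
    congr 1
    linear_combination ((p : B) * w) * hr
  refine (hsu.pow p).mul_right_cancel ?_
  linear_combination h4 - key - hb

section

variable (B E L : Type u) [CommRing B] [IsDomain B] [IsDiscreteValuationRing B] [HenselianLocalRing B]
  [IsAlgClosed (ResidueField B)] [Field E] [Algebra B E] [IsFractionRing B E] [Field L] [Algebra E L]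
  [Algebra B L] [IsScalarTower B E L] [FiniteDimensional E L] [IsGalois E L]

/-- The integral closure. -/
local notation "𝒞" => integralClosure B L

theorem exists_ramified (hL : Module.finrank E L = p) :
    ∃ (ϑ : 𝒞) (π : B), Irreducible π ∧ algebraMap B E π = Algebra.norm E (ϑ : L) ∧
      (∃ γ : 𝒞, algebraMap B 𝒞 π = ϑ * γ) ∧ ∃ (e : ℕ) (δ : 𝒞), ϑ ^ e = algebraMap B 𝒞 π * δ := by
  haveI : Module.Finite B 𝒞 := IsIntegralClosure.finite B E L 𝒞
  haveI : IsLocalRing 𝒞 := NormalTensor.isLocalRing_of_finite_domain B 𝒞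
  haveI : IsDedekindDomain 𝒞 := IsIntegralClosure.isDedekindDomain B E L 𝒞
  haveI : IsFractionRing 𝒞 L := IsIntegralClosure.isFractionRing_of_finite_extension B E L 𝒞
  have hinj : Function.Injective (algebraMap B 𝒞) := by
    refine Function.Injective.of_comp (f := algebraMap 𝒞 L) ?_
    rw [← RingHom.coe_comp, ← IsScalarTower.algebraMap_eq B 𝒞 L, IsScalarTower.algebraMap_eq B E L]
    exact (algebraMap E L).injective.comp (IsFractionRing.injective B E)
  haveI : FaithfulSMul B 𝒞 := (faithfulSMul_iff_algebraMap_injective B 𝒞).2 hinj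
  have hne : ¬ IsField 𝒞 := fun h => IsDiscreteValuationRing.not_isField B (isField_of_isIntegral_of_isField hinj h)
  haveI : IsDiscreteValuationRing 𝒞 :=
    ((IsDiscreteValuationRing.TFAE 𝒞 hne).out 2 0).1 (inferInstance : IsDedekindDomain 𝒞)
  haveI : IsIntegrallyClosed B := inferInstance
  obtain ⟨ϑ, hϑ⟩ := IsDiscreteValuationRing.exists_irreducible 𝒞
  obtain ⟨ϖ, hϖ⟩ := IsDiscreteValuationRing.exists_irreducible B
  have hint : ∀ c : 𝒞, ∃ b : B, algebraMap B E b = Algebra.norm E (c : L) := fun c =>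
    IsIntegrallyClosed.isIntegral_iff.1 (Algebra.isIntegral_norm E c.2)
  choose Nm hNm using hint
  have hNm_mul : ∀ a b, Nm (a * b) = Nm a * Nm b := fun a b => IsFractionRing.injective B E (by
    rw [map_mul, hNm, hNm, hNm, Subalgebra.coe_mul, map_mul])
  have hNm_alg : ∀ b : B, Nm (algebraMap B 𝒞 b) = b ^ p := fun b => IsFractionRing.injective B E (by
    rw [hNm, map_pow, Subalgebra.coe_algebraMap, IsScalarTower.algebraMap_apply B E L, Algebra.norm_algebraMap, hL])
  -- `e = p`
  have hϖ0 : algebraMap B 𝒞 ϖ ≠ 0 := (map_ne_zero_iff _ hinj).2 hϖ.ne_zero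
  obtain ⟨e, u, hu⟩ := IsDiscreteValuationRing.eq_unit_mul_pow_irreducible hϖ0 hϑ
  have he0 : e ≠ 0 := fun h => by
    rw [h, pow_zero, mul_one] at hu
    exact hϖ.not_isUnit (IsUnit.of_map (algebraMap B 𝒞) _ (hu ▸ u.isUnit))
  have he1 : e ≠ 1 := fun h => by
    rw [h, pow_one] at hu
    have hmax : maximalIdeal 𝒞 = (maximalIdeal B).map (algebraMap B 𝒞) := by
      rw [hϖ.maximalIdeal_eq, Ideal.map_span, Set.image_singleton, hu, hϑ.maximalIdeal_eq,
        Ideal.span_singleton_mul_left_unit u.isUnit]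
    haveI : IsLocalHom (algebraMap B 𝒞) := (RingHom.IsIntegral.isLocalHom
      (algebraMap_isIntegral_iff.2 inferInstance) hinj)
    have hres : Function.Surjective (algebraMap (ResidueField B) (ResidueField 𝒞)) :=
      (IsAlgClosed.algebraMap_bijective_of_isIntegral (k := ResidueField B) (K := ResidueField 𝒞)).2
    have htop : (⊤ : Submodule B 𝒞) ≤ LinearMap.range (Algebra.linearMap B 𝒞) := by
      refine Submodule.le_of_le_smul_of_le_jacobson_bot (I := maximalIdeal B) Module.Finite.fg_top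
        (IsLocalRing.maximalIdeal_le_jacobson _) fun c _ => ?_
      obtain ⟨b, hb⟩ := hres (residue 𝒞 c)
      obtain ⟨b, rfl⟩ := residue_surjective b
      have h1 : c - algebraMap B 𝒞 b ∈ maximalIdeal 𝒞 := by
        rw [← residue_eq_zero_iff, map_sub, sub_eq_zero, ← hb]
        rfl
      rw [hmax, ← Submodule.restrictScalars_mem B, ← Ideal.smul_top_eq_map] at h1
      have h2 := Submodule.add_mem_sup (LinearMap.mem_range_self (Algebra.linearMap B 𝒞) b) h1
      simpa using h2
    have hone : ∀ x : L, ∃ a : E, algebraMap E L a = x := fun x => by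
      obtain ⟨c, d, hd, rfl⟩ := IsFractionRing.div_surjective (A := 𝒞) x
      obtain ⟨b, rfl⟩ := htop (Submodule.mem_top (x := c))
      obtain ⟨b', rfl⟩ := htop (Submodule.mem_top (x := d))
      refine ⟨algebraMap B E b / algebraMap B E b', ?_⟩
      rw [_root_.map_div₀, ← IsScalarTower.algebraMap_apply, ← IsScalarTower.algebraMap_apply]
      rfl
    have h4 := finrank_eq_one (R := E) (M := L) (1 : L) one_ne_zero fun x => by
      obtain ⟨a, rfl⟩ := hone x
      exact ⟨a, by rw [Algebra.smul_def, mul_one]⟩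
    exact hp.out.one_lt.ne' (hL.symm.trans h4)
  have hNu : IsUnit (Nm (u : 𝒞)) := by
    refine IsUnit.of_mul_eq_one (Nm ((u⁻¹ : 𝒞ˣ) : 𝒞)) ?_
    rw [← hNm_mul, Units.mul_inv, ← map_one (algebraMap B 𝒞), hNm_alg, one_pow]
  have hpow : ∀ n, Nm (ϑ ^ n) = Nm ϑ ^ n := fun n => by
    induction n with
    | zero => rw [pow_zero, pow_zero, ← map_one (algebraMap B 𝒞), hNm_alg, one_pow]
    | succ n ih => rw [pow_succ, pow_succ, hNm_mul, ih]
  have hval : ϖ ^ p = Nm (u : 𝒞) * Nm ϑ ^ e := by rw [← hNm_alg, hu, hNm_mul, hpow]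
  have hN0 : Nm ϑ ≠ 0 := fun h => by
    rw [h, zero_pow he0, mul_zero] at hval
    exact pow_ne_zero p hϖ.ne_zero hval
  obtain ⟨v, w, hw⟩ := IsDiscreteValuationRing.eq_unit_mul_pow_irreducible hN0 hϖ
  have hev : p = v * e := by
    refine IsDiscreteValuationRing.unit_mul_pow_congr_pow hϖ hϖ 1 (hNu.unit * w ^ e) p (v * e) ?_
    rw [Units.val_one, one_mul, hval, hw, mul_pow, ← pow_mul, Units.val_mul, Units.val_pow_eq_pow_val, IsUnit.unit_spec]
    ring
  have hv : v = 1 := by
    rcases (Nat.dvd_prime hp.out).1 (Dvd.intro_left v hev.symm) with h | h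
    · exact absurd h he1
    · rw [h] at hev
      exact (Nat.eq_of_mul_eq_mul_right hp.out.pos (by rw [one_mul]; exact hev)).symm
  subst hv
  refine ⟨ϑ, (w : B) * ϖ, irreducible_isUnit_mul w.isUnit |>.2 hϖ, by rw [← hNm, hw, pow_one],
    ⟨(algebraMap B 𝒞 (w : B)) * ((u : 𝒞) * ϑ ^ (e - 1)), ?_⟩, e,
    algebraMap B 𝒞 ((w⁻¹ : Bˣ) : B) * ((u⁻¹ : 𝒞ˣ) : 𝒞), ?_⟩
  · rw [map_mul, hu, mul_left_comm ϑ, mul_left_comm ϑ, ← pow_succ', Nat.sub_add_cancel (Nat.pos_of_ne_zero he0)]
  · calc ϑ ^ e = (algebraMap B 𝒞 ((w : B) * ((w⁻¹ : Bˣ) : B))) * (((u : 𝒞) * ((u⁻¹ : 𝒞ˣ) : 𝒞)) * ϑ ^ e) := by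
          rw [Units.mul_inv, Units.mul_inv, map_one, one_mul, one_mul]
      _ = _ := by rw [map_mul, map_mul, hu]; ring

/-- The coefficients of `N(1 + X z)`. -/
theorem exists_norm_coeff (hL : Module.finrank E L = p) (hu : (p : ResidueField B) = 0) (z : 𝒞) (π : B) (j : ℕ)
    (htr : ∀ c : 𝒞, ∃ b : B, algebraMap B E (π ^ j * b) = Algebra.trace E L ((z : L) * (c : L)))
    (hN : ∃ b : B, algebraMap B E (π ^ j * b) = Algebra.norm E (z : L)) :
    ∃ a : ℕ → B, (algebraMap B E (π ^ j * a 1) = Algebra.trace E L (z : L)) ∧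
      (algebraMap B E (π ^ j * a p) = Algebra.norm E (z : L)) ∧
      ∀ x : B, Algebra.norm E (1 + algebraMap B L x * (z : L)) =
        algebraMap B E (1 + π ^ j * ∑ s ∈ Finset.Icc 1 p, a s * x ^ s) := by
  classical
  let f : (L ≃ₐ[E] L) → L[X] := fun g => 1 + C (g (z : L)) * X
  let P : L[X] := ∏ g, f g
  let Q : L[X] := C (z : L) * ∏ g ∈ Finset.univ.erase 1, f g
  have hcard : Fintype.card (L ≃ₐ[E] L) = p := by
    rw [← Nat.card_eq_fintype_card, IsGalois.card_aut_eq_finrank, hL]
  have hderiv : derivative P = ∑ g : L ≃ₐ[E] L, Q.map (g : L →+* L) := by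
    rw [derivative_prod_finset]
    refine Finset.sum_congr rfl fun g _ => ?_
    have h1 : derivative (f g) = C (g (z : L)) := by
      simp [f, derivative_add, derivative_mul]
    have h2 : (∏ h ∈ Finset.univ.erase (1 : L ≃ₐ[E] L), f h).map (g : L →+* L) = ∏ h ∈ Finset.univ.erase g, f h := by
      rw [Polynomial.map_prod]
      refine Finset.prod_equiv (Equiv.mulLeft g) (fun h => ?_) fun h _ => ?_
      · simp
      · simp [f, AlgEquiv.mul_apply]
    rw [h1, Polynomial.map_mul, map_C, h2, mul_comm]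
    rfl
  -- the coefficients of `Q` are integral multiples of `z`
  have hQ : ∀ n, ∃ c : 𝒞, Q.coeff n = (z : L) * (c : L) := fun n => by
    have hmem : (∏ g ∈ Finset.univ.erase (1 : L ≃ₐ[E] L), f g) ∈ lifts (algebraMap 𝒞 L) := by
      refine prod_mem fun g _ => add_mem (one_mem _) (mul_mem (C'_mem_lifts ⟨⟨g (z : L), ?_⟩, rfl⟩) (X_mem_lifts _))
      exact z.2.map ((g : L →ₐ[E] L).restrictScalars B)
    obtain ⟨c, hc⟩ := (lifts_iff_coeff_lifts _).1 hmem n
    exact ⟨c, by rw [coeff_C_mul, ← hc]; rfl⟩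
  have hsum : ∀ n, ((n + 1 : ℕ) : L) * P.coeff (n + 1) = algebraMap E L (Algebra.trace E L (Q.coeff n)) := fun n => by
    have h := congrArg (fun r => r.coeff n) hderiv
    simp only [coeff_derivative, finset_sum_coeff, coeff_map] at h
    rw [trace_eq_sum_automorphisms, mul_comm, Nat.cast_succ]
    exact h
  have h0 : P.coeff 0 = 1 := by
    rw [coeff_zero_eq_eval_zero, eval_prod]
    simp [f]
  have hdeg : P.natDegree ≤ p := by
    refine (natDegree_prod_le _ _).trans ?_
    refine (Finset.sum_le_card_nsmul _ _ 1 fun g _ => ?_).trans (by rw [Finset.card_univ, hcard, smul_eq_mul, mul_one])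
    exact (natDegree_add_le _ _).trans (max_le (by simp) ((natDegree_C_mul_le _ _).trans natDegree_X_le))
  have htop : P.coeff p = algebraMap E L (Algebra.norm E (z : L)) := by
    have h := coeff_prod_of_natDegree_le (s := (Finset.univ : Finset (L ≃ₐ[E] L))) (fun g => f g) 1 fun g _ =>
      (natDegree_add_le _ _).trans (max_le (by simp) ((natDegree_C_mul_le _ _).trans natDegree_X_le))
    rw [Finset.card_univ, hcard, mul_one] at h
    rw [h, Algebra.norm_eq_prod_automorphisms]
    exact Finset.prod_congr rfl fun g _ => by simp [f, coeff_one]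
  -- the coefficients at level `j`
  have ha : ∀ s, ∃ a : B, 1 ≤ s → s ≤ p → P.coeff s = algebraMap B L (π ^ j * a) := fun s => by
    by_cases h1 : 1 ≤ s ∧ s < p
    · obtain ⟨n, rfl⟩ : ∃ n, s = n + 1 := ⟨s - 1, by omega⟩
      obtain ⟨c, hc⟩ := hQ n
      obtain ⟨b, hb⟩ := htr c
      have hunit : IsUnit ((n + 1 : ℕ) : B) := by
        rw [← residue_ne_zero_iff_isUnit, map_natCast]
        haveI : CharP (ResidueField B) p := (CharP.charP_iff_prime_eq_zero hp.out).2 hu
        exact fun h => absurd (Nat.le_of_dvd (by omega) ((CharP.cast_eq_zero_iff _ p _).1 h)) (by omega)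
      obtain ⟨r, hr⟩ := hunit.exists_right_inv
      refine ⟨b * r, fun _ _ => ?_⟩
      have h2 := hsum n
      rw [hc, ← hb, ← IsScalarTower.algebraMap_apply] at h2
      calc P.coeff (n + 1) = algebraMap B L (((n + 1 : ℕ) : B) * r) * P.coeff (n + 1) := by rw [hr, map_one, one_mul]
        _ = algebraMap B L (π ^ j * (b * r)) := by
          rw [map_mul, map_natCast, mul_right_comm, h2, ← map_mul, mul_assoc]
    · obtain ⟨b, hb⟩ := hN
      refine ⟨b, fun h2 h3 => ?_⟩
      obtain rfl : s = p := by omega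
      rw [htop, ← hb, ← IsScalarTower.algebraMap_apply]
  choose a ha using ha
  refine ⟨a, ?_, ?_, fun x => (algebraMap E L).injective ?_⟩
  · apply (algebraMap E L).injective
    rw [← IsScalarTower.algebraMap_apply, ← ha 1 le_rfl hp.out.one_le, trace_eq_sum_automorphisms]
    have h := hsum 0
    rw [trace_eq_sum_automorphisms] at h
    simp only [zero_add, Nat.cast_one, one_mul] at h
    rw [h]
    refine Finset.sum_congr rfl fun g _ => congrArg g ?_
    have hev : (∏ g ∈ Finset.univ.erase (1 : L ≃ₐ[E] L), f g).coeff 0 = 1 := by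
      rw [coeff_zero_eq_eval_zero, eval_prod]
      simp [f]
    rw [coeff_C_mul, hev, mul_one]
  · apply (algebraMap E L).injective
    rw [← IsScalarTower.algebraMap_apply, ← ha p hp.out.one_le le_rfl, htop]
  · rw [Algebra.norm_eq_prod_automorphisms, ← IsScalarTower.algebraMap_apply, map_add, map_one, map_mul, map_sum]
    have h1 : P.eval (algebraMap B L x) = ∏ g : L ≃ₐ[E] L, g (1 + algebraMap B L x * (z : L)) := by
      rw [eval_prod]
      refine Finset.prod_congr rfl fun g _ => ?_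
      rw [map_add, map_one, map_mul, IsScalarTower.algebraMap_apply B E L, g.commutes,
        ← IsScalarTower.algebraMap_apply, eval_add, eval_one, eval_mul, eval_C, eval_X, mul_comm]
    rw [← h1, eval_eq_sum_range' (Nat.lt_succ_of_le hdeg), Finset.range_eq_Ico,
      Finset.sum_eq_sum_Ico_succ_bot (Nat.succ_pos p), h0, pow_zero, mul_one,
      show Finset.Ico (0 + 1) (p + 1) = Finset.Icc 1 p by ext i; simp, Finset.mul_sum]
    congr 1
    refine Finset.sum_congr rfl fun s hs => ?_
    rw [ha s (Finset.mem_Icc.1 hs).1 (Finset.mem_Icc.1 hs).2, map_mul, map_mul, map_pow, map_pow, mul_assoc]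

/-- One step of the approximation. -/
theorem exists_norm_level (hL : Module.finrank E L = p) (hu : (p : ResidueField B) = 0) {π : B} (hπ : Irreducible π)
    (ϑ : 𝒞) (hN : algebraMap B E π = Algebra.norm E (ϑ : L)) (hdvd : ∃ γ : 𝒞, algebraMap B 𝒞 π = ϑ * γ)
    (hpow : ∃ (e : ℕ) (δ : 𝒞), ϑ ^ e = algebraMap B 𝒞 π * δ)
    (j : ℕ) (c : B) : ∃ (y : L) (r : B), Algebra.norm E y = algebraMap B E (1 + π ^ j * (c + π * r)) := by
  haveI : IsIntegrallyClosed B := inferInstance
  obtain ⟨γ, hγ⟩ := hdvd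
  have hπL : ∀ n, algebraMap B L (π ^ n) = (ϑ : L) ^ n * (γ : L) ^ n := fun n => by
    rw [map_pow, ← mul_pow, ← Subalgebra.coe_mul, ← hγ]
    rfl
  have hint : ∀ x : 𝒞, ∃ b : B, algebraMap B E b = Algebra.trace E L (x : L) := fun x =>
    IsIntegrallyClosed.isIntegral_iff.1 (Algebra.isIntegral_trace x.2)
  have hintN : ∀ x : 𝒞, ∃ b : B, algebraMap B E b = Algebra.norm E (x : L) := fun x =>
    IsIntegrallyClosed.isIntegral_iff.1 (Algebra.isIntegral_norm E x.2)
  have hmul : ∀ (b : B) (x : L), Algebra.trace E L (algebraMap B L b * x) = algebraMap B E b * Algebra.trace E L x :=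
    fun b x => by
      rw [IsScalarTower.algebraMap_apply B E L, ← Algebra.smul_def, map_smul, smul_eq_mul]
  -- the key: some `z` has all coefficients at level `j` and one of them exactly
  let Tr : ℕ → Prop := fun i => ∀ x : 𝒞, ∃ b : B, algebraMap B E (π ^ j * b) = Algebra.trace E L ((ϑ : L) ^ i * x)
  have hNi : ∀ (i : ℕ) (x : 𝒞), ∃ b : B, algebraMap B E (π ^ i * b) = Algebra.norm E ((ϑ : L) ^ i * x) := fun i x => by
    obtain ⟨b, hb⟩ := hintN x
    exact ⟨b, by rw [map_mul, map_mul, map_pow, map_pow, hN, hb]⟩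
  have hz : ∃ z : 𝒞, (∀ x : 𝒞, ∃ b : B, algebraMap B E (π ^ j * b) = Algebra.trace E L ((z : L) * x)) ∧
      (∃ b : B, algebraMap B E (π ^ j * b) = Algebra.norm E (z : L)) ∧
      ((∃ b : B, IsUnit b ∧ algebraMap B E (π ^ j * b) = Algebra.trace E L (z : L)) ∨
        ∃ b : B, IsUnit b ∧ algebraMap B E (π ^ j * b) = Algebra.norm E (z : L)) := by
    by_cases hj : Tr j
    · refine ⟨ϑ ^ j, fun x => by simpa using hj x, ⟨1, ?_⟩, Or.inr ⟨1, isUnit_one, ?_⟩⟩ <;>
        rw [mul_one, Subalgebra.coe_pow, map_pow, map_pow, hN]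
    classical
    obtain ⟨e, δ, hδ⟩ := hpow
    have hex : ∃ i, Tr i := ⟨e * j, fun x => by
      obtain ⟨b, hb⟩ := hint (δ ^ j * x)
      refine ⟨b, ?_⟩
      rw [map_mul, hb, ← hmul]
      refine congrArg _ ?_
      rw [pow_mul, ← Subalgebra.coe_pow, hδ]
      simp only [mul_pow, Subalgebra.coe_mul, Subalgebra.coe_pow, Subalgebra.coe_algebraMap, map_pow]
      ring⟩
    let i := Nat.find hex
    have hi : Tr i := Nat.find_spec hex
    have hji : j < i := by
      by_contra h
      obtain ⟨n, hn⟩ : ∃ n, j = i + n := ⟨j - i, by omega⟩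
      refine hj fun x => ?_
      obtain ⟨b, hb⟩ := hi (ϑ ^ n * x)
      refine ⟨b, hb.trans (congrArg _ ?_)⟩
      rw [hn, pow_add, Subalgebra.coe_mul, Subalgebra.coe_pow, mul_assoc]
    have hm : ¬ Tr (i - 1) := Nat.find_min hex (show i - 1 < i by omega)
    simp only [Tr, not_forall, not_exists] at hm
    obtain ⟨x₀, hx₀⟩ := hm
    obtain ⟨T, hT⟩ := hint (ϑ ^ (i - 1) * x₀)
    rw [Subalgebra.coe_mul, Subalgebra.coe_pow] at hT
    have hT0 : T ≠ 0 := fun h => hx₀ 0 (by rw [mul_zero, ← hT, h])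
    obtain ⟨v, w, hw⟩ := IsDiscreteValuationRing.eq_unit_mul_pow_irreducible hT0 hπ
    have hv : v < j := by
      by_contra h
      obtain ⟨n, hn⟩ : ∃ n, v = j + n := ⟨v - j, by omega⟩
      exact hx₀ ((w : B) * π ^ n) (by rw [← hT, hw, hn, pow_add]; ring_nf)
    obtain ⟨n, hn⟩ : ∃ n, j = v + (n + 1) := ⟨j - v - 1, by omega⟩
    refine ⟨ϑ ^ i * (γ ^ (n + 1) * ϑ ^ n * x₀), fun x => ?_, ?_, Or.inl ⟨w, w.isUnit, ?_⟩⟩
    · obtain ⟨b, hb⟩ := hi (γ ^ (n + 1) * ϑ ^ n * x₀ * x)
      refine ⟨b, hb.trans (congrArg _ ?_)⟩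
      simp only [Subalgebra.coe_mul, Subalgebra.coe_pow]
      ring
    · obtain ⟨b, hb⟩ := hNi i (γ ^ (n + 1) * ϑ ^ n * x₀)
      refine ⟨π ^ (i - j) * b, ?_⟩
      rw [← mul_assoc, ← pow_add, Nat.add_sub_cancel' hji.le, hb]
      simp only [Subalgebra.coe_mul, Subalgebra.coe_pow]
    · have e1 : ((ϑ ^ i * (γ ^ (n + 1) * ϑ ^ n * x₀) : 𝒞) : L) =
          algebraMap B L (π ^ (n + 1)) * ((ϑ : L) ^ (i - 1) * (x₀ : L)) := by
        rw [hπL]
        simp only [Subalgebra.coe_mul, Subalgebra.coe_pow]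
        obtain ⟨m, hm⟩ : ∃ m, i = m + 1 := ⟨i - 1, by omega⟩
        rw [hm, Nat.add_sub_cancel]
        ring
      rw [e1, hmul, ← hT, hw, hn, ← map_mul]
      ring_nf
  obtain ⟨z, hz1, hz2, hz3⟩ := hz
  obtain ⟨a, ha1, hap, hax⟩ := exists_norm_coeff B E L hL hu z π j hz1 hz2
  let R : (ResidueField B)[X] := ∑ s ∈ Finset.Icc 1 p, C (residue B (a s)) * X ^ s - C (residue B c)
  have hR : R.degree ≠ 0 := by
    have hne : ∀ s, 1 ≤ s → s ≤ p → IsUnit (a s) → R.degree ≠ 0 := fun s h1 h2 hs hd => by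
      have h := coeff_eq_zero_of_degree_lt (p := R) (n := s) (by rw [hd]; exact_mod_cast h1)
      simp only [R, coeff_sub, finset_sum_coeff, coeff_C_mul_X_pow, Finset.sum_ite_eq, Finset.mem_Icc,
        if_pos (And.intro h1 h2), coeff_C, if_neg (show s ≠ 0 by omega), sub_zero] at h
      exact (residue_ne_zero_iff_isUnit _).2 hs h
    have hcancel : ∀ {s t : B}, algebraMap B E (π ^ j * s) = algebraMap B E (π ^ j * t) → s = t := fun h =>
      mul_left_cancel₀ (pow_ne_zero j hπ.ne_zero) (IsFractionRing.injective B E h)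
    rcases hz3 with ⟨b, hb, he⟩ | ⟨b, hb, he⟩
    · exact hne 1 le_rfl hp.out.one_le (hcancel (ha1.trans he.symm) ▸ hb)
    · exact hne p hp.out.one_le le_rfl (hcancel (hap.trans he.symm) ▸ hb)
  obtain ⟨x, hx⟩ := IsAlgClosed.exists_root R hR
  obtain ⟨x, rfl⟩ := residue_surjective x
  simp only [R, IsRoot.def, eval_sub, eval_finset_sum, eval_mul, eval_C, eval_pow, eval_X, ← map_pow, ← map_mul,
    ← map_sum, sub_eq_zero] at hx
  obtain ⟨r, hr⟩ := Ideal.mem_span_singleton.1 (hπ.maximalIdeal_eq.le ((residue_eq_zero_iff _).1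
    ((map_sub (residue B) (∑ s ∈ Finset.Icc 1 p, a s * x ^ s) c).trans (sub_eq_zero.2 hx))))
  exact ⟨1 + algebraMap B L x * (z : L), r, (hax x).trans (congrArg _ (by linear_combination π ^ j * hr))⟩

end

end Groth.Agent.CdTameLib
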