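import Groth.Agent.CdTameLib.RealClosed
import Groth.Agent.CdTameLib.DimChain
import Groth.Agent.CdTameLib.Cyclic
import Groth.Agent.DimFormulaLib.LocalDim

/-!
# Orderable fields have infinite `2`-cohomological dimension; lower bounds for finitely generated extensions
-/

set_option autoImplicit false
set_option backward.isDefEq.respectTransparency false
set_option backward.isDefEq.respectTransparency.types false
set_option linter.style.haveILetI false
set_option maxHeartbeats 1000000

universe u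

open CategoryTheory CategoryTheory.Limits AlgebraicGeometry Opposite CategoryTheory.Abelian IsLocalRing

noncomputable section

namespace Groth.Agent.CdTameLib

open EtTraceLib EtPtsLib

/-- With vanishing `H¹(μ₂)` the units are squares. -/
theorem isSquare_of_H1_mu (E : Type u) [Field E] (h2 : (2 : E) ≠ 0)
    (h : ∀ x : EtCoh.H (Spec (CommRingCat.of E)) (EtCoh.mu (Spec (CommRingCat.of E)) 2) 1, x = 0) (a : Eˣ) :
    IsSquare (a : E) := by
  haveI : Fact (Nat.Prime 2) := ⟨Nat.prime_two⟩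
  let X := Spec (CommRingCat.of E)
  let A := constantSheafAdj X.smallEtaleTopology AddCommGrpCat.{u + 1} (EtCore.topIsTerminal X)
  let ι : E →+* Γ(X, ⊤) := (Scheme.ΓSpecIso (CommRingCat.of E)).inv.hom
  let q : EtCoh.sect (kumSeq X 2).X₃ (EtCoh.top X) := ULift.up (Additive.ofMul (Units.map ι.toMonoidHom a))
  let b : EtCoh.const X ℤ ⟶ (kumSeq X 2).X₃ :=
    (A.homEquiv _ _).symm (AddCommGrpCat.ofHom (X := ULift.{u + 1} ℤ)
      ((zmultiplesHom _ q).comp AddEquiv.ulift.toAddMonoidHom))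
  have hS := kumSeq_shortExact (K := E) 2 h2
  have h0 : (Ext.mk₀ b).comp hS.extClass (zero_add 1) = 0 := h _
  obtain ⟨z, hz⟩ := Ext.covariant_sequence_exact₃ _ hS _ rfl h0
  obtain ⟨z, rfl⟩ := (Ext.mk₀_bijective _ _).2 z
  rw [Ext.mk₀_comp_mk₀] at hz
  have hz' : z ≫ (kumSeq X 2).g = b := (Ext.mk₀_bijective _ _).1 hz
  have hA := congrArg (fun m => (A.homEquiv _ _ m) (ULift.up.{u + 1} (1 : ℤ))) hz'
  simp only [b, Adjunction.homEquiv_naturality_right, Equiv.apply_symm_apply] at hA
  have hq : (kumSeq X 2).g.hom.app (op (EtCoh.top X)) ((A.homEquiv _ _ z) (ULift.up.{u + 1} (1 : ℤ))) = q :=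
    hA.trans (one_zsmul q)
  generalize (A.homEquiv _ _ z) (ULift.up.{u + 1} (1 : ℤ)) = t at hq
  have hq2 : (2 : ℕ) • t = q := (map_nsmul (evalHom (F := EtCoh.Gm X) (G := EtCoh.Gm X) (EtCoh.top X) t) 2 (𝟙 (EtCoh.Gm X))).symm.trans hq
  let w : Γ(X, ⊤) := ((Additive.toMul t.down : (Γ(X, ⊤))ˣ) : Γ(X, ⊤))
  have hw : w * w = ι (a : E) := by
    have h1 := congrArg (fun s => ((Additive.toMul s.down : (Γ(X, ⊤))ˣ) : Γ(X, ⊤))) hq2
    rw [two_nsmul] at h1
    exact h1
  refine ⟨(Scheme.ΓSpecIso (CommRingCat.of E)).hom.hom w, ?_⟩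
  rw [← map_mul, hw]
  exact (ConcreteCategory.congr_hom (Scheme.ΓSpecIso (CommRingCat.of E)).inv_hom_id (a : E)).symm

/-- An orderable field has infinite `2`-cohomological dimension. -/
theorem not_cdP_two_of_orderable {k : Type u} [Field k] [LinearOrder k] [IsStrictOrderedRing k] (d : ℕ) :
    ¬ CdP 2 d k := by
  intro hk
  haveI : Fact (Nat.Prime 2) := ⟨Nat.prime_two⟩
  obtain ⟨E, _, _, halg, hE, hmax⟩ := exists_maximal_real k (IsSemireal.not_isSumSq_neg_one k)
  haveI := halg
  have hEd : CdP 2 d E := hk.of_isAlgebraic E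
  obtain ⟨L, _, _, _, _, hdeg, hL⟩ := exists_sepClosed_quadratic hE hmax
  haveI := hL
  obtain ⟨σ, hσ⟩ : ∃ σ : L ≃ₐ[E] L, ∀ τ, τ ∈ Subgroup.zpowers σ := by
    haveI : IsCyclic (L ≃ₐ[E] L) := isCyclic_of_prime_card (p := 2) (by rw [IsGalois.card_aut_eq_finrank, hdeg])
    exact IsCyclic.exists_generator
  have hind : ∀ (G : EtCoh.Ab (Spec (CommRingCat.of E))) (r : ℕ) (y : EtCoh.H (Spec (CommRingCat.of E)) (indSh L G) (r + 1)),
      y = 0 := fun G r y =>
    eq_zero_indSh E L (Iso.refl _) (r + 1) (fun z => EtClosedPts.H_eq_zero_of_sepClosed L _ r z) y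
  have hvan : ∀ (j r : ℕ) (G : EtCoh.Ab (Spec (CommRingCat.of E))), 2 • 𝟙 G = 0 → d < r + 2 * j →
      ∀ x : EtCoh.H (Spec (CommRingCat.of E)) G (r + 1), x = 0 := by
    intro j
    induction j with
    | zero => exact fun r G hG hr x => hEd.nsmul G hG (r + 1) (by omega) x
    | succ j ih =>
      intro r G hG hr x
      obtain ⟨I, pr, i, ν, w₁, w₂, h₁, h₂, hν, -⟩ := exists_cyclic_sequences' L G hσ
      obtain ⟨y, hy⟩ : ∃ y : EtCoh.H (Spec (CommRingCat.of E)) I (r + 1 + 1), x.comp h₂.extClass rfl = y := ⟨_, rfl⟩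
      have hy0 : y = 0 := by
        obtain ⟨z, rfl⟩ := Ext.covariant_sequence_exact₃ _ h₁ y rfl
          (ih (r + 2) G hG (by omega) (y.comp h₁.extClass rfl))
        rw [hind G (r + 1) z, Ext.zero_comp]
      obtain ⟨z, rfl⟩ := Ext.covariant_sequence_exact₃ _ h₂ x rfl (hy.trans hy0)
      rw [hind G r z, Ext.zero_comp]
  have h2 : (2 : E) ≠ 0 := two_ne_zero_of_real hE
  have hsq := isSquare_of_H1_mu E h2 (hvan (d + 1) 0 _ (nsmul_id_mu _ 2) (by omega)) (-1)
  exact hE (by simpa using hsq.isSumSq)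

/-- Finitely generated extensions: the lower bound. -/
theorem le_and_cdP_of_fg {p d t : ℕ} [Fact p.Prime] {k k' : Type u} [Field k] [Field k'] [Algebra k k']
    (hfg : ∃ s : Finset k', IntermediateField.adjoin k (s : Set k') = ⊤) (hpk : (p : k) ≠ 0)
    (ht : Algebra.trdeg k k' = t) (hk' : CdP p d k') :
    t ≤ d ∧ ((p ≠ 2 ∨ ¬ ∃ _ : LinearOrder k, IsStrictOrderedRing k) → CdP p (d - t) k) := by
  obtain ⟨s, hs⟩ := hfg
  let A := Algebra.adjoin k (s : Set k')
  haveI : Algebra.FiniteType k A := (Subalgebra.fg_iff_finiteType _).1 (Subalgebra.fg_adjoin_finset s)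
  haveI : IsNoetherianRing A := Algebra.FiniteType.isNoetherianRing k A
  haveI : FaithfulSMul A k' := (faithfulSMul_iff_algebraMap_injective A k').2 Subtype.val_injective
  haveI : IsFractionRing A k' := IsFractionRing.of_field A k' fun z => by
    obtain ⟨a, ha, b, hb, rfl⟩ := IntermediateField.mem_adjoin_iff_div.1 (hs ▸ trivial : z ∈ IntermediateField.adjoin k (s : Set k'))
    exact ⟨⟨a, ha⟩, ⟨b, hb⟩, rfl⟩
  have hA : Algebra.trdeg k A = (t : ℕ) := by
    rw [DimFormulaLib.trdeg_eq_of_isFractionRing (D := A) (K := k'), ht]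
  have hdim : ringKrullDim A = (t : ℕ) := DimFormulaLib.ringKrullDim_eq_trdeg k t hA
  obtain ⟨M, hM, hMh⟩ : ∃ M : Ideal A, M.IsMaximal ∧ M.height = t := by
    have hsup := Ideal.sup_isMaximal_height_eq_ringKrullDim (R := A)
    rw [hdim] at hsup
    have hsup' : (⨆ (I : Ideal A) (_ : I.IsMaximal), I.height) = (t : ℕ∞) := by exact_mod_cast hsup
    by_contra hno
    have hlt : ∀ I : Ideal A, I.IsMaximal → I.height < (t : ℕ∞) := fun I hI =>
      lt_of_le_of_ne (hsup' ▸ le_iSup₂ (f := fun (I : Ideal A) (_ : I.IsMaximal) => I.height) I hI)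
        fun h => hno ⟨I, hI, h⟩
    obtain ⟨M₀, hM₀⟩ := Ideal.exists_maximal A
    rcases t with _ | m
    · exact absurd (hlt M₀ hM₀) (by simp)
    · have : ((m + 1 : ℕ) : ℕ∞) ≤ (m : ℕ∞) := hsup' ▸ iSup₂_le fun I hI =>
        ENat.lt_natCast_add_one_iff.1 (by exact_mod_cast hlt I hI)
      norm_cast at this
      omega
  haveI := hM
  let A' := Localization.AtPrime M
  haveI : IsNoetherianRing A' := IsLocalization.isNoetherianRing M.primeCompl A' inferInstance
  have hmap : ∀ y : M.primeCompl, IsUnit (algebraMap A k' y) := fun y => IsUnit.mk0 _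
    ((map_ne_zero_iff _ (IsFractionRing.injective A k')).2 fun h => y.2 (h ▸ M.zero_mem))
  letI : Algebra A' k' := (IsLocalization.lift hmap).toAlgebra
  haveI : IsScalarTower A A' k' := IsScalarTower.of_algebraMap_eq fun x => (IsLocalization.lift_eq hmap x).symm
  haveI : IsFractionRing A' k' := IsFractionRing.isFractionRing_of_isDomain_of_isLocalization M.primeCompl A' k'
  have hu : IsUnit (p : A') := by
    rw [← map_natCast ((algebraMap A A').comp (algebraMap k A))]
    exact (IsUnit.mk0 _ hpk).map _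
  obtain ⟨h1, L, _, _, hfin, hL⟩ := exists_finite_residue_cdP t A' k' (by
    rw [IsLocalization.AtPrime.ringKrullDim_eq_height M A', hMh]
    rfl) hu d hk'
  refine ⟨h1, fun hord => ?_⟩
  letI : Field (A ⧸ M) := Ideal.Quotient.field M
  haveI : Algebra.FiniteType k (A ⧸ M) := Algebra.FiniteType.of_surjective (Ideal.Quotient.mkₐ k M) Ideal.Quotient.mk_surjective
  haveI : Module.Finite k (A ⧸ M) := finite_of_finite_type_of_isJacobsonRing k (A ⧸ M)
  haveI : Module.Finite k (ResidueField A') := by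
    refine Module.Finite.of_surjective (IsScalarTower.toAlgHom k (A ⧸ M) (ResidueField A')).toLinearMap fun z => ?_
    obtain ⟨b, hb⟩ := (Ideal.bijective_algebraMap_quotient_residueField M).2 z
    exact ⟨b, hb⟩
  letI : Algebra k L := ((algebraMap (ResidueField A') L).comp (algebraMap k (ResidueField A'))).toAlgebra
  haveI : IsScalarTower k (ResidueField A') L := IsScalarTower.of_algebraMap_eq fun _ => rfl
  haveI : FiniteDimensional (ResidueField A') L := hfin
  haveI : FiniteDimensional k L := FiniteDimensional.trans k (ResidueField A') L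
  exact CdP.of_finite hpk hord L hL

end Groth.Agent.CdTameLib
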