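import Groth.Agent.CdTameLib.NormPerfect
import Groth.Agent.CdTameLib.DvrStalk

/-!
# `cd_p ≤ 1` for strictly henselian discrete valuation rings with perfect residue field, also for `p` the residue
characteristic
-/

set_option autoImplicit false
set_option backward.isDefEq.respectTransparency false
set_option backward.isDefEq.respectTransparency.types false
set_option linter.style.haveILetI false
set_option maxHeartbeats 1000000

universe u

open IsLocalRing

noncomputable section

namespace Groth.Agent.CdTameLib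

variable {p : ℕ} [hp : Fact p.Prime]

/-- Norms from Galois extensions of degree `p` are surjective. -/
theorem exists_norm_algClosed (B E L : Type u) [CommRing B] [IsDomain B] [IsDiscreteValuationRing B]
    [HenselianLocalRing B] [IsAlgClosed (ResidueField B)] [Field E] [Algebra B E] [IsFractionRing B E] [Field L]
    [Algebra E L] [FiniteDimensional E L] [IsGalois E L] (hL : Module.finrank E L = p)
    (hu : (p : ResidueField B) = 0) (hpB : (p : B) ≠ 0) (a : Eˣ) : ∃ b : L, Algebra.norm E b = (a : E) := by
  letI : Algebra B L := ((algebraMap E L).comp (algebraMap B E)).toAlgebra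
  haveI : IsScalarTower B E L := IsScalarTower.of_algebraMap_eq fun _ => rfl
  obtain ⟨ϑ, π, hπ, hN, hdvd, hpow⟩ := exists_ramified B E L hL
  let H : E → Prop := fun x => ∃ b : L, Algebra.norm E b = x
  have hmul : ∀ {x y}, H x → H y → H (x * y) := fun {x y} ⟨b, hb⟩ ⟨c, hc⟩ => ⟨b * c, by rw [map_mul, hb, hc]⟩
  have hinv : ∀ {x}, H x → H x⁻¹ := fun {x} ⟨b, hb⟩ => ⟨b⁻¹, by
    rw [Algebra.norm_inv, hb]⟩
  have hp' : ∀ x : E, H (x ^ p) := fun x => ⟨algebraMap E L x, by rw [Algebra.norm_algebraMap, hL]⟩
  have hπH : H (algebraMap B E π) := ⟨(ϑ : L), hN.symm⟩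
  have hpowH : ∀ n : ℕ, H (algebraMap B E π ^ n) := fun n => by
    induction n with
    | zero => exact ⟨1, by rw [map_one, pow_zero]⟩
    | succ n ih => rw [pow_succ]; exact hmul ih hπH
  have hm : ∀ r : B, π * r ∈ maximalIdeal B := fun r => by
    rw [hπ.maximalIdeal_eq]
    exact Ideal.mul_mem_right _ _ (Ideal.mem_span_singleton_self _)
  have hunit : ∀ {n : ℕ}, 1 ≤ n → ∀ r : B, IsUnit (1 + π ^ n * r) := fun {n} hn r => by
    rw [← notMem_maximalIdeal]
    intro h
    refine (maximalIdeal.isMaximal B).ne_top ((Ideal.eq_top_iff_one _).2 ?_)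
    have h2 : π ^ n * r ∈ maximalIdeal B := by
      rw [← Nat.sub_add_cancel hn, pow_succ, mul_comm _ π, mul_assoc]
      exact hm _
    simpa using sub_mem h h2
  -- approximation
  have happrox : ∀ (u : Bˣ) (n : ℕ), 1 ≤ n → ∃ (x : E) (r : B), H x ∧ algebraMap B E (u : B) = x * algebraMap B E (1 + π ^ n * r) := by
    intro u n hn
    induction n, hn using Nat.le_induction with
    | base =>
      haveI : CharP (ResidueField B) p := (CharP.charP_iff_prime_eq_zero hp.out).2 hu
      haveI : NeZero p := ⟨hp.out.ne_zero⟩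
      obtain ⟨y, hy⟩ := IsAlgClosed.exists_pow_nat_eq (residue B (u : B)) hp.out.pos
      obtain ⟨y, rfl⟩ := residue_surjective y
      have hyu : IsUnit y := by
        rw [← residue_ne_zero_iff_isUnit]
        intro h
        rw [h, zero_pow hp.out.ne_zero] at hy
        exact (residue_ne_zero_iff_isUnit _).2 u.isUnit hy.symm
      obtain ⟨z, hz⟩ := (hyu.pow p).exists_right_inv
      have hzu : residue B ((u : B) * z) = residue B 1 := by
        rw [map_mul, ← hy, ← map_pow, ← map_mul, hz]
      obtain ⟨r, hr⟩ := Ideal.mem_span_singleton.1 (hπ.maximalIdeal_eq.le ((residue_eq_zero_iff _).1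
        ((map_sub _ _ _).trans (sub_eq_zero.2 hzu))))
      refine ⟨algebraMap B E y ^ p, r, hp' _, ?_⟩
      rw [← map_pow, ← map_mul, pow_one, ← hr]
      exact congrArg _ (by linear_combination (-(u : B)) * hz)
    | succ n hn ih =>
      obtain ⟨x, r, hx, he⟩ := ih
      obtain ⟨y, r', hy⟩ := exists_norm_level B E L hL hu hπ ϑ hN hdvd hpow n r
      obtain ⟨z, hz⟩ := (hunit hn (r + π * r')).exists_right_inv
      refine ⟨x * algebraMap B E (1 + π ^ n * (r + π * r')), -(r' * z), hmul hx ⟨y, hy⟩, ?_⟩
      rw [he, mul_assoc, ← map_mul]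
      exact congrArg _ (congrArg _ (by linear_combination (π ^ (n + 1) * r') * hz))
  -- units close to one
  obtain ⟨e, w, hw⟩ := IsDiscreteValuationRing.eq_unit_mul_pow_irreducible hpB hπ
  have hU : ∀ u : Bˣ, H (algebraMap B E (u : B)) := fun u => by
    obtain ⟨x, r, hx, he⟩ := happrox u (2 * e + 1) (by omega)
    obtain ⟨v, hv⟩ := (w.isUnit.pow 2).exists_right_inv
    obtain ⟨z, hz⟩ := exists_pow_eq_of_sq (p := p) (π * (r * v)) (hm _)
    rw [he]
    refine hmul hx ?_
    have h1 : 1 + π ^ (2 * e + 1) * r = (1 + (p : B) * z) ^ p := by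
      rw [hz, hw]
      linear_combination (-(π ^ (2 * e + 1) * r)) * hv
    rw [h1, map_pow]
    exact hp' _
  obtain ⟨y, z, hz, hyz⟩ := IsFractionRing.div_surjective (A := B) (a : E)
  have hy : y ≠ 0 := fun h => a.ne_zero (by rw [← hyz, h, map_zero, zero_div])
  obtain ⟨i, u, rfl⟩ := IsDiscreteValuationRing.eq_unit_mul_pow_irreducible hy hπ
  obtain ⟨k, v, rfl⟩ := IsDiscreteValuationRing.eq_unit_mul_pow_irreducible (nonZeroDivisors.ne_zero hz) hπ
  show H (a : E)
  rw [← hyz, div_eq_mul_inv]
  refine hmul ?_ (hinv ?_) <;> rw [map_mul, map_pow] <;> exact hmul (hU _) (hpowH _)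

/-- The residue characteristic, with perfect residue field. -/
theorem cdP_one_of_perfect (R K : Type u) [CommRing R] [IsDomain R] [IsDiscreteValuationRing R]
    (hR : EtCoh.IsStrictlyHenselianLocalRing R) [Field K] [Algebra R K] [IsFractionRing R K]
    [PerfectField (ResidueField R)] (hpK : (p : K) ≠ 0) : CdP p 1 K := by
  rcases em (IsUnit (p : R)) with hu | hu
  · exact cdP_one_of_strictlyHenselian_dvr R K hR hu
  have hnorm : EtTraceLib.NormP p K := fun E L _ _ _ _ _ _ _ _ hd a => by
    obtain ⟨B, _, _, _, _, _, f, ⟨_, _⟩, hperf⟩ := exists_dvr_extension R K E hR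
    haveI := hperf inferInstance
    haveI : IsAlgClosed (ResidueField B) := IsAlgClosure.isAlgClosed (ResidueField B)
    rcases em (IsUnit (p : B)) with huB | huB
    · exact exists_norm_dvr B E L ⟨inferInstance, inferInstance⟩ huB hd a
    have hpE : (p : E) ≠ 0 := by
      rw [← map_natCast (algebraMap K E)]
      exact (map_ne_zero _).2 hpK
    refine exists_norm_algClosed B E L hd ?_ (fun h => hpE (by rw [← map_natCast (algebraMap B E), h, map_zero])) a
    rw [← map_natCast (residue B), residue_eq_zero_iff]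
    exact (mem_maximalIdeal _).2 huB
  refine EtTraceLib.cd_one_of_brauer p hpK fun E _ _ _ _ x hx => ?_
  exact EtTraceLib.brauer_eq_zero_of_normP p (hnorm.of_finite p E) x 1 (by rwa [pow_one])

theorem shCd_of_perfect {R : Type u} [CommRing R] [IsLocalRing R] (hpR : (p : R) ≠ 0)
    [PerfectField (ResidueField R)] : SHCd p R := fun S _ _ _ hS f hf hinj hperf => by
  haveI := hperf inferInstance
  refine cdP_one_of_perfect S (FractionRing S) hS ?_
  rw [← map_natCast (algebraMap S (FractionRing S)), map_ne_zero_iff _ (IsFractionRing.injective S (FractionRing S)),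
    ← map_natCast f, map_ne_zero_iff _ hinj]
  exact hpR

end Groth.Agent.CdTameLib
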