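import Groth.Agent.EtTraceLib.CdOne
import Groth.Agent.CdFieldLib.Basic
import Groth.Agent.PBCLib.Fibration
import Groth.Agent.GeomIrred.ClopenDescend

/-!
# The `p`-cohomological dimension of a field
-/

set_option autoImplicit false
set_option backward.isDefEq.respectTransparency false
set_option backward.isDefEq.respectTransparency.types false
set_option linter.style.haveILetI false
set_option maxHeartbeats 1000000

universe u

open CategoryTheory CategoryTheory.Limits AlgebraicGeometry Opposite CategoryTheory.Abelian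

noncomputable section

namespace Groth.Agent.CdTameLib

open EtTraceLib CdFieldLib

/-- The `p`-primary classes of torsion sheaves vanish above degree `n`. -/
def CdP (p n : ℕ) (K : Type u) [Field K] : Prop :=
  ∀ q : ℕ, n < q → ∀ F : EtCoh.Ab (Spec (CommRingCat.of K)), EtCoh.IsTorsion F →
    ∀ x : EtCoh.H (Spec (CommRingCat.of K)) F q, (∃ m : ℕ, p ^ m • x = 0) → x = 0

variable {p : ℕ} [hp : Fact p.Prime] {n : ℕ} {K : Type u} [Field K]

omit hp in
theorem CdP.mono {n' : ℕ} (h : CdP p n K) (hn : n ≤ n') : CdP p n' K := fun q hq => h q (hn.trans_lt hq)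

theorem CdP.cdLE (h : CdP p n K) : CdLE {p} (Spec (CommRingCat.of K)) n := by
  intro F hF q hq
  refine subsingleton_of_forall_eq 0 fun x => ?_
  obtain ⟨r, rfl⟩ : ∃ r, q = r + 1 := ⟨q - 1, by omega⟩
  obtain ⟨N, hN, hN0⟩ := isOfFinAddOrder_iff_nsmul_eq_zero.1 (isOfFinAddOrder K F r x)
  obtain ⟨a, b, hb, rfl⟩ := Nat.exists_eq_pow_mul_and_not_dvd hN.ne' p hp.out.ne_one
  refine h _ hq F (RpushTorsLib.isTorsion_of_isLTorsion hF) x ⟨a, ?_⟩
  refine eq_zero_of_nsmul_eq_zero (isIso_nsmul_id (d := b) (fun r _ hr => ?_) hF) (p ^ a • x) ?_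
  · rw [Set.mem_singleton_iff.1 hr]
    exact hb
  · rw [smul_smul, mul_comm b, hN0]

theorem cdP_of_killed (h : ∀ (E : Type u) [Field E] [Algebra K E] [FiniteDimensional K E] [Algebra.IsSeparable K E],
    ((p : E) = 0 ∨ ∃ ζ : E, IsPrimitiveRoot ζ p) → ∀ q : ℕ, n < q →
      ∀ x : EtCoh.H (Spec (CommRingCat.of E)) (EtCoh.const (Spec (CommRingCat.of E)) (ZMod p)) q, x = 0) :
    CdP p n K :=
  fun q hq F hF x hx => eq_zero_of_base p q (by omega) (fun E _ _ _ _ hE => h E hE q hq) F hF x hx

theorem isLTorsion_const_zmod (X : Scheme.{u}) : EtAcyc.IsLTorsion {p} (EtCoh.const X (ZMod p)) := by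
  refine (isLTorsion_singleton_iff hp.out).2 fun U s x => ⟨U, 𝟙 U, ⟨x, rfl⟩, 1, ?_⟩
  rw [op_id, CategoryTheory.Functor.map_id, pow_one]
  exact PBCLib.killedBy_const X p U s

theorem cdP_of_cdLE (h : CdLE {p} (Spec (CommRingCat.of K)) n) : CdP p n K := by
  refine cdP_of_killed fun E _ _ _ _ _ q hq x => ?_
  haveI := isFinite_specMap K E
  exact (cdLE_of_integral (Spec.map (CommRingCat.ofHom (algebraMap K E))) h _ (isLTorsion_const_zmod _) q hq).elim x 0

theorem cdP_iff : CdP p n K ↔ Dix.CohDimLEAt (Spec (CommRingCat.of K)) p n :=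
  ⟨fun h => (cdLE_singleton_iff hp.out).1 h.cdLE, fun h => cdP_of_cdLE ((cdLE_singleton_iff hp.out).2 h)⟩

/-- Algebraic extensions do not increase the dimension. -/
theorem CdP.of_isAlgebraic (h : CdP p n K) (K' : Type u) [Field K'] [Algebra K K'] [Algebra.IsAlgebraic K K'] :
    CdP p n K' := by
  haveI : IsIntegralHom (Spec.map (CommRingCat.ofHom (algebraMap K K'))) := by
    rw [IsIntegralHom.SpecMap_iff, CommRingCat.hom_ofHom, algebraMap_isIntegral_iff]
    exact Algebra.IsAlgebraic.isIntegral
  exact cdP_of_cdLE (cdLE_of_integral (Spec.map (CommRingCat.ofHom (algebraMap K K'))) h.cdLE)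

omit [Field K] in
theorem CdP.of_ringEquiv {K K' : Type u} [Field K] [Field K'] (e : K ≃+* K') (h : CdP p n K) : CdP p n K' := by
  letI := e.toRingHom.toAlgebra
  haveI : Algebra.IsAlgebraic K K' := ⟨fun x => by
    obtain ⟨y, rfl⟩ := e.surjective x
    exact isAlgebraic_algebraMap y⟩
  exact h.of_isAlgebraic K'

/-- A finite separable extension of degree prime to `p` detects the dimension. -/
theorem CdP.of_finite_prime_to (E : Type u) [Field E] [Algebra K E] [FiniteDimensional K E] [Algebra.IsSeparable K E]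
    (hd : ¬ p ∣ Module.finrank K E) (h : CdP p n E) : CdP p n K := fun q hq F hF x hx =>
  eq_zero_of_finite_prime_to K E p hd n (fun G hG r hr => h r hr G hG) F hF q hq x hx

/-- A purely inseparable extension detects the dimension. -/
theorem CdP.of_purelyInseparable (E : Type u) [Field E] [Algebra K E] [IsPurelyInseparable K E]
    (h : CdP p n E) : CdP p n K := by
  let g := Spec.map (CommRingCat.ofHom (algebraMap K E))
  haveI : IsIntegralHom g := by
    rw [IsIntegralHom.SpecMap_iff, CommRingCat.hom_ofHom, algebraMap_isIntegral_iff]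
    exact Algebra.IsAlgebraic.isIntegral
  haveI : UniversallyInjective g := GeomIrred.universallyInjective_specMap K E
  haveI : Surjective g := ⟨fun x => ⟨IsLocalRing.closedPoint E, Subsingleton.elim (α := PrimeSpectrum K) _ _⟩⟩
  exact cdP_of_cdLE (cdLE_of_universalHomeomorph g h.cdLE)

end Groth.Agent.CdTameLib
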