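import Groth.Agent.CdTameLib.Serre
import Groth.Agent.CdTameLib.Ordering
import Mathlib.FieldTheory.IsAlgClosed.AlgebraicClosure

/-!
# Maximal real algebraic extensions (Artin–Schreier)
-/

set_option autoImplicit false
set_option backward.isDefEq.respectTransparency false
set_option backward.isDefEq.respectTransparency.types false
set_option linter.style.haveILetI false
set_option maxHeartbeats 1000000

universe u

open Polynomial

noncomputable section

namespace Groth.Agent.CdTameLib

theorem isSumSq_map {A B : Type u} [Ring A] [Ring B] (f : A →+* B) {x : A} (h : IsSumSq x) : IsSumSq (f x) := by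
  induction h using IsSumSq.rec' with
  | zero => rw [map_zero]; exact IsSumSq.zero
  | sq_add ha _ ih =>
    obtain ⟨r, rfl⟩ := ha
    rw [map_add, map_mul]
    exact (IsSumSq.mul_self _).add ih

/-- An algebraic extension which is maximal among those where `-1` is not a sum of squares. -/
theorem exists_maximal_real (k : Type u) [Field k] (h : ¬ IsSumSq (-1 : k)) :
    ∃ (E : Type u) (_ : Field E) (_ : Algebra k E), Algebra.IsAlgebraic k E ∧ ¬ IsSumSq (-1 : E) ∧
      ∀ (M : Type u) [Field M] [Algebra E M] [FiniteDimensional E M], ¬ IsSumSq (-1 : M) →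
        Function.Surjective (algebraMap E M) := by
  let Ω := AlgebraicClosure k
  let s : Set (IntermediateField k Ω) := {F | ¬ IsSumSq (-1 : F)}
  have hbot : (⊥ : IntermediateField k Ω) ∈ s := fun hs => h (by
    have e := IntermediateField.botEquiv k Ω
    simpa using isSumSq_map e.toRingHom hs)
  obtain ⟨F, -, hF, hmax⟩ := zorn_le_nonempty₀ s (fun c hc hch y hy => by
    refine ⟨sSup c, fun hs => ?_, fun z hz => le_sSup hz⟩
    haveI : Nonempty c := ⟨⟨y, hy⟩⟩
    have hdir : Directed (· ≤ ·) (Subtype.val : c → IntermediateField k Ω) := hch.directed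
    have hmem : ∀ x : Ω, x ∈ sSup c → ∃ K ∈ c, x ∈ K := fun x hx => by
      rw [sSup_eq_iSup', ← SetLike.mem_coe, IntermediateField.coe_iSup_of_directed hdir, Set.mem_iUnion] at hx
      obtain ⟨⟨K, hK⟩, hxK⟩ := hx
      exact ⟨K, hK, hxK⟩
    have key : ∀ x : (sSup c : IntermediateField k Ω), IsSumSq x →
        ∃ K ∈ c, ∃ z : K, (z : Ω) = (x : Ω) ∧ IsSumSq z := fun x hx => by
      induction hx using IsSumSq.rec' with
      | zero => exact ⟨y, hy, 0, rfl, IsSumSq.zero⟩
      | sq_add ha _ ih =>
        obtain ⟨r, hr⟩ := ha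
        obtain ⟨K, hK, z, hz, hzs⟩ := ih
        obtain ⟨K', hK', hrK'⟩ := hmem r r.2
        obtain ⟨⟨U, hU⟩, h1, h2⟩ := hdir ⟨K, hK⟩ ⟨K', hK'⟩
        refine ⟨U, hU, ⟨r, h2 hrK'⟩ * ⟨r, h2 hrK'⟩ + IntermediateField.inclusion h1 z, ?_,
          IsSumSq.add (IsSumSq.mul_self _) (isSumSq_map (IntermediateField.inclusion h1).toRingHom hzs)⟩
        rw [hr]
        simp [hz]
    obtain ⟨K, hK, z, hz, hzs⟩ := key (-1) hs
    refine hc hK ?_
    rwa [show (-1 : K) = z from Subtype.ext (by rw [hz]; simp)]) _ hbot
  refine ⟨F, inferInstance, inferInstance, inferInstance, hF, fun M _ _ _ hM b => ?_⟩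
  let σ : M →ₐ[F] Ω := IsAlgClosed.lift
  let F' : IntermediateField k Ω := σ.fieldRange.restrictScalars k
  have hle : F ≤ F' := fun x hx => ⟨algebraMap F M ⟨x, hx⟩, (σ.commutes _).trans rfl⟩
  have hF' : F' ∈ s := fun hs => hM (by
    let e : M ≃ₐ[F] σ.fieldRange := AlgEquiv.ofInjectiveField σ
    have h1 : IsSumSq (-1 : σ.fieldRange) := hs
    simpa using isSumSq_map e.symm.toRingHom h1)
  have hb : σ b ∈ F := hmax hF' hle ⟨b, rfl⟩
  exact ⟨⟨σ b, hb⟩, σ.injective ((σ.commutes _).trans rfl)⟩

section Real

variable {E : Type u} [Field E] (hE : ¬ IsSumSq (-1 : E))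
  (hmax : ∀ (M : Type u) [Field M] [Algebra E M] [FiniteDimensional E M], ¬ IsSumSq (-1 : M) →
    Function.Surjective (algebraMap E M))

include hE in
theorem two_ne_zero_of_real : (2 : E) ≠ 0 := fun h => hE (by
  have : (-1 : E) = 1 := by linear_combination -h
  rw [this]
  exact IsSumSq.one)

/-- Representations in a quadratic extension. -/
theorem exists_repr_two {M : Type u} [Field M] [Algebra E M] [FiniteDimensional E M] (h2 : Module.finrank E M = 2)
    {r : M} (hr : r ∉ Set.range (algebraMap E M)) (y : M) : ∃ u v : E, y = algebraMap E M u + algebraMap E M v * r := by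
  have hli : LinearIndependent E ![(1 : M), r] := LinearIndependent.pair_iff.2 fun a b hab => by
    by_contra hh
    rcases eq_or_ne b 0 with rfl | hb
    · rw [zero_smul, add_zero, smul_eq_zero] at hab
      exact hh ⟨hab.resolve_right one_ne_zero, rfl⟩
    · refine hr ⟨-(b⁻¹ * a), ?_⟩
      rw [Algebra.smul_def, Algebra.smul_def, mul_one] at hab
      have hb' : algebraMap E M b ≠ 0 := (_root_.map_ne_zero _).2 hb
      rw [map_neg, map_mul, map_inv₀]
      field_simp
      linear_combination -hab
  have hspan := hli.span_eq_top_of_card_eq_finrank' (by rw [h2]; rfl)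
  have hy : y ∈ Submodule.span E (Set.range ![(1 : M), r]) := hspan ▸ Submodule.mem_top
  rw [Matrix.range_cons, Matrix.range_cons, Matrix.range_empty, Set.union_empty, Set.singleton_union,
    Submodule.mem_span_pair] at hy
  obtain ⟨u, v, huv⟩ := hy
  refine ⟨u, v, ?_⟩
  rw [← huv, Algebra.smul_def, Algebra.smul_def, mul_one]

include hE hmax in
/-- The elements which are nonnegative in some ordering are squares. -/
theorem isSquare_of_nonneg [LinearOrder E] [IsStrictOrderedRing E] {a : E} (ha : 0 ≤ a) : IsSquare a := by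
  haveI : Fact (Nat.Prime 2) := ⟨Nat.prime_two⟩
  by_contra hsq
  obtain ⟨M, _, _, _, _, r, hdeg, hr, -⟩ := kummer_setup (p := 2) (IsPrimitiveRoot.neg_one 0 (by norm_num) : IsPrimitiveRoot (-1 : E) 2)
    (b := a) fun c hc => hsq ⟨c, by rw [← hc]; ring⟩
  have hrE : r ∉ Set.range (algebraMap E M) := by
    rintro ⟨c, rfl⟩
    rw [← map_pow] at hr
    exact hsq ⟨c, by rw [← (algebraMap E M).injective hr]; ring⟩
  by_cases hM : IsSumSq (-1 : M)
  · have key : ∀ z : M, IsSumSq z → ∃ A B C : E, IsSumSq A ∧ IsSumSq B ∧
        z = algebraMap E M (A + a * B) + algebraMap E M C * r := fun z hz => by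
      induction hz using IsSumSq.rec' with
      | zero => exact ⟨0, 0, 0, IsSumSq.zero, IsSumSq.zero, by simp⟩
      | sq_add ha _ ih =>
        obtain ⟨y, rfl⟩ := ha
        obtain ⟨A, B, C, hA, hB, rfl⟩ := ih
        obtain ⟨u, v, rfl⟩ := exists_repr_two hdeg hrE y
        refine ⟨u * u + A, v * v + B, 2 * (u * v) + C, (IsSumSq.mul_self u).add hA, (IsSumSq.mul_self v).add hB, ?_⟩
        simp only [map_add, map_mul, map_ofNat, ← hr]
        ring
    obtain ⟨A, B, C, hA, hB, hABC⟩ := key _ hM
    rcases eq_or_ne C 0 with rfl | hC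
    · rw [map_zero, zero_mul, add_zero, ← map_one (algebraMap E M), ← map_neg] at hABC
      have h1 := (algebraMap E M).injective hABC
      have h2 : 0 ≤ A + a * B := add_nonneg hA.nonneg (mul_nonneg ha hB.nonneg)
      rw [← h1] at h2
      linarith
    · refine hrE ⟨C⁻¹ * (-1 - (A + a * B)), ?_⟩
      have hC' : algebraMap E M C ≠ 0 := (_root_.map_ne_zero _).2 hC
      rw [map_mul, map_inv₀, map_sub, map_neg, map_one, hABC]
      field_simp
      ring
  · exact hrE (hmax M hM r)

/-- The invariant of a sum of squares of polynomials. -/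
theorem add_pos_even [LinearOrder E] [IsStrictOrderedRing E] {S T : E[X]}
    (hS : S = 0 ∨ (Even S.natDegree ∧ 0 < S.leadingCoeff)) (hT : T = 0 ∨ (Even T.natDegree ∧ 0 < T.leadingCoeff)) :
    (S = 0 ∧ T = 0) ∨ ((Even (S + T).natDegree ∧ 0 < (S + T).leadingCoeff)) := by
  rcases hS with rfl | ⟨hSe, hSp⟩
  · rw [zero_add]
    exact hT.imp (fun h => ⟨rfl, h⟩) id
  rcases hT with rfl | ⟨hTe, hTp⟩
  · rw [add_zero]
    exact Or.inr ⟨hSe, hSp⟩
  refine Or.inr ?_
  rcases lt_trichotomy S.natDegree T.natDegree with h | h | h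
  · rw [natDegree_add_eq_right_of_natDegree_lt h, leadingCoeff_add_of_degree_lt (degree_lt_degree h)]
    exact ⟨hTe, hTp⟩
  · have hne : S.leadingCoeff + T.leadingCoeff ≠ 0 := (add_pos hSp hTp).ne'
    have hd : (S + T).natDegree = T.natDegree := by
      refine le_antisymm ((natDegree_add_le _ _).trans (by omega)) (le_natDegree_of_ne_zero ?_)
      rw [coeff_add]
      have h1 : S.coeff T.natDegree = S.leadingCoeff := by rw [← h]; rfl
      rw [h1]
      exact hne
    refine ⟨hd ▸ hTe, ?_⟩
    rw [leadingCoeff, hd, coeff_add, ← h]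
    have h1 : T.coeff S.natDegree = T.leadingCoeff := by rw [h]; rfl
    rw [h1]
    exact add_pos hSp hTp
  · rw [natDegree_add_eq_left_of_natDegree_lt h, add_comm, leadingCoeff_add_of_degree_lt (degree_lt_degree h)]
    exact ⟨hSe, hSp⟩

include hE hmax in
/-- Polynomials of odd degree have roots. -/
theorem exists_root_odd [LinearOrder E] [IsStrictOrderedRing E] :
    ∀ (n : ℕ) (f : E[X]), f.natDegree = n → Odd n → ∃ x, f.IsRoot x := by
  intro n
  induction n using Nat.strong_induction_on with
  | _ n ih =>
    intro f hn hodd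
    have hf0 : f ≠ 0 := fun h => by
      rw [h, natDegree_zero] at hn
      subst hn
      exact Nat.not_odd_zero hodd
    by_cases hirr : Irreducible f
    · haveI : Fact (Irreducible f) := ⟨hirr⟩
      haveI : FiniteDimensional E (AdjoinRoot f) := (AdjoinRoot.powerBasis hf0).finite
      by_cases hM : IsSumSq (-1 : AdjoinRoot f)
      · exfalso
        have key : ∀ z : AdjoinRoot f, IsSumSq z → ∃ S : E[X], AdjoinRoot.mk f S = z ∧
            (S = 0 ∨ (Even S.natDegree ∧ 0 < S.leadingCoeff)) ∧ S.natDegree ≤ 2 * (n - 1) ∧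
            ∀ x, IsSumSq (S.eval x) := fun z hz => by
          induction hz using IsSumSq.rec' with
          | zero => exact ⟨0, map_zero _, Or.inl rfl, by simp, fun x => by simpa using IsSumSq.zero⟩
          | sq_add ha _ ih =>
            obtain ⟨y, rfl⟩ := ha
            obtain ⟨S, rfl, hS, hSd, hSs⟩ := ih
            obtain ⟨p, rfl⟩ := AdjoinRoot.mk_surjective y
            let q := p % f
            have hq : AdjoinRoot.mk f q = AdjoinRoot.mk f p := AdjoinRoot.mk_eq_mk.2 ⟨-(p / f), by
              linear_combination EuclideanDomain.mod_add_div p f⟩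
            have hqd : q.natDegree ≤ n - 1 := by
              show (p % f).natDegree ≤ n - 1
              have hn0 : f.natDegree ≠ 0 := by rw [hn]; exact hodd.pos.ne'
              have := natDegree_mod_lt p hn0
              omega
            have hQ : q * q = 0 ∨ (Even (q * q).natDegree ∧ 0 < (q * q).leadingCoeff) := by
              rcases eq_or_ne q 0 with h | h
              · exact Or.inl (by rw [h, mul_zero])
              · exact Or.inr ⟨by rw [natDegree_mul h h]; exact ⟨_, rfl⟩, by
                  rw [leadingCoeff_mul]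
                  exact mul_self_pos.2 (leadingCoeff_ne_zero.2 h)⟩
            refine ⟨q * q + S, by rw [map_add, map_mul, hq], ?_, ?_, fun x => ?_⟩
            · rcases add_pos_even hQ hS with ⟨h1, h2⟩ | h
              · exact Or.inl (by rw [h1, h2, add_zero])
              · exact Or.inr h
            · refine (natDegree_add_le _ _).trans (max_le (natDegree_mul_le.trans (by omega)) hSd)
            · rw [eval_add, eval_mul]
              exact (IsSumSq.mul_self _).add (hSs x)
        obtain ⟨S, hS, hSp, hSd, hSs⟩ := key _ hM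
        rcases add_pos_even hSp (Or.inr ⟨by simp, by simp⟩ : (1 : E[X]) = 0 ∨ _) with ⟨-, h1⟩ | ⟨hTe, hTp⟩
        · exact one_ne_zero h1
        have hdvd : f ∣ S + 1 := by
          rw [← AdjoinRoot.mk_eq_zero, map_add, hS, map_one, neg_add_cancel]
        obtain ⟨g, hg⟩ := hdvd
        have hT0 : S + 1 ≠ 0 := fun h => by rw [h, leadingCoeff_zero] at hTp; exact lt_irrefl _ hTp
        have hg0 : g ≠ 0 := fun h => hT0 (by rw [hg, h, mul_zero])
        have hd : (S + 1).natDegree = n + g.natDegree := by rw [hg, natDegree_mul hf0 hg0, hn]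
        have hdle : (S + 1).natDegree ≤ 2 * (n - 1) := (natDegree_add_le _ _).trans (max_le hSd (by simp))
        have hgodd : Odd g.natDegree := by
          rw [hd, Nat.even_iff] at hTe
          have := Nat.odd_iff.1 hodd
          rw [Nat.odd_iff]
          omega
        obtain ⟨x, hx⟩ := ih g.natDegree (show g.natDegree < n by have := hodd.pos; omega) g rfl hgodd
        refine hE ?_
        have h1 := congrArg (eval x) hg
        rw [eval_add, eval_one, eval_mul, hx, mul_zero] at h1
        rw [show (-1 : E) = S.eval x by linear_combination -h1]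
        exact hSs x
      · obtain ⟨c, hc⟩ := hmax (AdjoinRoot f) hM (AdjoinRoot.root f)
        refine ⟨c, ?_⟩
        have h1 : (f.map (algebraMap E (AdjoinRoot f))).IsRoot (algebraMap E _ c) := by
          rw [hc]
          exact AdjoinRoot.isRoot_root f
        exact h1.of_map (algebraMap E (AdjoinRoot f)).injective
    · have hu : ¬ IsUnit f := fun h => by
        rw [natDegree_eq_zero_of_isUnit h] at hn
        subst hn
        exact Nat.not_odd_zero hodd
      rw [irreducible_iff, not_and, not_forall] at hirr
      obtain ⟨a, ha⟩ := hirr hu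
      simp only [not_forall, not_or] at ha
      obtain ⟨b, hab, hau, hbu⟩ := ha
      subst hab
      have ha0 := left_ne_zero_of_mul hf0
      have hb0 := right_ne_zero_of_mul hf0
      have hapos : 0 < a.natDegree := Nat.pos_of_ne_zero fun h => hau (isUnit_iff_degree_eq_zero.2
        (by rw [degree_eq_natDegree ha0, h]; rfl))
      have hbpos : 0 < b.natDegree := Nat.pos_of_ne_zero fun h => hbu (isUnit_iff_degree_eq_zero.2
        (by rw [degree_eq_natDegree hb0, h]; rfl))
      rw [natDegree_mul ha0 hb0] at hn
      rcases Nat.even_or_odd a.natDegree with hae | hao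
      · have hbo : Odd b.natDegree := by
          rw [← Nat.not_even_iff_odd] at hodd ⊢
          exact fun hbe => hodd (hn ▸ hae.add hbe)
        obtain ⟨x, hx⟩ := ih b.natDegree (by omega) b rfl hbo
        exact ⟨x, root_mul.2 (Or.inr hx)⟩
      · obtain ⟨x, hx⟩ := ih a.natDegree (by omega) a rfl hao
        exact ⟨x, root_mul.2 (Or.inl hx)⟩

include hE hmax in
/-- Adjoining a square root of `-1` gives a separably closed field. -/
theorem exists_sepClosed_quadratic : ∃ (L : Type u) (_ : Field L) (_ : Algebra E L) (_ : FiniteDimensional E L)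
    (_ : IsGalois E L), Module.finrank E L = 2 ∧ IsSepClosed L := by
  obtain ⟨_, _⟩ := exists_linearOrder hE
  haveI : CharZero E := IsStrictOrderedRing.toCharZero
  haveI : Fact (Nat.Prime 2) := ⟨Nat.prime_two⟩
  obtain ⟨L, _, _, _, _, r, hdeg, hr, -⟩ := kummer_setup (p := 2) (IsPrimitiveRoot.neg_one 0 (by norm_num) : IsPrimitiveRoot (-1 : E) 2)
    (b := -1) fun c hc => absurd (sq_nonneg c) (by rw [hc]; norm_num)
  have hrE : r ∉ Set.range (algebraMap E L) := by
    rintro ⟨c, rfl⟩
    rw [← map_pow] at hr
    exact absurd (sq_nonneg c) (by rw [(algebraMap E L).injective hr]; norm_num)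
  have hr' : r * r = -1 := by rw [← pow_two, hr, map_neg, map_one]
  have hsq : ∀ z : L, IsSquare z := fun z => by
    obtain ⟨u, v, rfl⟩ := exists_repr_two hdeg hrE z
    obtain ⟨N, hN⟩ := isSquare_of_nonneg hE hmax (add_nonneg (mul_self_nonneg u) (mul_self_nonneg v))
    obtain ⟨M, hM0, hM⟩ : ∃ M, 0 ≤ M ∧ u * u + v * v = M * M := ⟨|N|, abs_nonneg N, by rw [hN, abs_mul_abs_self]⟩
    have huM : |u| ≤ M := abs_le_of_sq_le_sq (by nlinarith [mul_self_nonneg v]) hM0
    have hu1 : 0 ≤ (u + M) / 2 := by
      have := neg_abs_le u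
      linarith
    obtain ⟨x, hx⟩ := isSquare_of_nonneg hE hmax hu1
    rcases eq_or_ne x 0 with rfl | hx0
    · have hMu : M = -u := by linear_combination 2 * hx
      have hv : v = 0 := mul_self_eq_zero.1 (by rw [hMu] at hM; linear_combination hM)
      obtain ⟨y, hy⟩ := isSquare_of_nonneg hE hmax (a := -u) (hMu ▸ hM0)
      refine ⟨algebraMap E L y * r, ?_⟩
      rw [hv, map_zero, zero_mul, add_zero, show u = -(y * y) by linear_combination -hy, map_neg, map_mul]
      linear_combination -(algebraMap E L y * algebraMap E L y) * hr'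
    · let y := v / (2 * x)
      have hy : v = 2 * x * y := by
        show v = 2 * x * (v / (2 * x))
        field_simp
      have hu : u = x * x - y * y := by
        have h2x : 2 * (x * x) = u + M := by rw [← hx]; ring
        have hv2 : v * v = 4 * (x * x) * (y * y) := by rw [hy]; ring
        have h4 : (4 * (x * x)) * u = (4 * (x * x)) * (x * x - y * y) := by
          linear_combination (2 * u - (2 * (x * x) + (u + M))) * h2x + hM - hv2
        exact mul_left_cancel₀ (mul_ne_zero (by norm_num) (mul_ne_zero hx0 hx0)) h4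
      refine ⟨algebraMap E L x + algebraMap E L y * r, ?_⟩
      rw [hu, hy]
      simp only [map_sub, map_mul, map_ofNat]
      linear_combination -(algebraMap E L y * algebraMap E L y) * hr'
  refine ⟨L, inferInstance, inferInstance, inferInstance, inferInstance, hdeg,
    IsSepClosed.of_exists_root _ fun g hgm hirr hgs => ?_⟩
  haveI : Fact (Irreducible g) := ⟨hirr⟩
  let L' := AdjoinRoot g
  haveI : FiniteDimensional L L' := hgm.finite_adjoinRoot
  haveI : FiniteDimensional E L' := FiniteDimensional.trans E L L'
  obtain ⟨M, _, _, _, _, _, ⟨σ⟩⟩ := EtTraceLib.exists_galois E L'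
  -- the Galois group is a `2`-group
  let P : Sylow 2 (M ≃ₐ[E] M) := default
  let F := IntermediateField.fixedField (P : Subgroup (M ≃ₐ[E] M))
  obtain ⟨N, hN⟩ := IsPGroup.iff_card.1 P.isPGroup'
  have hMF : Module.finrank F M = 2 ^ N := (IntermediateField.finrank_fixedField_eq_card _).trans hN
  have hF : Module.finrank E F = (P : Subgroup (M ≃ₐ[E] M)).index := by
    refine Nat.eq_of_mul_eq_mul_right (Module.finrank_pos : 0 < Module.finrank F M) ?_
    rw [Module.finrank_mul_finrank, hMF, ← hN, Subgroup.index_mul_card, IsGalois.card_aut_eq_finrank]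
  have hF1 : Module.finrank E F = 1 := by
    obtain ⟨α, hα⟩ := Field.exists_primitive_element E F
    have hint : IsIntegral E α := IsIntegral.of_finite E α
    have hd : (minpoly E α).natDegree = Module.finrank E F := by
      rw [← IntermediateField.adjoin.finrank hint, hα, IntermediateField.finrank_top']
    have hFodd : Odd (Module.finrank E F) := by
      rw [hF, ← Nat.not_even_iff_odd, even_iff_two_dvd]
      exact P.not_dvd_index
    obtain ⟨x, hx⟩ := exists_root_odd hE hmax _ _ hd hFodd
    have := degree_eq_one_of_irreducible_of_root (minpoly.irreducible hint) hx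
    exact hd.symm.trans (natDegree_eq_of_degree_eq_some (n := 1) (by simpa using this))
  letI : Algebra L M := (σ.toRingHom.comp (algebraMap L L')).toAlgebra
  haveI : IsScalarTower E L M := IsScalarTower.of_algebraMap_eq fun x =>
    ((congrArg σ (IsScalarTower.algebraMap_apply E L L' x)).symm.trans (σ.commutes x)).symm
  haveI : FiniteDimensional L M := FiniteDimensional.right E L M
  haveI : IsGalois L M := IsGalois.tower_top_of_isGalois E L M
  have hcard : Module.finrank E M = 2 ^ N := by
    rw [← Module.finrank_mul_finrank E F M, hF1, one_mul, hMF]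
  obtain ⟨j, -, hj⟩ := (Nat.dvd_prime_pow Nat.prime_two).1
    (show Module.finrank L M ∣ 2 ^ N from hcard ▸ ⟨Module.finrank E L, by rw [mul_comm, Module.finrank_mul_finrank]⟩)
  have hj0 : j = 0 := by
    by_contra hj0
    obtain ⟨H, hH⟩ := Sylow.exists_subgroup_card_pow_prime 2 (G := M ≃ₐ[L] M) (n := j - 1) (by
      rw [IsGalois.card_aut_eq_finrank, hj]
      exact pow_dvd_pow 2 (by omega))
    let Q := IntermediateField.fixedField H
    have hQM : Module.finrank Q M = 2 ^ (j - 1) := (IntermediateField.finrank_fixedField_eq_card _).trans hH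
    have hQ : Module.finrank L Q = 2 := by
      refine Nat.eq_of_mul_eq_mul_right (Module.finrank_pos : 0 < Module.finrank Q M) ?_
      rw [Module.finrank_mul_finrank, hj, hQM, ← pow_succ']
      congr 1
      omega
    obtain ⟨α, hα⟩ := Field.exists_primitive_element L Q
    have hint : IsIntegral L α := IsIntegral.of_finite L α
    have hd : (minpoly L α).natDegree = 2 := by
      rw [← IntermediateField.adjoin.finrank hint, hα, IntermediateField.finrank_top', hQ]
    have hm := minpoly.monic hint
    obtain ⟨w, hw⟩ := hsq (discrim (1 : L) ((minpoly L α).coeff 1) ((minpoly L α).coeff 0))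
    haveI : CharZero L := charZero_of_injective_algebraMap (algebraMap E L).injective
    obtain ⟨x, hx⟩ := exists_quadratic_eq_zero (one_ne_zero' L) ⟨w, hw⟩
    have hroot : (minpoly L α).IsRoot x := by
      rw [IsRoot, eval_eq_sum_range, hd, Finset.sum_range_succ, Finset.sum_range_succ, Finset.sum_range_one,
        show (minpoly L α).coeff 2 = 1 by rw [← hd]; exact hm]
      linear_combination hx
    have h1 := degree_eq_one_of_irreducible_of_root (minpoly.irreducible hint) hroot
    rw [natDegree_eq_of_degree_eq_some (n := 1) (by simpa using h1)] at hd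
    omega
  have hLM : Module.finrank L M = 1 := by rw [hj, hj0, pow_zero]
  haveI := (Algebra.finrank_eq_one_iff_bijective_algebraMap).1 hLM
  obtain ⟨x, hx⟩ := this.2 (σ (AdjoinRoot.root g))
  refine ⟨x, ?_⟩
  have h1 : (g.map (algebraMap L M)).IsRoot (algebraMap L M x) := by
    rw [hx]
    show (g.map (σ.toRingHom.comp (algebraMap L L'))).IsRoot (σ.toRingHom (AdjoinRoot.root g))
    rw [← map_map]
    exact (AdjoinRoot.isRoot_root g).map
  exact h1.of_map (algebraMap L M).injective

end Real

end Groth.Agent.CdTameLib
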