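import Groth.Agent.CdTameLib.DimOne
import Groth.Agent.CdFieldLib.PointRpush
import Groth.Agent.ArtinVanLib.Codim
import Groth.Agent.DimLiftLib.Basic

/-!
# Schemes: the dimension is bounded by the cohomological dimension of the maximal points
-/

set_option autoImplicit false
set_option backward.isDefEq.respectTransparency false
set_option backward.isDefEq.respectTransparency.types false
set_option linter.style.haveILetI false
set_option maxHeartbeats 1000000

universe u

open CategoryTheory AlgebraicGeometry IsLocalRing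

noncomputable section

namespace Groth.Agent.CdTameLib

variable {X : Scheme.{u}}

theorem topologicalKrullDim_le_of_stalk {d : ℕ} (h : ∀ x : X, ringKrullDim (X.presheaf.stalk x) ≤ d) :
    topologicalKrullDim X ≤ d := by
  refine (DimLiftLib.topologicalKrullDim_eq ↥X).trans_le ?_
  rw [Order.krullDim_eq_iSup_coheight]
  exact iSup_le fun x => (ringKrullDim_stalk_eq_coheight (X := X) x).symm.trans_le (h x)

/-- The point of a minimal prime of a local ring is maximal. -/
theorem mem_irreducibleComponents_of_minimal (x : X) (P : PrimeSpectrum (X.presheaf.stalk x))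
    (hP : P.asIdeal ∈ minimalPrimes (X.presheaf.stalk x)) :
    closure {X.fromSpecStalk x P} ∈ irreducibleComponents (X : Type u) := by
  let η := X.fromSpecStalk x P
  have hηx : η ⤳ x := by
    have := Set.mem_range_self (f := X.fromSpecStalk x) P
    rwa [Scheme.range_fromSpecStalk] at this
  obtain ⟨g, hg⟩ := QuasiSober.sober (S := irreducibleComponent η) isIrreducible_irreducibleComponent
    isClosed_irreducibleComponent
  have hgη : g ⤳ η := specializes_iff_mem_closure.2 (hg.def ▸ mem_irreducibleComponent)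
  have hgr : g ∈ Set.range (X.fromSpecStalk x) := by
    rw [Scheme.range_fromSpecStalk]
    exact hgη.trans hηx
  obtain ⟨Q, rfl⟩ := hgr
  have hQP : Q.asIdeal ≤ P.asIdeal := (PrimeSpectrum.le_iff_specializes Q P).2
    ((X.fromSpecStalk x).isEmbedding.isInducing.specializes_iff.1 hgη)
  have hPQ : Q = P := PrimeSpectrum.ext (le_antisymm hQP (hP.2 ⟨Q.2, bot_le⟩ hQP))
  subst hPQ
  rw [hg.def]
  exact irreducibleComponent_mem_irreducibleComponents η

/-- The residue field at a generalization is the field of fractions. -/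
theorem exists_isFractionRing_residueField {η x : X} (h : η ⤳ x) (P : Ideal (X.presheaf.stalk x))
    (hP : P = RingHom.ker (Cyc.specMap x η h)) :
    ∃ _ : Algebra ((X.presheaf.stalk x) ⧸ P) (X.residueField η), IsFractionRing ((X.presheaf.stalk x) ⧸ P) (X.residueField η) := by
  subst hP
  let f : X.presheaf.stalk x →+* X.residueField η := (X.presheaf.stalkSpecializes h ≫ X.residue η).hom
  letI : Algebra ((X.presheaf.stalk x) ⧸ RingHom.ker (Cyc.specMap x η h)) (X.residueField η) :=
    (Ideal.Quotient.lift (RingHom.ker (Cyc.specMap x η h)) f fun a ha => ha).toAlgebra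
  haveI : FaithfulSMul ((X.presheaf.stalk x) ⧸ RingHom.ker (Cyc.specMap x η h)) (X.residueField η) :=
    (faithfulSMul_iff_algebraMap_injective _ _).2 (RingHom.lift_injective_of_ker_le_ideal _ _ le_rfl)
  refine ⟨inferInstance, IsFractionRing.of_field _ _ fun z => ?_⟩
  obtain ⟨a, s, hs, ha⟩ := CdFieldLib.exists_div_eq_of_specializes h z
  exact ⟨Ideal.Quotient.mk _ a, Ideal.Quotient.mk _ s, (eq_div_iff hs).2 ha⟩

theorem exists_dim_stalk [IsLocallyNoetherian X] (x : X) : ∃ m : ℕ, ringKrullDim (X.presheaf.stalk x) = m := by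
  haveI : FiniteRingKrullDim (X.presheaf.stalk x) := inferInstance
  have := Order.krullDim_eq_length_of_finiteDimensionalOrder (α := PrimeSpectrum (X.presheaf.stalk x))
  exact ⟨_, this.trans (by norm_cast)⟩

/-- The codimension of a point, and the dimension of its residue field. -/
theorem le_and_cdP_residueField [IsLocallyNoetherian X] {ℓ : ℕ} [Fact ℓ.Prime] (x : X) (hℓ : Dix.InvertibleOn X ℓ)
    (d : ℕ) (hd : ∀ η : X, closure {η} ∈ irreducibleComponents (X : Type u) → CdP ℓ d (X.residueField η))
    {m : ℕ} (hm : ringKrullDim (X.presheaf.stalk x) = m) :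
    m ≤ d ∧ ((ℓ ≠ 2 ∨ ¬ ∃ _ : LinearOrder (X.residueField x), IsStrictOrderedRing (X.residueField x)) →
      CdP ℓ (d - m) (X.residueField x)) := by
  let O := X.presheaf.stalk x
  haveI : FiniteRingKrullDim O := inferInstance
  let l := LTSeries.longestOf (PrimeSpectrum O)
  have hl : l.length = m := by
    have h := Order.krullDim_eq_length_of_finiteDimensionalOrder (α := PrimeSpectrum O)
    rw [← ringKrullDim, hm] at h
    exact_mod_cast h.symm
  haveI := l.head.2
  obtain ⟨P, hP, hPle⟩ := Ideal.exists_minimalPrimes_le (I := (⊥ : Ideal O)) (J := l.head.asIdeal) bot_le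
  haveI := hP.1.1
  have hPm : ringKrullDim (O ⧸ P) = m := by
    refine le_antisymm ((ringKrullDim_quotient_le P).trans hm.le) ?_
    rw [ringKrullDim_quotient, ← hl]
    refine le_trans ?_ (Order.LTSeries.length_le_krullDim (LTSeries.mk l.length (fun i => (⟨l i,
      (PrimeSpectrum.mem_zeroLocus _ _).2 (hPle.trans (l.monotone (Fin.zero_le i)))⟩ : PrimeSpectrum.zeroLocus (P : Set O)))
      fun i j hij => l.strictMono hij))
    rfl
  let Pp : PrimeSpectrum O := ⟨P, hP.1.1⟩
  have hηx : X.fromSpecStalk x Pp ⤳ x := by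
    have := Set.mem_range_self (f := X.fromSpecStalk x) Pp
    rwa [Scheme.range_fromSpecStalk] at this
  have hker : P = RingHom.ker (Cyc.specMap x (X.fromSpecStalk x Pp) hηx) :=
    congrArg PrimeSpectrum.asIdeal
      (((X.fromSpecStalk x).isEmbedding.injective (ArtinVanLib.fromSpecStalk_ker_specMap hηx)).symm)
  obtain ⟨_, hfr⟩ := exists_isFractionRing_residueField hηx P hker
  haveI : IsLocalRing (O ⧸ P) := IsLocalRing.of_surjective' _ Ideal.Quotient.mk_surjective
  have hu : IsUnit (ℓ : O ⧸ P) := by
    rw [← map_natCast (Ideal.Quotient.mk P)]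
    refine IsUnit.map _ ?_
    rw [← residue_ne_zero_iff_isUnit, map_natCast]
    exact hℓ x
  obtain ⟨h1, h2⟩ := le_and_cdP_of_ringKrullDim (O ⧸ P) (X.residueField (X.fromSpecStalk x Pp)) hPm hu
    (hd _ (mem_irreducibleComponents_of_minimal x Pp hP))
  haveI : IsLocalHom (Ideal.Quotient.mk P) := IsLocalHom.of_surjective _ Ideal.Quotient.mk_surjective
  let e : ResidueField O ≃+* ResidueField (O ⧸ P) :=
    RingEquiv.ofBijective (ResidueField.map (Ideal.Quotient.mk P)) ⟨RingHom.injective _, fun z => by
      obtain ⟨z, rfl⟩ := residue_surjective z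
      obtain ⟨a, rfl⟩ := Ideal.Quotient.mk_surjective z
      exact ⟨residue O a, rfl⟩⟩
  refine ⟨h1, fun hord => ((h2 (hord.imp id fun h ⟨o, ho⟩ => h ?_)).of_ringEquiv e.symm : CdP ℓ (d - m) (ResidueField O))⟩
  letI := o
  exact exists_linearOrder_of_ringHom (k' := ResidueField (O ⧸ P)) e.toRingHom

theorem ringKrullDim_stalk_le [IsLocallyNoetherian X] {ℓ : ℕ} [Fact ℓ.Prime] (x : X) (hℓ : Dix.InvertibleOn X ℓ)
    (d : ℕ) (hd : ∀ η : X, closure {η} ∈ irreducibleComponents (X : Type u) → CdP ℓ d (X.residueField η)) :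
    ringKrullDim (X.presheaf.stalk x) ≤ d := by
  obtain ⟨m, hm⟩ := exists_dim_stalk x
  rw [hm]
  exact_mod_cast (le_and_cdP_residueField x hℓ d hd hm).1

end Groth.Agent.CdTameLib
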