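import Groth.Agent.CdTameLib.DimChain
import Groth.Agent.CdTameLib.DvrStalk
import Groth.Agent.ArtinVanLib.StrictLoc
import Groth.Agent.ArtinVanLib.LocalBase
import Groth.Agent.ArtinVanLib.HensModel
import Groth.Agent.CdFieldLib.FieldExt
import Groth.Agent.DimFormulaLib.LocalDim
import Groth.Agent.GeomFacLib.Loc

/-!
# The cohomological dimension of the fields of fractions of strict localizations
-/

set_option autoImplicit false
set_option backward.isDefEq.respectTransparency false
set_option backward.isDefEq.respectTransparency.types false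
set_option linter.style.haveILetI false
set_option maxHeartbeats 1000000
set_option synthInstance.maxHeartbeats 200000

universe u

open CategoryTheory CategoryTheory.Limits AlgebraicGeometry IsLocalRing

noncomputable section

namespace Groth.Agent.CdTameLib

open DimFormulaLib EtTraceLib

theorem CdP.of_trdeg {p e n : ℕ} [Fact p.Prime] {K : Type u} [Field K] (h : CdP p e K) (L : Type u) [Field L]
    [Algebra K L] (hn : Algebra.trdeg K L = (n : ℕ)) : CdP p (e + n) L :=
  cdP_of_cdLE (CdFieldLib.cdLE_fieldExt {p} n K L hn e h.cdLE)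

theorem cdP_zero_of_sepClosed {p : ℕ} [Fact p.Prime] (K : Type u) [Field K] [IsSepClosed K] : CdP p 0 K :=
  cdP_of_cdLE (CdFieldLib.cdLE_zero_of_sepClosed _ K)

/-- The lower bound. -/
theorem ringKrullDim_le_of_cdP {p d : ℕ} [Fact p.Prime] {R : Type u} [CommRing R] [IsNoetherianRing R]
    [IsLocalRing R] (hu : IsUnit (p : R))
    (h : ∀ P ∈ minimalPrimes R, Dix.CohDimLEAt (Spec (CommRingCat.of (FractionRing (R ⧸ P)))) p d) :
    ringKrullDim R ≤ d := by
  refine iSup_le fun l => ?_
  obtain ⟨P, hP, hPl⟩ := Ideal.exists_minimalPrimes_le (bot_le : (⊥ : Ideal R) ≤ l.head.asIdeal)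
  haveI : P.IsPrime := hP.1.1
  haveI : IsLocalRing (R ⧸ P) := IsLocalRing.of_surjective' _ Ideal.Quotient.mk_surjective
  have hdim : ringKrullDim (R ⧸ P) ≤ (d : ℕ) := by
    obtain ⟨n, hn⟩ : ∃ n : ℕ, ringKrullDim (R ⧸ P) = n := by
      obtain ⟨n, hn⟩ := ENat.ne_top_iff_exists.1
        (Ideal.height_ne_top (I := maximalIdeal (R ⧸ P)) (maximalIdeal.isMaximal _).ne_top)
      exact ⟨n, by rw [← IsLocalRing.maximalIdeal_height_eq_ringKrullDim, ← hn]; rfl⟩
    haveI : Fact (CdP p d (FractionRing (R ⧸ P))) := ⟨cdP_iff.2 (h P hP)⟩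
    have huq : IsUnit (p : R ⧸ P) := by
      rw [← map_natCast (Ideal.Quotient.mk P)]
      exact hu.map _
    rw [hn]
    exact_mod_cast (le_and_cdP_of_ringKrullDim (R ⧸ P) (FractionRing (R ⧸ P)) hn huq Fact.out).1
  refine le_trans ?_ hdim
  rw [ringKrullDim_quotient]
  let l' : LTSeries (PrimeSpectrum.zeroLocus (P : Set R)) := LTSeries.mk l.length
    (fun i => ⟨l i, (PrimeSpectrum.mem_zeroLocus _ _).2 fun x hx => l.head_le i (hPl hx)⟩) fun i j hij => l.strictMono hij
  exact Order.LTSeries.length_le_krullDim l'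

/-- Integers invertible on the base are invertible in the strict localizations. -/
theorem isUnit_natCast_of_hom {A : Type u} [CommRing A] {X : Scheme.{u}} (f : X ⟶ Spec (CommRingCat.of A)) (x : X)
    {R : Type u} [CommRing R] [Algebra (X.presheaf.stalk x) R] {n : ℕ} (hn : IsUnit (n : A)) : IsUnit (n : R) := by
  let φ : A →+* R := (algebraMap (X.presheaf.stalk x) R).comp
    ((Scheme.ΓSpecIso (CommRingCat.of A)).inv ≫ f.appTop ≫ X.presheaf.germ ⊤ x trivial).hom
  rw [← map_natCast φ]
  exact hn.map φ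

/-- The field case. -/
theorem cdP_fractionRing_of_field {p d : ℕ} [Fact p.Prime] {k : Type u} [Field k] {X : Scheme.{u}}
    (f : X ⟶ Spec (CommRingCat.of k)) [LocallyOfFiniteType f] (x : X) (R : Type u) [CommRing R] [IsLocalRing R]
    [Algebra (X.presheaf.stalk x) R] [IsLocalHom (algebraMap (X.presheaf.stalk x) R)]
    [Hensel.IsStrictHenselization (X.presheaf.stalk x) R] (hd : ringKrullDim R ≤ d) (P : Ideal R) [P.IsPrime] :
    CdP p d (FractionRing (R ⧸ P)) := by
  obtain ⟨_, k', _, hsep, _, hbound⟩ := ArtinVanLib.exists_field_strictLocalization f x R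
  haveI := hsep
  have h := hbound P d ((ringKrullDim_quotient_le P).trans hd)
  obtain ⟨t, ht⟩ := Cardinal.lt_aleph0.1 (lt_of_le_of_lt h Cardinal.natCast_lt_aleph0)
  rw [ht] at h
  haveI : FaithfulSMul k' (R ⧸ P) := (faithfulSMul_iff_algebraMap_injective _ _).2 (RingHom.injective _)
  have ht' : Algebra.trdeg k' (FractionRing (R ⧸ P)) = (t : ℕ) := by
    rw [← trdeg_eq_of_isFractionRing (D := R ⧸ P), ht]
  exact ((cdP_zero_of_sepClosed k').of_trdeg _ ht').mono (by simpa using Nat.cast_le.1 h)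

theorem isUniversallyCatenary_dvr (S : Type u) [CommRing S] [IsDomain S] [IsDiscreteValuationRing S] :
    CAlg.IsUniversallyCatenary S :=
  haveI := RatliffLib.cm_of_regularLocal S
  CMCat.isUniversallyCatenary_of_cmLocal

/-- The residue fields of a strict localization at a prime of an algebra of finite type. -/
theorem exists_trdeg_fractionRing {S B O A : Type u} [CommRing S] [CommRing B] [Algebra S B] [CommRing O]
    [IsLocalRing O] [Algebra B O] {q : PrimeSpectrum B} [IsLocalization.AtPrime O q.asIdeal] [CommRing A] [IsLocalRing A]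
    [Algebra O A] [IsLocalHom (algebraMap O A)] [Hensel.IsStrictHenselization O A] (𝔓 : Ideal A) [𝔓.IsPrime] :
    ∃ (P : PrimeSpectrum B) (_ : P ≤ q)
      (_ : Algebra (S ⧸ (PrimeSpectrum.comap (algebraMap S B) P).asIdeal) (FractionRing (A ⧸ 𝔓))),
      Function.Injective (algebraMap (S ⧸ (PrimeSpectrum.comap (algebraMap S B) P).asIdeal) (FractionRing (A ⧸ 𝔓))) ∧
      ∀ t : ℕ, Algebra.trdeg (S ⧸ (PrimeSpectrum.comap (algebraMap S B) P).asIdeal) (B ⧸ P.asIdeal) = t →
        Algebra.trdeg (S ⧸ (PrimeSpectrum.comap (algebraMap S B) P).asIdeal) (FractionRing (A ⧸ 𝔓)) = t := by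
  let L := FractionRing (A ⧸ 𝔓)
  let θ : B →+* A := (algebraMap O A).comp (algebraMap B O)
  let P : PrimeSpectrum B := PrimeSpectrum.comap θ ⟨𝔓, inferInstance⟩
  have hθ : ∀ b, algebraMap (A ⧸ 𝔓) L (Ideal.Quotient.mk 𝔓 (θ b)) = 0 ↔ b ∈ P.asIdeal := fun b => by
    rw [map_eq_zero_iff _ (IsFractionRing.injective (A ⧸ 𝔓) L), Ideal.Quotient.eq_zero_iff_mem]
    rfl
  have hPq : P ≤ q := fun b hb => by
    by_contra hbq
    exact (inferInstance : 𝔓.IsPrime).ne_top (Ideal.eq_top_of_isUnit_mem _ hb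
      ((IsLocalization.map_units O (⟨b, hbq⟩ : q.asIdeal.primeCompl)).map (algebraMap O A)))
  let P0 := PrimeSpectrum.comap (algebraMap S B) P
  haveI : P.asIdeal.LiesOver P0.asIdeal := ⟨rfl⟩
  let F := P.asIdeal.ResidueField
  let ψ : B ⧸ P.asIdeal →+* L := Ideal.Quotient.lift P.asIdeal ((algebraMap (A ⧸ 𝔓) L).comp
    ((Ideal.Quotient.mk 𝔓).comp θ)) fun b hb => (hθ b).2 hb
  have hψ : Function.Injective ψ := (injective_iff_map_eq_zero ψ).2 fun z hz => by
    obtain ⟨b, rfl⟩ := Ideal.Quotient.mk_surjective z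
    exact Ideal.Quotient.eq_zero_iff_mem.2 ((hθ b).1 hz)
  letI : Algebra (B ⧸ P.asIdeal) L := ψ.toAlgebra
  haveI : FaithfulSMul (B ⧸ P.asIdeal) L := (faithfulSMul_iff_algebraMap_injective _ _).2 hψ
  let σ : F →+* L := IsFractionRing.lift (A := B ⧸ P.asIdeal) (g := ψ) hψ
  letI : Algebra F L := σ.toAlgebra
  have hσ : ∀ b : B, σ (algebraMap B F b) = algebraMap (A ⧸ 𝔓) L (Ideal.Quotient.mk 𝔓 (θ b)) := fun b => by
    rw [IsScalarTower.algebraMap_apply B (B ⧸ P.asIdeal) F]
    exact IsFractionRing.lift_algebraMap hψ _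
  have hu : ∀ y : q.asIdeal.primeCompl, IsUnit (algebraMap B F y) := fun y => isUnit_iff_ne_zero.2 fun h0 =>
    y.2 (hPq (Ideal.Quotient.eq_zero_iff_mem.1 ((map_eq_zero_iff _ (IsFractionRing.injective (B ⧸ P.asIdeal) F)).1
      ((IsScalarTower.algebraMap_apply B (B ⧸ P.asIdeal) F y).symm.trans h0))))
  letI : Algebra O F := (IsLocalization.lift hu).toAlgebra
  haveI : IsScalarTower O F L := IsScalarTower.of_algebraMap_eq' (IsLocalization.ringHom_ext q.asIdeal.primeCompl
    (RingHom.ext fun b => by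
      show algebraMap (A ⧸ 𝔓) L (Ideal.Quotient.mk 𝔓 (θ b)) = σ (IsLocalization.lift hu (algebraMap B O b))
      rw [IsLocalization.lift_eq, hσ]))
  haveI halg : Algebra.IsAlgebraic F L := ⟨fun z => by
    obtain ⟨a, s, -, rfl⟩ := IsFractionRing.div_surjective (A := A ⧸ 𝔓) z
    obtain ⟨a, rfl⟩ := Ideal.Quotient.mk_surjective a
    obtain ⟨s, rfl⟩ := Ideal.Quotient.mk_surjective s
    rw [div_eq_mul_inv]
    exact (CdFieldLib.isAlgebraic_of_strictHenselization (K := F) (IsScalarTower.toAlgHom O A L) a).mul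
      (CdFieldLib.isAlgebraic_of_strictHenselization (K := F) (IsScalarTower.toAlgHom O A L) s).inv⟩
  haveI : Algebra.IsAlgebraic (B ⧸ P.asIdeal) F :=
    (IsFractionRing.comap_isAlgebraic_iff (A := B ⧸ P.asIdeal) (K := F) (C := F)).2 inferInstance
  haveI : IsScalarTower (B ⧸ P.asIdeal) F L := IsScalarTower.of_algebraMap_eq fun z =>
    (IsFractionRing.lift_algebraMap hψ z).symm
  haveI : Algebra.IsAlgebraic (B ⧸ P.asIdeal) L := Algebra.IsAlgebraic.trans (B ⧸ P.asIdeal) F L
  letI : Algebra (S ⧸ P0.asIdeal) L := (ψ.comp (algebraMap (S ⧸ P0.asIdeal) (B ⧸ P.asIdeal))).toAlgebra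
  haveI : IsScalarTower (S ⧸ P0.asIdeal) (B ⧸ P.asIdeal) L := IsScalarTower.of_algebraMap_eq fun _ => rfl
  have hinj : Function.Injective (algebraMap (S ⧸ P0.asIdeal) (B ⧸ P.asIdeal)) := Ideal.algebraMap_quotient_injective
  haveI : FaithfulSMul (S ⧸ P0.asIdeal) (B ⧸ P.asIdeal) := (faithfulSMul_iff_algebraMap_injective _ _).2 hinj
  refine ⟨P, hPq, inferInstance, hψ.comp hinj, fun t ht => ?_⟩
  rw [← trdeg_add_eq (S ⧸ P0.asIdeal) (B ⧸ P.asIdeal) (A := L), trdeg_eq_zero (R := B ⧸ P.asIdeal) (A := L), add_zero]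
  exact ht

/-- Closed points over a strictly henselian discrete valuation ring. -/
theorem cdP_fractionRing_of_closed {p d : ℕ} [Fact p.Prime] {S : Type u} [CommRing S] [IsDomain S]
    [IsDiscreteValuationRing S] [HenselianLocalRing S] [IsSepClosed (ResidueField S)] (hu : IsUnit (p : S))
    {B O A : Type u} [CommRing B] [Algebra S B] [Algebra.FiniteType S B] [CommRing O]
    [IsLocalRing O] [Algebra B O] {q : PrimeSpectrum B} [IsLocalization.AtPrime O q.asIdeal] [q.asIdeal.IsMaximal]
    (hq : PrimeSpectrum.comap (algebraMap S B) q = closedPoint S)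
    [CommRing A] [IsLocalRing A] [Algebra O A] [IsLocalHom (algebraMap O A)] [Hensel.IsStrictHenselization O A]
    (hd : ringKrullDim A ≤ d) (𝔓 : Ideal A) [𝔓.IsPrime] : CdP p d (FractionRing (A ⧸ 𝔓)) := by
  obtain ⟨P, hPq, _, hinj, htr⟩ := exists_trdeg_fractionRing (S := S) (O := O) (q := q) (A := A) 𝔓
  haveI : IsNoetherianRing B := Algebra.FiniteType.isNoetherianRing S B
  -- the two transcendence degrees
  obtain ⟨t, ht⟩ := exists_nat_trdeg_quotient_pair (A := S) P
  have ht' : Algebra.trdeg (S ⧸ (PrimeSpectrum.comap (algebraMap S B) q).asIdeal) (B ⧸ q.asIdeal) = (0 : ℕ) := by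
    let p' := PrimeSpectrum.comap (algebraMap S B) q
    haveI : q.asIdeal.LiesOver p'.asIdeal := ⟨rfl⟩
    haveI : p'.asIdeal.IsMaximal := by rw [show p' = closedPoint S from hq]; exact maximalIdeal.isMaximal S
    letI : Field (S ⧸ p'.asIdeal) := Ideal.Quotient.field _
    letI : Field (B ⧸ q.asIdeal) := Ideal.Quotient.field _
    haveI : Algebra.FiniteType (S ⧸ p'.asIdeal) (B ⧸ q.asIdeal) := Algebra.FiniteType.of_restrictScalars_finiteType S _ _
    haveI : Module.Finite (S ⧸ p'.asIdeal) (B ⧸ q.asIdeal) :=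
      finite_of_finite_type_of_isJacobsonRing (S ⧸ p'.asIdeal) (B ⧸ q.asIdeal)
    rw [Nat.cast_zero]
    exact trdeg_eq_zero
  obtain ⟨a, b, ha, hb, -, heq⟩ := formula_component hPq t 0 ht ht'
  have h := heq (catAbove_of_isUniversallyCatenary (isUniversallyCatenary_dvr S) _)
  have had : a ≤ d := by
    obtain ⟨eH⟩ := Henselization.exists_algEquiv_of_isStrictHenselization O A
    rw [Henselization.ringKrullDim_of_equiv eH, IsLocalization.AtPrime.ringKrullDim_eq_height q.asIdeal O] at hd
    have h1 : q.asIdeal.height ≤ (d : ℕ∞) := WithBot.coe_le_coe.1 hd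
    have h2 := (relHeight_le_height hPq).trans h1
    rw [ha] at h2
    exact_mod_cast h2
  rw [hq] at hb
  -- the base
  let P0 := PrimeSpectrum.comap (algebraMap S B) P
  haveI : FaithfulSMul (S ⧸ P0.asIdeal) (FractionRing (A ⧸ 𝔓)) :=
    (faithfulSMul_iff_algebraMap_injective _ _).2 hinj
  let K0 := FractionRing (S ⧸ P0.asIdeal)
  letI : Algebra K0 (FractionRing (A ⧸ 𝔓)) := FractionRing.liftAlgebra (S ⧸ P0.asIdeal) _
  have htK : Algebra.trdeg K0 (FractionRing (A ⧸ 𝔓)) = (t : ℕ) := by
    rw [← htr t ht, ← trdeg_add_eq (S ⧸ P0.asIdeal) K0 (A := FractionRing (A ⧸ 𝔓))]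
    haveI : Algebra.IsAlgebraic (S ⧸ P0.asIdeal) K0 :=
      (IsFractionRing.comap_isAlgebraic_iff (A := S ⧸ P0.asIdeal) (K := K0) (C := K0)).2 inferInstance
    rw [trdeg_eq_zero (R := S ⧸ P0.asIdeal) (A := K0), zero_add]
  by_cases hP0 : P0.asIdeal = ⊥
  · have hK0 : CdP p 1 K0 := by
      have := (cdP_one_of_strictlyHenselian_dvr S (FractionRing S) ⟨inferInstance, inferInstance⟩ hu)
      exact this.of_ringEquiv (IsFractionRing.ringEquivOfRingEquiv
        ((Ideal.quotEquivOfEq hP0).trans (RingEquiv.quotientBot S)).symm)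
    refine (hK0.of_trdeg _ htK).mono ?_
    have hb1 : b ≠ 0 := fun hb0 => by
      rw [hb0] at hb
      have h1 := ArtinVanLib.relHeight_eq_ringKrullDim P0
      rw [hb] at h1
      haveI : Ring.KrullDimLE 0 (S ⧸ P0.asIdeal) := Ring.krullDimLE_iff.mpr h1.ge
      exact IsDiscreteValuationRing.not_isField S (((Ideal.quotEquivOfEq hP0).trans
        (RingEquiv.quotientBot S)).symm.toMulEquiv.isField Ring.KrullDimLE.isField_of_isDomain)
    omega
  · have hmax : P0.asIdeal = maximalIdeal S := eq_maximalIdeal (P0.isPrime.isMaximal hP0)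
    let e : ResidueField S ≃+* K0 := (Ideal.quotEquivOfEq hmax.symm).trans (RingEquiv.ofBijective _
      (IsField.localization_map_bijective zero_notMem_nonZeroDivisors
        ((Ideal.Quotient.maximal_ideal_iff_isField_quotient _).1 (hmax ▸ maximalIdeal.isMaximal S))))
    exact (((cdP_zero_of_sepClosed (ResidueField S)).of_ringEquiv e).of_trdeg _ htK).mono (by omega)

/-- The case of a discrete valuation ring as base. -/
theorem cdP_fractionRing_of_dvr {p d : ℕ} [Fact p.Prime] {V : Type u} [CommRing V] [IsDomain V]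
    [IsDiscreteValuationRing V] {X : Scheme.{u}} (f : X ⟶ Spec (CommRingCat.of V)) [LocallyOfFiniteType f]
    (hu : IsUnit (p : V)) (x : X) (R : Type u) [CommRing R] [IsLocalRing R]
    [Algebra (X.presheaf.stalk x) R] [IsLocalHom (algebraMap (X.presheaf.stalk x) R)]
    [Hensel.IsStrictHenselization (X.presheaf.stalk x) R] (hd : ringKrullDim R ≤ d) (P : Ideal R) [P.IsPrime] :
    CdP p d (FractionRing (R ⧸ P)) := by
  obtain ⟨π, hπ⟩ := IsDiscreteValuationRing.exists_irreducible V
  by_cases hx : (f x).asIdeal = ⊥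
  · -- over the generic point
    obtain ⟨hj, hjr⟩ := jη_open (R := V) hπ
    let U : X.Opens := f ⁻¹ᵁ (PrimeSpectrum.basicOpen π)
    have hxU : x ∈ U := by
      show π ∉ (f x).asIdeal
      rw [hx]
      exact fun h => hπ.ne_zero (Ideal.mem_bot.1 h)
    have hrange : Set.range (U.ι ≫ f) ⊆ Set.range (jη (Spec (CommRingCat.of V))) := by
      rintro _ ⟨u, rfl⟩
      rw [hjr, Scheme.Hom.comp_apply]
      exact u.2
    have hjη := jη_eq (R := V)
    let j : Spec (CommRingCat.of (K₀ V)) ⟶ Spec (CommRingCat.of V) := Spec.map (CommRingCat.ofHom (algebraMap V (K₀ V)))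
    haveI : IsOpenImmersion j := by rw [← show jη (Spec (CommRingCat.of V)) = j from hjη]; exact hj
    let g : (U : Scheme.{u}) ⟶ Spec (CommRingCat.of (K₀ V)) := IsOpenImmersion.lift j (U.ι ≫ f) (by
      rw [← show jη (Spec (CommRingCat.of V)) = j from hjη]; exact hrange)
    haveI : LocallyOfFiniteType (g ≫ j) := by rw [IsOpenImmersion.lift_fac]; infer_instance
    haveI : LocallyOfFiniteType g := locallyOfFiniteType_of_comp g j
    let e := (U.stalkIso ⟨x, hxU⟩).commRingCatIsoToRingEquiv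
    letI : Algebra ((U : Scheme.{u}).presheaf.stalk ⟨x, hxU⟩) R :=
      ((algebraMap (X.presheaf.stalk x) R).comp e.toRingHom).toAlgebra
    haveI : IsLocalHom (algebraMap ((U : Scheme.{u}).presheaf.stalk ⟨x, hxU⟩) R) :=
      haveI : IsLocalHom e.toRingHom := ⟨fun r hr => (MulEquiv.isUnit_map e.toMulEquiv).1 hr⟩
      RingHom.isLocalHom_comp _ _
    haveI := GeomFacLib.isStrictHenselization_of_ringEquiv (T := R) e.symm (fun r => by
      show algebraMap (X.presheaf.stalk x) R (e (e.symm r)) = _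
      rw [RingEquiv.apply_symm_apply])
    exact cdP_fractionRing_of_field g ⟨x, hxU⟩ R hd P
  · -- over the closed point
    have hm : (f x).asIdeal = maximalIdeal V := eq_maximalIdeal ((f x).isPrime.isMaximal hx)
    obtain ⟨S, _, _, _, _, _, π', hπ', hπ0, hnil, X', f', _, _, x', hxc, hxm, _, _, _⟩ :=
      ArtinVanLib.exists_strictlyHenselian_model f x (maximalIdeal V) hm π
        hπ.maximalIdeal_eq R
    obtain ⟨_, _⟩ := ArtinVanLib.exists_isDomain_dvr π' hπ' (hnil.resolve_left hπ.ne_zero)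
    obtain ⟨B, _, _, _, j, _, q, hq, hjf⟩ := ArtinVanLib.exists_baseChart f' x'
    subst hq
    obtain ⟨_, hloc, -⟩ := ArtinVanLib.exists_isLocalization_stalk j q
    haveI := hloc
    haveI : q.asIdeal.IsMaximal := (PrimeSpectrum.isClosed_singleton_iff_isMaximal q).1 (by
      have h1 := hxc.preimage j.continuous
      rwa [← Set.image_singleton, j.isOpenEmbedding.injective.preimage_image] at h1)
    have hfq : PrimeSpectrum.comap (algebraMap S B) q = closedPoint S := by
      apply PrimeSpectrum.ext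
      show _ = maximalIdeal S
      rw [← hxm, ← Scheme.Hom.comp_apply, hjf]
      rfl
    haveI : IsSepClosed (ResidueField S) := inferInstance
    have huS : IsUnit (p : S) := by
      by_contra hnu
      have hcl : (p : S) ∈ maximalIdeal S := (mem_maximalIdeal _).2 hnu
      let θ : S →+* R := (algebraMap _ R).comp ((algebraMap B (X'.presheaf.stalk (j q))).comp (algebraMap S B))
      have hR : IsUnit (algebraMap (X'.presheaf.stalk (j q)) R
          (algebraMap B (X'.presheaf.stalk (j q)) (algebraMap S B (p : S)))) := by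
        show IsUnit (θ (p : S))
        rw [map_natCast θ]
        exact isUnit_natCast_of_hom f x hu
      have h2 := IsLocalHom.map_nonunit _ hR
      have h3 : (algebraMap S B (p : S)) ∉ q.asIdeal :=
        (IsLocalization.AtPrime.isUnit_to_map_iff (X'.presheaf.stalk (j q)) q.asIdeal _).1 h2
      exact h3 (show (p : S) ∈ (PrimeSpectrum.comap (algebraMap S B) q).asIdeal by rw [hfq]; exact hcl)
    exact cdP_fractionRing_of_closed huS (O := X'.presheaf.stalk (j q)) hfq hd P

end Groth.Agent.CdTameLib
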