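import Groth.Agent.CdTameLib.Dvr
import Groth.Agent.CdTameLib.StrictLocal
import Groth.Agent.ArtinVanLib.HensModel
import Mathlib.RingTheory.Polynomial.Quotient
import Mathlib.FieldTheory.PurelyInseparable.PerfectClosure

/-!
# Strictly henselian traits with generic residue field inside a strict henselization
-/

set_option autoImplicit false
set_option backward.isDefEq.respectTransparency false
set_option backward.isDefEq.respectTransparency.types false
set_option linter.style.haveILetI false
set_option maxHeartbeats 1000000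
set_option synthInstance.maxHeartbeats 200000

universe u

open IsLocalRing

noncomputable section

namespace Groth.Agent.CdTameLib

/-- A root of a constant in a rational function field is a constant. -/
theorem exists_C_of_pow {κ : Type u} [Field κ] (q : ℕ) [ExpChar κ q] {σ : Type*} {A F : Type u} [CommRing A] [IsDomain A]
    (e : MvPolynomial σ κ ≃+* A) [Field F] [Algebra A F] [IsFractionRing A F] (α : F) (s : ℕ) (a : κ)
    (h : α ^ q ^ s = algebraMap A F (e (MvPolynomial.C a))) :
    ∃ b, α = algebraMap A F (e (MvPolynomial.C b)) := by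
  haveI : UniqueFactorizationMonoid (MvPolynomial σ κ) := inferInstance
  haveI hP : IsIntegrallyClosed (MvPolynomial σ κ) := UniqueFactorizationMonoid.instIsIntegrallyClosed
  haveI : IsIntegrallyClosed A := IsIntegrallyClosed.of_equiv e
  have hint : IsIntegral A α := IsIntegral.of_pow (pow_pos (expChar_pos κ q) s) (by rw [h]; exact isIntegral_algebraMap)
  obtain ⟨x, rfl⟩ := IsIntegrallyClosed.algebraMap_eq_of_integral hint
  obtain ⟨f, rfl⟩ := e.surjective x
  rw [← map_pow, ← map_pow] at h
  have hf : f ^ q ^ s = MvPolynomial.C a := e.injective (IsFractionRing.injective A F h)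
  refine ⟨MvPolynomial.constantCoeff f, ?_⟩
  have ha : MvPolynomial.constantCoeff f ^ q ^ s = a := by
    rw [← map_pow, hf, MvPolynomial.constantCoeff_C]
  have h0 : (f - MvPolynomial.C (MvPolynomial.constantCoeff f)) ^ q ^ s = 0 := by
    haveI : ExpChar (MvPolynomial σ κ) q :=
      expChar_of_injective_ringHom (f := (MvPolynomial.C : κ →+* MvPolynomial σ κ)) (MvPolynomial.C_injective σ κ) q
    rw [sub_pow_expChar_pow, hf, ← map_pow, ha, sub_self]
  rw [← sub_eq_zero.1 (eq_zero_of_pow_eq_zero h0)]

/-- The trait at the generic point of the affine space over the closed point. -/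
theorem exists_tame_generic (V K : Type u) [CommRing V] [IsDomain V] [IsDiscreteValuationRing V]
    [HenselianLocalRing V] [IsSepClosed (ResidueField V)] [Field K] [Algebra V K] [IsFractionRing V K]
    {A : Type u} [CommRing A] [IsLocalRing A] [HenselianLocalRing A] [IsSepClosed (ResidueField A)] [Algebra V A]
    [IsLocalHom (algebraMap V A)] {k : ℕ} (v : Fin k → A)
    (hv : ∀ p : MvPolynomial (Fin k) V, MvPolynomial.aeval v p ∈ maximalIdeal A →
      p ∈ (maximalIdeal V).map (MvPolynomial.C : V →+* MvPolynomial (Fin k) V)) :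
    ∃ (R' : Type u) (_ : CommRing R') (_ : IsDomain R') (_ : IsDiscreteValuationRing R') (_ : Algebra V R'),
      EtCoh.IsStrictlyHenselianLocalRing R' ∧ IsLocalHom (algebraMap V R') ∧ Function.Injective (algebraMap V R') ∧
      Algebra.trdeg V R' = (k : ℕ) ∧ Nonempty (R' →ₐ[V] A) ∧
      ∀ (K' : Type u) (_ : Field K') (_ : Algebra R' K') (_ : IsFractionRing R' K') (_ : Algebra K K'),
        (∀ x, algebraMap K K' (algebraMap V K x) = algebraMap R' K' (algebraMap V R' x)) →
          ∀ y : K', IsSeparable K y → y ∈ Set.range (algebraMap K K') := by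
  classical
  obtain ⟨π, hπ⟩ := IsDiscreteValuationRing.exists_irreducible V
  let R0 := MvPolynomial (Fin k) V
  let φ : R0 →ₐ[V] A := MvPolynomial.aeval v
  let r0 : Ideal R0 := (maximalIdeal V).map MvPolynomial.C
  let eA : MvPolynomial (Fin k) (ResidueField V) ≃+* R0 ⧸ r0 :=
    (MvPolynomial.quotientEquivQuotientMvPolynomial (maximalIdeal V)).toRingEquiv
  have heA : ∀ x : V, eA (MvPolynomial.C (residue V x)) = Ideal.Quotient.mk r0 (MvPolynomial.C x) := fun x =>
    (MvPolynomial.quotientEquivQuotientMvPolynomial (maximalIdeal V)).commutes x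
  haveI : IsDomain (R0 ⧸ r0) := eA.symm.toMulEquiv.isDomain (MvPolynomial (Fin k) (ResidueField V))
  haveI : r0.IsPrime := (Ideal.Quotient.isDomain_iff_prime r0).1 inferInstance
  have hφr : ∀ r, φ r ∈ maximalIdeal A ↔ r ∈ r0 := fun r => by
    refine ⟨hv r, fun h => ?_⟩
    refine (Ideal.map_le_iff_le_comap (f := MvPolynomial.C) (K := (maximalIdeal A).comap φ.toRingHom)).2 (fun x hx => ?_) h
    show φ (MvPolynomial.C x) ∈ maximalIdeal A
    rw [show φ (MvPolynomial.C x) = algebraMap V A x from φ.commutes x]
    exact (mem_maximalIdeal _).2 fun hu => (mem_maximalIdeal _).1 hx (IsLocalHom.map_nonunit x hu)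
  let R1 := Localization.AtPrime r0
  have hb : ∀ r : r0.primeCompl, IsUnit (φ r) := fun r => by
    by_contra hu
    exact r.2 ((hφr r).1 ((mem_maximalIdeal _).2 hu))
  let b1 : R1 →+* A := IsLocalization.lift (g := φ.toRingHom) hb
  have hb1 : ∀ r, b1 (algebraMap R0 R1 r) = φ r := IsLocalization.lift_eq (g := φ.toRingHom) hb
  haveI : IsLocalHom b1 := ⟨fun x hx => by
    obtain ⟨⟨r, s⟩, e⟩ := IsLocalization.surj r0.primeCompl x
    have h1 : IsUnit (φ r) := by
      rw [← hb1, ← e, map_mul]
      exact hx.mul ((IsLocalization.map_units R1 s).map b1)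
    have h2 : r ∉ r0 := fun hr => (mem_maximalIdeal _).1 ((hφr r).2 hr) h1
    have h3 : IsUnit (x * algebraMap R0 R1 s) := by
      rw [e]
      exact IsLocalization.map_units R1 (⟨r, h2⟩ : r0.primeCompl)
    exact isUnit_of_mul_isUnit_left h3⟩
  obtain ⟨R', _, _, _, _, hR'⟩ := Henselization.exists_strictHenselization (R := R1)
  haveI := hR'
  haveI : HenselianLocalRing R' := Hensel.IsStrictHenselization.henselian (R := R1) (S := R')
  haveI hsR := Hensel.IsStrictHenselization.isSepClosure (R := R1) (S := R')
  haveI : IsSepClosed (ResidueField R') := hsR.sep_closed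
  haveI : Algebra.IsSeparable (ResidueField R1) (ResidueField R') := hsR.separable
  letI : Algebra (ResidueField R1) (ResidueField A) := (ResidueField.map b1).toAlgebra
  let τ : ResidueField R' →ₐ[ResidueField R1] ResidueField A := IsSepClosed.lift
  obtain ⟨h, ⟨hh, -⟩, -⟩ := Hensel.IsStrictHenselization.universal (R := R1) (S := R') A b1
    (τ : ResidueField R' →+* ResidueField A) (RingHom.ext fun x => τ.commutes x)
  letI : Algebra R0 R' := ((algebraMap R1 R').comp (algebraMap R0 R1)).toAlgebra
  haveI : IsScalarTower R0 R1 R' := .of_algebraMap_eq' rfl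
  letI : Algebra V R' := ((algebraMap R0 R').comp (algebraMap V R0)).toAlgebra
  haveI : IsScalarTower V R0 R' := .of_algebraMap_eq' rfl
  obtain ⟨eH⟩ := Henselization.exists_algEquiv_of_isStrictHenselization R1 R'
  haveI : IsNoetherianRing R' := (Henselization.isNoetherianRing_of_equiv eH).2 inferInstance
  let π' : R' := algebraMap V R' π
  have hmax : maximalIdeal R' = Ideal.span {π'} := by
    have hr0 : r0.map (algebraMap R0 R1) = Ideal.span {algebraMap R0 R1 (MvPolynomial.C π)} := by
      show ((maximalIdeal V).map MvPolynomial.C).map _ = _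
      rw [hπ.maximalIdeal_eq, Ideal.map_span, Set.image_singleton, Ideal.map_span, Set.image_singleton]
    rw [← Henselization.map_maximalIdeal_of_equiv eH, ← Localization.AtPrime.map_eq_maximalIdeal (I := r0), hr0,
      Ideal.map_span, Set.image_singleton]
    rfl
  have hinj1 : Function.Injective (algebraMap R1 R') := by
    intro a b hab
    refine Henselization.algebraMap_injective (R := R1) (K := SeparableClosure (ResidueField R1)) (eH.injective ?_)
    rwa [AlgEquiv.commutes, AlgEquiv.commutes]
  have hinj0 : Function.Injective (algebraMap R0 R') :=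
    hinj1.comp (IsLocalization.injective R1 r0.primeCompl_le_nonZeroDivisors)
  have hinjV : Function.Injective (algebraMap V R') := hinj0.comp (MvPolynomial.C_injective (Fin k) V)
  have hnil : ¬ IsNilpotent π' := fun ⟨j, hj⟩ => by
    rw [← map_pow, map_eq_zero_iff _ hinjV] at hj
    exact hπ.ne_zero (eq_zero_of_pow_eq_zero hj)
  obtain ⟨_, _⟩ := ArtinVanLib.exists_isDomain_dvr π' hmax hnil
  have hlocV : IsLocalHom (algebraMap V R') := ⟨fun x hx => by
    by_contra hu
    have hx0 : x ∈ maximalIdeal V := (mem_maximalIdeal _).2 hu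
    rw [hπ.maximalIdeal_eq, Ideal.mem_span_singleton] at hx0
    obtain ⟨c, rfl⟩ := hx0
    have : π' ∈ maximalIdeal R' := hmax.ge (Ideal.mem_span_singleton_self _)
    exact (mem_maximalIdeal _).1 this (isUnit_of_mul_isUnit_left ((map_mul (algebraMap V R') π c) ▸ hx))⟩
  refine ⟨R', inferInstance, inferInstance, inferInstance, inferInstance, ⟨inferInstance, inferInstance⟩, hlocV, hinjV, ?_,
    ⟨{ h with commutes' := fun x => ?_ }⟩, ?_⟩
  · -- the transcendence degree
    haveI : FaithfulSMul R0 R' := (faithfulSMul_iff_algebraMap_injective _ _).2 hinj0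
    haveI : FaithfulSMul V R0 := (faithfulSMul_iff_algebraMap_injective _ _).2 (MvPolynomial.C_injective (Fin k) V)
    haveI : Algebra.IsAlgebraic R0 R' := by
      obtain ⟨L, _, _, _⟩ : ∃ (L : Type u) (_ : Field L) (_ : Algebra R' L), IsFractionRing R' L :=
        ⟨FractionRing R', inferInstance, inferInstance, inferInstance⟩
      letI : Algebra R1 L := ((algebraMap R' L).comp (algebraMap R1 R')).toAlgebra
      haveI : IsScalarTower R1 R' L := .of_algebraMap_eq' rfl
      letI : Algebra R0 L := ((algebraMap R' L).comp (algebraMap R0 R')).toAlgebra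
      haveI : IsScalarTower R0 R' L := .of_algebraMap_eq' rfl
      obtain ⟨K1, _, _, _, _, _, _⟩ : ∃ (L : Type u) (_ : Field L) (_ : Algebra R1 L) (_ : Algebra R0 L),
          IsFractionRing R1 L ∧ IsFractionRing R0 L ∧ IsScalarTower R0 R1 L :=
        ⟨FractionRing R0, inferInstance, inferInstance, inferInstance, inferInstance, inferInstance, inferInstance⟩
      have hinjL : Function.Injective (algebraMap R1 L) := (IsFractionRing.injective R' L).comp hinj1
      letI : Algebra K1 L := (IsFractionRing.lift (K := K1) hinjL).toAlgebra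
      haveI : IsScalarTower R1 K1 L := .of_algebraMap_eq fun r => (IsFractionRing.lift_algebraMap hinjL r).symm
      haveI : IsScalarTower R0 K1 L := .of_algebraMap_eq fun r => by
        rw [IsScalarTower.algebraMap_apply R0 R1 K1, ← IsScalarTower.algebraMap_apply R1 K1 L,
          IsScalarTower.algebraMap_apply R1 R' L, IsScalarTower.algebraMap_apply R0 R' L,
          IsScalarTower.algebraMap_apply R0 R1 R']
      exact ⟨fun y => (isAlgebraic_algebraMap_iff (R := R0) (IsFractionRing.injective R' L)).1
        ((IsFractionRing.isAlgebraic_iff R0 K1 L).2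
          (CdFieldLib.isAlgebraic_of_strictHenselization (K := K1) (IsScalarTower.toAlgHom R1 R' L) y))⟩
    rw [← trdeg_add_eq V R0 (A := R'), trdeg_eq_zero (R := R0) (A := R'), add_zero, MvPolynomial.trdeg_of_isDomain]
    simp
  · show h (algebraMap R1 R' (algebraMap R0 R1 (MvPolynomial.C x))) = algebraMap V A x
    rw [show h (algebraMap R1 R' _) = b1 (algebraMap R0 R1 (MvPolynomial.C x)) from RingHom.congr_fun hh _, hb1]
    exact φ.commutes x
  -- no separable algebraic elements
  intro K' _ _ _ _ hcompat y hy
  letI : Algebra V K' := ((algebraMap R' K').comp (algebraMap V R')).toAlgebra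
  haveI : IsScalarTower V R' K' := .of_algebraMap_eq' rfl
  haveI : IsScalarTower V K K' := .of_algebraMap_eq fun x => (hcompat x).symm
  let L : IntermediateField K K' := IntermediateField.adjoin K {y}
  haveI : FiniteDimensional K L := IntermediateField.adjoin.finiteDimensional hy.isIntegral
  haveI : Algebra.IsSeparable K L := (IntermediateField.isSeparable_adjoin_simple_iff_isSeparable K K').2 hy
  let B := integralClosure V L
  haveI : Module.Finite V B := IsIntegralClosure.finite V K L B
  haveI : IsLocalRing B := NormalTensor.isLocalRing_of_finite_domain V B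
  haveI : IsDedekindDomain B := IsIntegralClosure.isDedekindDomain V K L B
  haveI : IsFractionRing B L := IsIntegralClosure.isFractionRing_of_finite_extension V K L B
  have hinjB : Function.Injective (algebraMap V B) := by
    refine Function.Injective.of_comp (f := algebraMap B L) ?_
    rw [← RingHom.coe_comp, ← IsScalarTower.algebraMap_eq V B L, IsScalarTower.algebraMap_eq V K L]
    exact (algebraMap K L).injective.comp (IsFractionRing.injective V K)
  haveI : FaithfulSMul V B := (faithfulSMul_iff_algebraMap_injective V B).2 hinjB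
  have hne : ¬ IsField B := fun hF => IsDiscreteValuationRing.not_isField V (isField_of_isIntegral_of_isField hinjB hF)
  haveI : IsDiscreteValuationRing B := ((IsDiscreteValuationRing.TFAE B hne).out 2 0).1 (inferInstance : IsDedekindDomain B)
  haveI : IsLocalHom (algebraMap V B) := RingHom.IsIntegral.isLocalHom (algebraMap_isIntegral_iff.2 inferInstance) hinjB
  -- the map into the trait
  have hmem : ∀ b : B, ∃ r : R', algebraMap R' K' r = ((b : L) : K') := fun b => by
    refine IsIntegrallyClosed.algebraMap_eq_of_integral ?_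
    exact ((b.2 : IsIntegral V (b : L)).map (L.val.restrictScalars V)).tower_top
  choose ι hι using hmem
  have hιinj := IsFractionRing.injective R' K'
  let ιh : B →+* R' :=
    { toFun := ι
      map_one' := hιinj (by rw [hι, map_one]; rfl)
      map_mul' := fun a b => hιinj (by rw [hι, map_mul, hι, hι]; rfl)
      map_zero' := hιinj (by rw [hι, map_zero]; rfl)
      map_add' := fun a b => hιinj (by rw [hι, map_add, hι, hι]; rfl) }
  have hιV : ∀ x, ιh (algebraMap V B x) = algebraMap V R' x := fun x => hιinj (by
    show algebraMap R' K' (ι (algebraMap V B x)) = _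
    rw [hι, ← IsScalarTower.algebraMap_apply V R' K', IsScalarTower.algebraMap_apply V K K']
    show ((algebraMap V L x : L) : K') = _
    rw [IsScalarTower.algebraMap_apply V K L]
    rfl)
  haveI : Algebra.IsIntegral V B := inferInstance
  haveI : IsLocalHom ιh := ⟨fun b hb => by
    by_contra hu
    obtain ⟨P, hP⟩ := IsDiscreteValuationRing.exists_irreducible B
    have hπB : algebraMap V B π ∈ maximalIdeal B := (mem_maximalIdeal _).2 fun hc => hπ.not_isUnit (IsLocalHom.map_nonunit π hc)
    obtain ⟨c, rfl⟩ : ∃ c, b = P * c := Ideal.mem_span_singleton.1 (hP.maximalIdeal_eq ▸ (mem_maximalIdeal _).2 hu)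
    rw [map_mul] at hb
    obtain ⟨i, w, hiw⟩ := IsDiscreteValuationRing.eq_unit_mul_pow_irreducible (R := B)
      (show algebraMap V B π ≠ 0 from fun h0 => hπ.ne_zero (hinjB (h0.trans (map_zero _).symm))) hP
    have h1 : IsUnit (ιh (algebraMap V B π)) := by
      rw [hiw, map_mul, map_pow]
      exact (w.isUnit.map ιh).mul ((isUnit_of_mul_isUnit_left hb).pow _)
    rw [hιV] at h1
    exact hπ.not_isUnit (hlocV.map_nonunit π h1)⟩
  -- unramified
  have hπmax : maximalIdeal B = Ideal.span {algebraMap V B π} := by
    obtain ⟨P, hP⟩ := IsDiscreteValuationRing.exists_irreducible B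
    obtain ⟨e, w, hew⟩ := IsDiscreteValuationRing.eq_unit_mul_pow_irreducible (R := B)
      (show algebraMap V B π ≠ 0 from fun h0 => hπ.ne_zero (hinjB (h0.trans (map_zero _).symm))) hP
    have hπ'irr : Irreducible π' := (IsDiscreteValuationRing.irreducible_iff_uniformizer _).2 hmax
    have hιP0 : ιh P ≠ 0 := fun h0 => hP.ne_zero (Subtype.ext (Subtype.ext (by
      have := congrArg (algebraMap R' K') h0
      rw [map_zero] at this
      exact (hι P).symm.trans this)))
    have hιPu : ¬ IsUnit (ιh P) := fun hu => hP.not_isUnit (IsLocalHom.map_nonunit P hu)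
    obtain ⟨j, w', hjw⟩ := IsDiscreteValuationRing.eq_unit_mul_pow_irreducible hιP0 hπ'irr
    have h2 : ((1 : R'ˣ) : R') * π' ^ 1 = ((Units.map (ιh : B →* R') w * w' ^ e : R'ˣ) : R') * π' ^ (j * e) := by
      rw [Units.val_one, one_mul, pow_one, Units.val_mul, Units.val_pow_eq_pow_val, pow_mul, mul_assoc, ← mul_pow,
        ← hjw]
      show π' = ιh (w : B) * ιh P ^ e
      rw [← map_pow, ← map_mul, ← hew, hιV]
    have h3 : 1 = j * e := IsDiscreteValuationRing.unit_mul_pow_congr_pow hπ'irr hπ'irr _ _ _ _ h2
    have he1 : e = 1 := Nat.eq_one_of_mul_eq_one_left h3.symm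
    rw [he1, pow_one] at hew
    rw [hew, Ideal.span_singleton_mul_left_unit w.isUnit, hP.maximalIdeal_eq]
  -- residue fields
  haveI : Algebra.IsAlgebraic (ResidueField V) (ResidueField B) := inferInstance
  let q := ringExpChar (ResidueField V)
  haveI : ExpChar (ResidueField V) q := inferInstance
  let θ : ResidueField B →+* ResidueField R' := ResidueField.map ιh
  let F := ResidueField R1
  haveI : ExpChar F q := expChar_of_injective_ringHom
    (f := (ResidueField.map (algebraMap V R') : ResidueField V →+* ResidueField R')) (RingHom.injective _) q |>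
    fun hq => (RingHom.expChar_iff (algebraMap F (ResidueField R')) (RingHom.injective _) q).2 hq
  have hres : ∀ b : B, ∃ x : V, b - algebraMap V B x ∈ maximalIdeal B := fun b => by
    obtain ⟨s, c, hc⟩ := IsPurelyInseparable.pow_mem (ResidueField V) q (residue B b)
    obtain ⟨c, rfl⟩ := residue_surjective c
    let a := residue R' (ιh b)
    have ha : a ^ q ^ s = algebraMap F (ResidueField R') (algebraMap (R0 ⧸ r0) F (eA (MvPolynomial.C (residue V c)))) := by
      have h1 : θ (residue B b ^ q ^ s) = θ (residue B (algebraMap V B c)) := congrArg θ hc.symm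
      rw [map_pow, ResidueField.map_residue, ResidueField.map_residue, hιV] at h1
      rw [h1, heA]
      show residue R' (algebraMap R1 R' (algebraMap R0 R1 (MvPolynomial.C c))) = _
      rfl
    have hsep : IsSeparable F a := Algebra.IsSeparable.isSeparable F a
    have hbot : a ∈ (⊥ : IntermediateField F (ResidueField R')) := by
      have h1 := IntermediateField.adjoin_simple_eq_adjoin_pow_expChar_pow_of_isSeparable F (ResidueField R') hsep q s
      have h2 : IntermediateField.adjoin F {a ^ q ^ s} = ⊥ := IntermediateField.adjoin_simple_eq_bot_iff.2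
        (ha ▸ (IntermediateField.mem_bot.2 ⟨_, rfl⟩))
      rw [h2] at h1
      exact h1 ▸ IntermediateField.mem_adjoin_simple_self F a
    obtain ⟨α, hα⟩ := IntermediateField.mem_bot.1 hbot
    haveI : IsFractionRing (R0 ⧸ r0) F := inferInstanceAs (IsFractionRing (R0 ⧸ r0) r0.ResidueField)
    obtain ⟨d, hd⟩ := exists_C_of_pow q eA α s (residue V c) ((algebraMap F (ResidueField R')).injective (by
      rw [map_pow, hα, ha]))
    obtain ⟨x, rfl⟩ := residue_surjective d
    refine ⟨x, (mem_maximalIdeal _).2 fun hu => ?_⟩
    have h3 := hu.map ιh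
    refine (residue_ne_zero_iff_isUnit _).2 h3 ?_
    rw [map_sub, map_sub, sub_eq_zero, hιV]
    show a = _
    rw [← hα, hd, heA]
    rfl
  have htop : (⊤ : Submodule V B) ≤ LinearMap.range (Algebra.linearMap V B) := by
    refine Submodule.le_of_le_smul_of_le_jacobson_bot (I := maximalIdeal V) Module.Finite.fg_top
      (maximalIdeal_le_jacobson _) fun b _ => ?_
    obtain ⟨x, hx⟩ := hres b
    rw [hπmax, Ideal.mem_span_singleton] at hx
    obtain ⟨c, hc⟩ := hx
    refine Submodule.mem_sup.2 ⟨algebraMap V B x, ⟨x, rfl⟩, π • c, ?_, ?_⟩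
    · exact Submodule.smul_mem_smul (hπ.maximalIdeal_eq ▸ Ideal.mem_span_singleton_self π) Submodule.mem_top
    · rw [Algebra.smul_def, ← hc, add_sub_cancel]
  obtain ⟨b₁, b₂, -, hyb⟩ := IsFractionRing.div_surjective (A := B) (⟨y, IntermediateField.mem_adjoin_simple_self K y⟩ : L)
  obtain ⟨x₁, rfl⟩ := htop (Submodule.mem_top (x := b₁))
  obtain ⟨x₂, rfl⟩ := htop (Submodule.mem_top (x := b₂))
  refine ⟨algebraMap V K x₁ / algebraMap V K x₂, ?_⟩
  have h1 := congrArg (fun z : L => (z : K')) hyb
  simp only at h1
  refine Eq.trans ?_ h1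
  show _ = ((algebraMap B L (algebraMap V B x₁) / algebraMap B L (algebraMap V B x₂) : L) : K')
  rw [← IsScalarTower.algebraMap_apply V B L, ← IsScalarTower.algebraMap_apply V B L,
    IsScalarTower.algebraMap_apply V K L, IsScalarTower.algebraMap_apply V K L, ← map_div₀ (algebraMap K L)]
  rfl

end Groth.Agent.CdTameLib
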