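import Groth.Agent.CdTameLib.TameField
import Groth.Agent.CdTameLib.TameGen
import Groth.Agent.ArtinVanLib.Basic
import Groth.Agent.ArtinVanLib.LocalBase
import Groth.Agent.ArtinVanLib.StrictLoc

/-!
# Dimension bookkeeping for tame nearby cycles
-/

set_option autoImplicit false
set_option backward.isDefEq.respectTransparency false
set_option backward.isDefEq.respectTransparency.types false
set_option linter.style.haveILetI false
set_option maxHeartbeats 1000000
set_option synthInstance.maxHeartbeats 200000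

universe u

open CategoryTheory CategoryTheory.Limits AlgebraicGeometry Opposite CategoryTheory.Abelian IsLocalRing
open scoped TensorProduct

noncomputable section

namespace Groth.Agent.CdTameLib

open EtTraceLib CdFieldLib

attribute [local instance] Groth.Agent.S0101.result

/-- The primes of a set separately. -/
theorem cdLE_of_forall_cdP {L : Set ℕ} {n : ℕ} {K : Type u} [Field K] (h : ∀ p : ℕ, p.Prime → p ∈ L → CdP p n K) :
    CdLE L (Spec (CommRingCat.of K)) n := by
  intro F hF q hq
  refine subsingleton_of_forall_eq 0 fun x => ?_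
  obtain ⟨r, rfl⟩ : ∃ r, q = r + 1 := ⟨q - 1, by omega⟩
  obtain ⟨N, hN, hN0⟩ := isOfFinAddOrder_iff_nsmul_eq_zero.1 (isOfFinAddOrder K F r x)
  induction N using Nat.strong_induction_on generalizing x with
  | _ N ih =>
    by_cases hex : ∃ p, p.Prime ∧ p ∈ L ∧ p ∣ N
    · obtain ⟨p, hp, hpL, hpN⟩ := hex
      haveI := Fact.mk hp
      obtain ⟨a, b, hb, rfl⟩ := Nat.exists_eq_pow_mul_and_not_dvd hN.ne' p hp.ne_one
      have hb0 : 0 < b := Nat.pos_of_mul_pos_left hN
      have ha : a ≠ 0 := fun ha => hb (by rwa [ha, pow_zero, one_mul] at hpN)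
      refine ih b (lt_mul_of_one_lt_left hb0 (Nat.one_lt_pow ha hp.one_lt)) x hb0
        (h p hp hpL _ hq F (RpushTorsLib.isTorsion_of_isLTorsion hF) (b • x) ⟨a, ?_⟩)
      rw [smul_smul, hN0]
    · push Not at hex
      exact eq_zero_of_nsmul_eq_zero (isIso_nsmul_id (d := N) hex hF) x hN0

/-- Artin vanishing relative to a field, for a set of primes. -/
theorem art_field {n : ℕ} (h : ArtinVanLib.Art.{u} n) {L : Set ℕ} {K : Type u} [Field K] {X : Scheme.{u}} [IsAffine X]
    (f : X ⟶ Spec (CommRingCat.of K)) [LocallyOfFiniteType f] (hdim : topologicalKrullDim X ≤ n) {e : ℕ}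
    (hK : CdLE L (Spec (CommRingCat.of K)) e) : CdLE L X (n + e) := by
  refine cdLE_of_leray f (fun F hF q hq => ?_) hK
  obtain ⟨R, _, _, _, _, hR⟩ := exists_sepClosed_stalk K
  let g := Spec.map (CommRingCat.ofHom (algebraMap K R))
  haveI : IsIntegralHom g := IsIntegralHom.SpecMap_iff.2
    ((algebraMap_isIntegral_iff (R := K) (A := R)).2 inferInstance)
  haveI : IsIntegralHom (pullback.fst f g) := inferInstance
  haveI : IsAffine (pullback f g) := isAffine_of_isAffineHom (pullback.fst f g)
  exact hR X f F q (h R (pullback f g) (pullback.snd f g)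
    ((DimLiftLib.le_of_isIntegralHom (pullback.fst f g)).trans hdim) _
    (RpushTorsLib.isLTorsion_univ (RpushTorsLib.isTorsion_of_isLTorsion (AcycCompLib.isLTorsion_pull (pullback.fst f g) hF))) q hq)

/-- An algebra of dimension `n` has cohomological dimension `n` more than the field. -/
theorem cdLE_of_dimLE {n : ℕ} (h : ArtinVanLib.Art.{u} n) {L : Set ℕ} {k R : Type u} [Field k] [CommRing R] [Algebra k R]
    (hR : ArtinVanLib.DimLE k R n) {e : ℕ} (hk : CdLE L (Spec (CommRingCat.of k)) e) :
    CdLE L (Spec (CommRingCat.of R)) (n + e) := by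
  let D : (ArtinVanLib.KIdx k R)ᵒᵖ ⥤ Scheme.{u} := (ArtinVanLib.kRing k R).op ⋙ Scheme.Spec
  let c : Cone D := Scheme.Spec.mapCone (ArtinVanLib.kCocone k R).op
  have hc : IsLimit c := isLimitOfPreserves Scheme.Spec (ArtinVanLib.isColimitKCocone k R).op
  haveI : ∀ {i j : (ArtinVanLib.KIdx k R)ᵒᵖ} (a : i ⟶ j), IsAffineHom (D.map a) := fun a =>
    inferInstanceAs (IsAffineHom (Spec.map _))
  haveI : ∀ i, IsAffine (D.obj i) := fun i => inferInstanceAs (IsAffine (Spec (CommRingCat.of i.unop.1)))
  refine cdLE_limit D c hc (n + e) fun i => ?_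
  haveI : Algebra.FiniteType k i.unop.1 := (Subalgebra.fg_iff_finiteType i.unop.1).1 i.unop.2
  let f : Spec (CommRingCat.of i.unop.1) ⟶ Spec (CommRingCat.of k) :=
    Spec.map (CommRingCat.ofHom (algebraMap k i.unop.1))
  haveI : LocallyOfFiniteType f := (HasRingHomProperty.Spec_iff (P := @LocallyOfFiniteType)).2
    (RingHom.finiteType_algebraMap.2 inferInstance)
  exact art_field h f ((PrimeSpectrum.topologicalKrullDim_eq_ringKrullDim _).trans_le (hR.ringKrullDim_le i.unop.1)) hk

/-- Independent residues at a point of the special fibre. -/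
theorem exists_independent_residues {V C : Type u} [CommRing V] [IsDomain V] [IsDiscreteValuationRing V]
    [CommRing C] [Algebra V C] [Algebra.FiniteType V C] {X : Scheme.{u}}
    (f : X ⟶ Spec (CommRingCat.of V)) [LocallyOfFiniteType f] [QuasiCompact f] (jC : Spec (CommRingCat.of C) ⟶ X)
    [IsOpenImmersion jC] (hw : Spec.map (CommRingCat.ofHom (algebraMap V C)) = jC ≫ f)
    (c : PrimeSpectrum C) (hx : f (jC c) = closedPoint V) {k : ℕ}
    (hk : (k : WithBot ℕ∞) ≤ topologicalKrullDim ↥(closure ({jC c} : Set X))) :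
    ∃ v : Fin k → C, ∀ p : MvPolynomial (Fin k) V, MvPolynomial.aeval v p ∈ c.asIdeal →
      p ∈ (maximalIdeal V).map (MvPolynomial.C : V →+* MvPolynomial (Fin k) V) := by
  classical
  let cx : DimFormulaLib.Chart f (jC c) := ⟨V, C, 𝟙 _, jC, by rw [Category.comp_id, hw], c, rfl⟩
  let D := V ⧸ (PrimeSpectrum.comap (algebraMap V C) c).asIdeal
  let B := C ⧸ c.asIdeal
  haveI : c.asIdeal.LiesOver (PrimeSpectrum.comap (algebraMap V C) c).asIdeal := ⟨rfl⟩
  haveI : Algebra.FiniteType D B := Algebra.FiniteType.of_restrictScalars_finiteType V _ _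
  have hinj : Function.Injective (algebraMap D B) := Ideal.algebraMap_quotient_injective
  haveI : FaithfulSMul D B := (faithfulSMul_iff_algebraMap_injective _ _).2 hinj
  obtain ⟨m, φ, hφ⟩ := Algebra.FiniteType.iff_quotient_mvPolynomial''.1 (inferInstance : Algebra.FiniteType D B)
  obtain ⟨b, hb⟩ : ∃ b : ℕ, Algebra.trdeg D B = b := Cardinal.lt_aleph0.1 <| lt_of_le_of_lt
    ((trdeg_le_of_surjective φ hφ).trans_eq (by rw [MvPolynomial.trdeg_of_isDomain, Cardinal.mk_fin, Cardinal.lift_natCast]))
    (Cardinal.natCast_lt_aleph0 (n := m))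
  -- the height
  have hbres : letI := (f.residueFieldMap (jC c)).hom.toAlgebra;
      Algebra.trdeg ((Spec (CommRingCat.of V)).residueField (f (jC c))) (X.residueField (jC c)) = (b : ℕ) :=
    cx.trdeg_residue.trans hb
  have ha : ringKrullDim (V ⧸ (f (jC c)).asIdeal) = (0 : ℕ) := by
    rw [hx, Nat.cast_zero]
    exact ringKrullDim_eq_zero_of_isField ((Ideal.Quotient.maximal_ideal_iff_isField_quotient _).1 (maximalIdeal.isMaximal V))
  haveI : CompactSpace X := QuasiCompact.compactSpace_of_compactSpace f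
  have hh : Order.height (jC c) ≤ (b : ℕ∞) := Order.height_le fun s hs => by
    obtain ⟨w, hw', hwc⟩ := IsClosed.exists_closed_singleton (isClosed_closure (s := ({s.head} : Set X)))
      ⟨s.head, subset_closure rfl⟩
    have hle : w ≤ s.head := Scheme.le_iff_specializes.2 (specializes_iff_mem_closure.2 hw')
    have hxw : (jC c) ⤳ w := Scheme.le_iff_specializes.1 (hle.trans ((s.head_le 0).trans (hs ▸ s.monotone (Fin.le_last 0))))
    obtain ⟨n, hn, -, -, hs'⟩ := ArtinVanLib.exists_relHeight_closedPoint f (isUniversallyCatenary_dvr V) (jC c) w hxw hwc 0 b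
      ha hbres
    have hfw : f w = closedPoint V := by
      have h1 : f (jC c) ⤳ f w := hxw.map f.continuous
      rw [hx] at h1
      have h2 := specializes_iff_mem_closure.1 h1
      erw [((PrimeSpectrum.isClosed_singleton_iff_isMaximal (closedPoint V)).2 (maximalIdeal.isMaximal V)).closure_eq] at h2
      exact h2
    have := hs' s hs hle
    rw [hn hfw, zero_add] at this
    exact_mod_cast this
  rw [DimFormulaLib.topologicalKrullDim_closure_singleton] at hk
  have hkb : k ≤ b := by
    have h1 : (k : WithBot ℕ∞) ≤ ((b : ℕ∞) : WithBot ℕ∞) := hk.trans (WithBot.coe_le_coe.2 hh)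
    exact_mod_cast h1
  obtain ⟨s, hs⟩ := exists_isTranscendenceBasis D B
  have hcard : Cardinal.mk s = (b : ℕ) := by
    rw [← hb]
    exact hs.cardinalMk_eq_trdeg
  obtain ⟨e⟩ : Nonempty (Fin k ↪ s) := by
    refine Cardinal.lift_mk_le'.1 ?_
    rw [hcard, Cardinal.mk_fin, Cardinal.lift_natCast, Cardinal.lift_natCast]
    exact_mod_cast hkb
  choose v hv using fun i => Ideal.Quotient.mk_surjective (I := c.asIdeal) ((e i : s) : B)
  refine ⟨v, fun p hp => ?_⟩
  have h1 : MvPolynomial.aeval (fun i => ((e i : s) : B)) (MvPolynomial.map (algebraMap V D) p) = 0 := by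
    rw [MvPolynomial.aeval_map_algebraMap, show (fun i => ((e i : s) : B)) = fun i => Ideal.Quotient.mkₐ V c.asIdeal (v i)
      from funext fun i => (hv i).symm, ← MvPolynomial.comp_aeval_apply]
    exact Ideal.Quotient.eq_zero_iff_mem.2 hp
  have h2 := (hs.1.comp (fun i => e i) e.injective).eq_zero_of_aeval_eq_zero _ h1
  rw [← RingHom.mem_ker, MvPolynomial.ker_map] at h2
  refine Ideal.map_mono ?_ h2
  show RingHom.ker (Ideal.Quotient.mk _) ≤ _
  rw [Ideal.mk_ker]
  exact le_maximalIdeal (PrimeSpectrum.comap (algebraMap V C) c).2.ne_top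

/-- The compositum of a separable closure and an extension without separable algebraic elements. -/
theorem exists_tame_field {K K' Ω A : Type u} [Field K] [Field K'] [Field Ω] [Algebra K K'] [Algebra K Ω]
    [Algebra.IsSeparable K Ω] (hK : ∀ y : K', IsSeparable K y → y ∈ Set.range (algebraMap K K'))
    [CommRing A] [Algebra Ω A] (l : K' →+* A) (hl : ∀ x, l (algebraMap K K' x) = algebraMap Ω A (algebraMap K Ω x)) :
    ∃ (D : Type u) (_ : Field D) (_ : Algebra Ω D) (_ : Algebra K' D), Algebra.IsSeparable K' D ∧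
      (∀ x, algebraMap K' D (algebraMap K K' x) = algebraMap Ω D (algebraMap K Ω x)) ∧ Nonempty (D →ₐ[Ω] A) := by
  letI : Algebra K A := ((algebraMap Ω A).comp (algebraMap K Ω)).toAlgebra
  haveI : IsScalarTower K Ω A := .of_algebraMap_eq' rfl
  let lA : K' →ₐ[K] A := { l with commutes' := hl }
  let ν : Ω ⊗[K] K' →ₐ[Ω] A := Algebra.TensorProduct.lift (Algebra.ofId Ω A) lA fun _ _ => Commute.all _ _
  letI : Field (Ω ⊗[K] K') := (isField_tensor_sepClosure K K' Ω hK).toField
  let iR : K' →ₐ[K] Ω ⊗[K] K' := Algebra.TensorProduct.includeRight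
  letI : Algebra K' (Ω ⊗[K] K') := iR.toRingHom.toAlgebra
  haveI : IsScalarTower K K' (Ω ⊗[K] K') := .of_algebraMap_eq fun x => (iR.commutes x).symm
  refine ⟨Ω ⊗[K] K', inferInstance, inferInstance, inferInstance, ⟨fun z => ?_⟩, fun x => ?_, ⟨ν⟩⟩
  · refine mem_separableClosure_iff.1 ?_
    induction z using TensorProduct.induction_on with
    | zero => exact zero_mem _
    | tmul a b =>
      have h1 : a ⊗ₜ[K] b = (Algebra.TensorProduct.includeLeft : Ω →ₐ[K] Ω ⊗[K] K') a * algebraMap K' _ b := by
        show _ = (a ⊗ₜ[K] (1 : K')) * ((1 : Ω) ⊗ₜ[K] b)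
        rw [Algebra.TensorProduct.tmul_mul_tmul, mul_one, one_mul]
      rw [h1]
      refine mul_mem (mem_separableClosure_iff.2 ?_) (IntermediateField.algebraMap_mem _ b)
      exact IsSeparable.tower_top K' (IsSeparable.map (Algebra.TensorProduct.includeLeft : Ω →ₐ[K] Ω ⊗[K] K')
        (RingHom.injective (Algebra.TensorProduct.includeLeft : Ω →ₐ[K] Ω ⊗[K] K').toRingHom)
        (Algebra.IsSeparable.isSeparable K a))
    | add a b ha hb => exact add_mem ha hb
  · exact (iR.commutes x).trans (IsScalarTower.algebraMap_apply K Ω (Ω ⊗[K] K') x)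

end Groth.Agent.CdTameLib
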