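import Groth.Agent.CdTameLib.EulerField
import Groth.Agent.CdTameLib.StrictLocal
import Mathlib.FieldTheory.PrimitiveElement
import Mathlib.FieldTheory.LinearDisjoint
import Mathlib.FieldTheory.IsAlgClosed.AlgebraicClosure

/-!
# Fields of fractions of traits over a separably closed field
-/

set_option autoImplicit false
set_option backward.isDefEq.respectTransparency false
set_option backward.isDefEq.respectTransparency.types false
set_option linter.style.haveILetI false
set_option maxHeartbeats 1000000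
set_option synthInstance.maxHeartbeats 200000

universe u

open CategoryTheory CategoryTheory.Limits AlgebraicGeometry CategoryTheory.Abelian IsLocalRing Polynomial
open scoped TensorProduct IntermediateField

noncomputable section

namespace Groth.Agent.CdTameLib

open EtTraceLib EtPtsLib

/-- Polynomials irreducible over `K` stay so over `K'` when `K` is separably closed in `K'`. -/
theorem natDegree_minpoly_eq {K K' E : Type u} [Field K] [Field K'] [Field E] [Algebra K K'] [Algebra K E] [Algebra K' E]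
    [IsScalarTower K K' E] [IsAlgClosed E] (hK : ∀ y : K', IsSeparable K y → y ∈ Set.range (algebraMap K K'))
    {α : E} (hα : IsSeparable K α) : (minpoly K' α).natDegree = (minpoly K α).natDegree := by
  have hi := hα.isIntegral
  let q := minpoly K' α
  have hq : q.Monic := minpoly.monic hi.tower_top
  let S := separableClosure K E
  have hmem : q.map (algebraMap K' E) ∈ Polynomial.lifts (algebraMap S E) := by
    rw [(IsAlgClosed.splits (q.map (algebraMap K' E))).eq_prod_roots_of_monic (hq.map _)]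
    refine Subsemiring.multiset_prod_mem _ _ fun g hg => ?_
    obtain ⟨r, hr, rfl⟩ := Multiset.mem_map.1 hg
    have h1 : aeval r q = 0 := by
      rw [aeval_def, ← Polynomial.eval_map]
      exact (Polynomial.mem_roots'.1 hr).2
    have h2 : aeval r (minpoly K α) = 0 := by
      obtain ⟨c, hc⟩ := minpoly.dvd_map_of_isScalarTower K K' α
      rw [← aeval_map_algebraMap K', hc, map_mul, h1, zero_mul]
    have hr' : r ∈ S := mem_separableClosure_iff.2 (hα.of_dvd (minpoly.dvd K r h2))
    exact (Polynomial.mem_lifts _).2 ⟨X - C ⟨r, hr'⟩, by simp⟩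
  have hq0 : q ∈ Polynomial.lifts (algebraMap K K') := (Polynomial.lifts_iff_coeff_lifts _).2 fun i => by
    obtain ⟨s, hs⟩ := (Polynomial.lifts_iff_coeff_lifts _).1 hmem i
    refine hK _ (IsSeparable.tower_bot (E := E) ?_)
    rw [← coeff_map, ← hs]
    exact mem_separableClosure_iff.1 s.2
  obtain ⟨q0, hq0e, hdeg, hmon⟩ := Polynomial.lifts_and_natDegree_eq_and_monic hq0 hq
  refine le_antisymm ?_ ?_
  · refine (Polynomial.natDegree_le_natDegree (minpoly.min K' α ((minpoly.monic hi).map (algebraMap K K')) ?_)).trans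
      (Polynomial.natDegree_map _).le
    rw [aeval_map_algebraMap, minpoly.aeval]
  · rw [show (minpoly K' α).natDegree = q0.natDegree from hdeg.symm]
    refine Polynomial.natDegree_le_natDegree (minpoly.min K α hmon ?_)
    rw [← aeval_map_algebraMap K', hq0e]
    exact minpoly.aeval K' α

/-- A separable closure tensored with an extension without separable algebraic elements is a field. -/
theorem isField_tensor_sepClosure (K K' Ω : Type u) [Field K] [Field K'] [Field Ω] [Algebra K K'] [Algebra K Ω]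
    [Algebra.IsSeparable K Ω] (hK : ∀ y : K', IsSeparable K y → y ∈ Set.range (algebraMap K K')) :
    IsField (Ω ⊗[K] K') := by
  classical
  let E := AlgebraicClosure K'
  let σ : Ω →ₐ[K] E := IsAlgClosed.lift
  let ψ : Ω ⊗[K] K' →ₐ[K] E := Algebra.TensorProduct.lift σ (IsScalarTower.toAlgHom K K' E) fun _ _ => Commute.all _ _
  have hψ : Function.Injective ψ := by
    refine (injective_iff_map_eq_zero ψ).2 fun z hz => ?_
    obtain ⟨S, rfl⟩ := TensorProduct.exists_finset z
    let L := IntermediateField.adjoin K (Prod.fst '' (S : Set (Ω × K')))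
    haveI := (S.finite_toSet.image (Prod.fst (α := Ω) (β := K'))).to_subtype
    haveI : FiniteDimensional K L :=
      IntermediateField.finiteDimensional_adjoin fun c _ => Algebra.IsIntegral.isIntegral c
    let pb := Field.powerBasisOfFiniteOfSeparable K L
    obtain ⟨w, hw⟩ : ∃ w : L ⊗[K] K', Algebra.TensorProduct.map L.val (AlgHom.id K K') w = ∑ i ∈ S, i.1 ⊗ₜ[K] i.2 := by
      refine ⟨∑ i ∈ S.attach, (⟨i.1.1, IntermediateField.subset_adjoin K _ ⟨i.1, i.2, rfl⟩⟩ : L) ⊗ₜ[K] i.1.2, ?_⟩
      rw [map_sum, ← Finset.sum_attach S fun i => i.1 ⊗ₜ[K] i.2]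
      exact Finset.sum_congr rfl fun i _ => Algebra.TensorProduct.map_tmul _ _ _ _
    rw [← hw] at hz ⊢
    obtain ⟨c, rfl⟩ := TensorProduct.eq_repr_basis_left pb.basis w
    let α : E := σ (pb.gen : Ω)
    have hdeg : (minpoly K' α).natDegree = pb.dim := by
      rw [natDegree_minpoly_eq hK (α := α), show minpoly K α = minpoly K pb.gen from
        minpoly.algHom_eq (σ.comp L.val) (σ.comp L.val).toRingHom.injective pb.gen, pb.natDegree_minpoly]
      exact IsSeparable.map σ σ.toRingHom.injective (Algebra.IsSeparable.isSeparable K (pb.gen : Ω))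
    have hli : LinearIndependent K' fun i : Fin pb.dim => α ^ (i : ℕ) :=
      (linearIndependent_pow α).comp (Fin.cast hdeg.symm) (Fin.cast_injective _)
    have h0 : ∀ i, c i = 0 := by
      have h1 : ∑ i, c i • α ^ (i : ℕ) = 0 := by
        refine Eq.trans ?_ hz
        rw [Finsupp.sum_fintype _ _ fun i => by simp, map_sum, map_sum]
        refine Finset.sum_congr rfl fun i _ => ?_
        rw [Algebra.TensorProduct.map_tmul, Algebra.TensorProduct.lift_tmul, Algebra.smul_def, pb.basis_eq_pow,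
          mul_comm]
        simp [α]
      exact fun i => Fintype.linearIndependent_iff.1 hli _ h1 i
    rw [show c = 0 from Finsupp.ext h0, Finsupp.sum_zero_index, map_zero]
  haveI : IsDomain (Ω ⊗[K] K') := hψ.isDomain
  exact Algebra.TensorProduct.isField_of_isAlgebraic K Ω K' (Or.inl inferInstance)

/-- The integral closure, with the compatibility. -/
theorem exists_dvr_extension' (R K E : Type u) [CommRing R] [IsDomain R] [IsDiscreteValuationRing R]
    (hR : EtCoh.IsStrictlyHenselianLocalRing R) [Field K] [Algebra R K] [IsFractionRing R K] [Field E] [Algebra K E]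
    [FiniteDimensional K E] [Algebra.IsSeparable K E] :
    ∃ (B : Type u) (_ : CommRing B) (_ : IsDomain B) (_ : IsDiscreteValuationRing B) (_ : Algebra B E)
      (_ : IsFractionRing B E) (f : R →+* B), EtCoh.IsStrictlyHenselianLocalRing B ∧
        IsLocalHom f ∧ ∀ x, algebraMap B E (f x) = algebraMap K E (algebraMap R K x) := by
  letI : Algebra R E := ((algebraMap K E).comp (algebraMap R K)).toAlgebra
  haveI : IsScalarTower R K E := IsScalarTower.of_algebraMap_eq fun _ => rfl
  obtain ⟨_, _⟩ := hR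
  let B := integralClosure R E
  haveI : Module.Finite R B := IsIntegralClosure.finite R K E B
  haveI : IsLocalRing B := NormalTensor.isLocalRing_of_finite_domain R B
  haveI : IsDedekindDomain B := IsIntegralClosure.isDedekindDomain R K E B
  haveI : IsFractionRing B E := IsIntegralClosure.isFractionRing_of_finite_extension R K E B
  have hinj : Function.Injective (algebraMap R B) := by
    refine Function.Injective.of_comp (f := algebraMap B E) ?_
    rw [← RingHom.coe_comp, ← IsScalarTower.algebraMap_eq R B E, IsScalarTower.algebraMap_eq R K E]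
    exact (algebraMap K E).injective.comp (IsFractionRing.injective R K)
  have hne : ¬ IsField B := fun h => by
    haveI : FaithfulSMul R B := (faithfulSMul_iff_algebraMap_injective R B).2 hinj
    exact IsDiscreteValuationRing.not_isField R (isField_of_isIntegral_of_isField hinj h)
  haveI : IsDiscreteValuationRing B := ((IsDiscreteValuationRing.TFAE B hne).out 2 0).1 (inferInstance : IsDedekindDomain B)
  exact ⟨B, inferInstance, inferInstance, inferInstance, inferInstance, inferInstance, algebraMap R B,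
    WLocalLib.isStrictlyHenselian_of_finite R ⟨inferInstance, inferInstance⟩ B,
    RingHom.IsIntegral.isLocalHom (algebraMap_isIntegral_iff.2 inferInstance) hinj,
    fun x => (IsScalarTower.algebraMap_apply R B E x).symm⟩

variable {p : ℕ} [hp : Fact p.Prime]

theorem exists_pow_pow_eq_unit {B : Type u} [CommRing B] (hB : ∃ _ : IsLocalRing B, EtCoh.IsStrictlyHenselianLocalRing B)
    (hu : IsUnit (p : B)) : ∀ (N : ℕ) (u : Bˣ), ∃ w : Bˣ, w ^ p ^ N = u
  | 0, u => ⟨u, by rw [pow_zero, pow_one]⟩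
  | N + 1, u => by
    obtain ⟨w, hw⟩ := exists_pow_eq_unit hB hu u
    obtain ⟨w', hw'⟩ := exists_pow_pow_eq_unit hB hu N w
    exact ⟨w', by rw [pow_succ, pow_mul, hw', hw]⟩

theorem exists_root_pow {Ω : Type u} [Field Ω] [IsSepClosed Ω] (hp0 : (p : Ω) ≠ 0) (c : Ω) (N : ℕ) :
    ∃ r, r ^ p ^ N = c := by
  haveI : NeZero ((p ^ N : ℕ) : Ω) := ⟨by rw [Nat.cast_pow]; exact pow_ne_zero _ hp0⟩
  exact IsSepClosed.exists_pow_nat_eq c _

/-- In an algebraic separable extension with the roots of the uniformizer every element is a `p`-th power. -/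
theorem exists_pow_eq_tame (R' K' E' Ω : Type u) [CommRing R'] [IsDomain R'] [IsDiscreteValuationRing R']
    (hR : EtCoh.IsStrictlyHenselianLocalRing R') (hu : IsUnit (p : R')) [Field K'] [Algebra R' K'] [IsFractionRing R' K']
    [Field E'] [Algebra K' E'] [Algebra.IsSeparable K' E'] [Field Ω] [IsSepClosed Ω] (g : Ω →+* E')
    (π : R') (hπ0 : π ≠ 0) (hπu : ¬ IsUnit π) (c : Ω) (hc : g c = algebraMap K' E' (algebraMap R' K' π)) (a : E') :
    ∃ r : E', r ^ p = a := by
  rcases eq_or_ne a 0 with rfl | ha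
  · exact ⟨0, zero_pow hp.out.ne_zero⟩
  have hinjK : Function.Injective (algebraMap R' K') := IsFractionRing.injective R' K'
  have hp0 : (p : Ω) ≠ 0 := fun h => by
    refine (hu.map ((algebraMap K' E').comp (algebraMap R' K'))).ne_zero ?_
    rw [map_natCast, ← map_natCast g, h, map_zero]
  let F := IntermediateField.adjoin K' {a}
  haveI : FiniteDimensional K' F :=
    IntermediateField.adjoin.finiteDimensional (Algebra.IsIntegral.isIntegral a)
  haveI : Algebra.IsSeparable K' F := Algebra.isSeparable_tower_bot_of_isSeparable K' F E'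
  obtain ⟨B, _, _, _, _, _, f, hB, hfl, hf⟩ := exists_dvr_extension' R' K' F hR
  have huB : IsUnit (p : B) := by simpa using hu.map f
  let j : B →+* E' := (algebraMap F E').comp (algebraMap B F)
  have hj : Function.Injective j := (algebraMap F E').injective.comp (IsFractionRing.injective B F)
  have hjf : ∀ x, j (f x) = algebraMap K' E' (algebraMap R' K' x) := fun x => by
    show algebraMap F E' (algebraMap B F (f x)) = _
    rw [hf]
    rfl
  obtain ⟨P, hP⟩ := IsDiscreteValuationRing.exists_irreducible B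
  have hfπ : f π ≠ 0 := fun h => hπ0 (hinjK ((algebraMap K' E').injective (by
    rw [← hjf, h, map_zero, map_zero, map_zero])))
  obtain ⟨e, v, hev⟩ := IsDiscreteValuationRing.eq_unit_mul_pow_irreducible hfπ hP
  have he : e ≠ 0 := fun he => hπu (hfl.map_nonunit π (by rw [hev, he, pow_zero, mul_one]; exact v.isUnit))
  obtain ⟨b, e', he', rfl⟩ := Nat.exists_eq_pow_mul_and_not_dvd he p hp.out.ne_one
  -- the prime-to-`p` power of the uniformizer
  obtain ⟨ρ, hρ⟩ := exists_root_pow hp0 c (b + 1)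
  obtain ⟨w, hw⟩ := exists_pow_pow_eq_unit ⟨inferInstance, hB⟩ huB (b + 1) v⁻¹
  let r₁ : E' := g ρ * j (w : B)
  have hr₁ : (r₁ ^ p) ^ p ^ b = (j P ^ e') ^ p ^ b := by
    rw [← pow_mul, ← pow_succ', ← pow_mul, mul_comm e', mul_pow, ← map_pow, hρ, hc, ← hjf, hev, ← map_pow, ← map_pow,
      ← map_mul]
    congr 1
    rw [← Units.val_pow_eq_pow_val, hw, mul_comm, ← mul_assoc, ← Units.val_mul, inv_mul_cancel, Units.val_one, one_mul]
  have hPE : j P ≠ 0 := (map_ne_zero_iff j hj).2 hP.ne_zero
  obtain ⟨r₂, hr₂⟩ : ∃ r₂ : E', r₂ ^ p = j P ^ e' := by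
    have hr0 : r₁ ^ p ≠ 0 := fun h => by
      rw [h, zero_pow (pow_ne_zero _ hp.out.ne_zero)] at hr₁
      exact pow_ne_zero _ (pow_ne_zero _ hPE) hr₁.symm
    let ζ := j P ^ e' / r₁ ^ p
    have hζ : ζ ^ p ^ b = 1 := by
      rw [div_pow, hr₁, div_self (pow_ne_zero _ (pow_ne_zero _ hPE))]
    haveI : NeZero ((p ^ b : ℕ) : Ω) := ⟨by rw [Nat.cast_pow]; exact pow_ne_zero _ hp0⟩
    haveI : NeZero (p ^ b) := ⟨pow_ne_zero _ hp.out.ne_zero⟩
    obtain ⟨z, hz⟩ : ∃ z, IsPrimitiveRoot z (p ^ b) := by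
      have hcyc : (cyclotomic (p ^ b) Ω).degree ≠ 0 := by
        rw [degree_cyclotomic]
        exact_mod_cast (Nat.totient_pos.2 (pow_pos hp.out.pos b)).ne'
      obtain ⟨z, hz⟩ := IsSepClosed.exists_root _ hcyc (separable_cyclotomic _ Ω)
      exact ⟨z, isRoot_cyclotomic_iff.1 hz⟩
    obtain ⟨i, -, hi⟩ := (hz.map_of_injective g.injective).eq_pow_of_pow_eq_one hζ
    obtain ⟨z₁, hz₁⟩ := exists_root_pow hp0 z 1
    rw [pow_one] at hz₁
    refine ⟨g (z₁ ^ i) * r₁, ?_⟩
    rw [mul_pow, ← map_pow, ← pow_mul, mul_comm i, pow_mul, hz₁, map_pow, hi, div_mul_cancel₀ _ hr0]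
  -- the uniformizer
  obtain ⟨r₃, hr₃⟩ : ∃ r₃ : E', r₃ ^ p = j P := by
    obtain ⟨s, t, hst⟩ := (Nat.prime_iff_prime_int.1 hp.out).coprime_iff_not_dvd.2
      (fun h => he' (Int.natCast_dvd_natCast.1 h))
    refine ⟨j P ^ s * r₂ ^ t, ?_⟩
    rw [mul_pow, ← zpow_natCast (j P ^ s), ← zpow_natCast (r₂ ^ t), ← zpow_mul, ← zpow_mul, mul_comm t, zpow_mul r₂, zpow_natCast r₂,
      hr₂, ← zpow_natCast (j P) e', ← zpow_mul, ← zpow_add₀ hPE,
      show s * (p : ℤ) + (e' : ℤ) * t = 1 by linear_combination hst, zpow_one]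
  have hdec : ∀ y : B, y ≠ 0 → ∃ r : E', r ^ p = j y := fun y hy => by
    obtain ⟨i, u, rfl⟩ := IsDiscreteValuationRing.eq_unit_mul_pow_irreducible hy hP
    obtain ⟨u', hu'⟩ := exists_pow_eq_unit ⟨inferInstance, hB⟩ huB u
    refine ⟨j u' * r₃ ^ i, ?_⟩
    rw [mul_pow, ← map_pow, ← Units.val_pow_eq_pow_val, hu', ← pow_mul, mul_comm i, pow_mul, hr₃, map_mul, map_pow]
  obtain ⟨y₁, y₂, hy₂, hy⟩ := IsFractionRing.div_surjective (A := B) (⟨a, IntermediateField.mem_adjoin_simple_self K' a⟩ : F)
  have hay : j y₁ / j y₂ = a := by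
    show algebraMap F E' (algebraMap B F y₁) / algebraMap F E' (algebraMap B F y₂) = a
    rw [← map_div₀, hy]
    rfl
  have hy₁ : y₁ ≠ 0 := fun h => ha (by rw [← hay, h, map_zero, zero_div])
  obtain ⟨r, hr⟩ := hdec y₁ hy₁
  obtain ⟨r', hr'⟩ := hdec y₂ (nonZeroDivisors.ne_zero hy₂)
  exact ⟨r / r', by rw [div_pow, hr, hr', hay]⟩

/-- Such fields have dimension zero at `p`. -/
theorem cdP_zero_of_tame (R' K' D Ω : Type u) [CommRing R'] [IsDomain R'] [IsDiscreteValuationRing R']
    (hR : EtCoh.IsStrictlyHenselianLocalRing R') (hu : IsUnit (p : R')) [Field K'] [Algebra R' K'] [IsFractionRing R' K']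
    [Field D] [Algebra K' D] [Algebra.IsSeparable K' D] [Field Ω] [IsSepClosed Ω] (g : Ω →+* D)
    (π : R') (hπ0 : π ≠ 0) (hπu : ¬ IsUnit π) (c : Ω) (hc : g c = algebraMap K' D (algebraMap R' K' π)) :
    CdP p 0 D := by
  refine cdP_of_killed fun E _ _ _ _ _ q hq x => ?_
  letI : Algebra K' E := ((algebraMap D E).comp (algebraMap K' D)).toAlgebra
  haveI : IsScalarTower K' D E := .of_algebraMap_eq' rfl
  haveI : Algebra.IsSeparable K' E := Algebra.IsSeparable.trans K' D E
  let gE : Ω →+* E := (algebraMap D E).comp g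
  have hcE : gE c = algebraMap K' E (algebraMap R' K' π) := congrArg (algebraMap D E) hc
  have hp0 : (p : Ω) ≠ 0 := fun h => by
    refine (hu.map ((algebraMap K' D).comp (algebraMap R' K'))).ne_zero ?_
    rw [map_natCast, ← map_natCast g, h, map_zero]
  have hpE : (p : E) ≠ 0 := by
    rw [← map_natCast gE]
    exact (map_ne_zero_iff _ gE.injective).2 hp0
  rcases Nat.lt_or_ge 1 q with hq1 | hq1
  · have hnorm : NormP p E := fun E₁ L _ _ _ _ _ hsep hfin _ hd a => by
      haveI := hsep
      letI : Algebra K' E₁ := ((algebraMap E E₁).comp (algebraMap K' E)).toAlgebra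
      haveI : IsScalarTower K' E E₁ := .of_algebraMap_eq' rfl
      haveI : Algebra.IsSeparable K' E₁ := Algebra.IsSeparable.trans K' E E₁
      obtain ⟨r, hr⟩ := exists_pow_eq_tame (p := p) R' K' E₁ Ω hR hu ((algebraMap E E₁).comp gE) π hπ0 hπu c
        (congrArg (algebraMap E E₁) hcE) (a : E₁)
      exact ⟨algebraMap E₁ L r, by rw [Algebra.norm_algebraMap, hd, hr]⟩
    exact cd_one_of_brauer p hpE (fun E₁ _ _ _ _ y hy => brauer_eq_zero_of_normP p (hnorm.of_finite p E₁) y 1
      (by rwa [pow_one])) q hq1 _ (EtTraceLib.isTorsion_of_nsmul_id_eq_zero hp.out.pos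
        ((FLCLib.killedBy_iff p _).1 (PBCLib.killedBy_const _ p))) x
      ⟨1, by rw [pow_one]; exact nsmul_ext_eq_zero ((FLCLib.killedBy_iff p _).1 (PBCLib.killedBy_const _ p)) x⟩
  obtain rfl : q = 1 := by omega
  let X := Spec (CommRingCat.of E)
  have hS := kumSeq_shortExact (K := E) p hpE
  let T : (EtCoh.const X ℤ ⟶ EtCoh.Gm X) ≃+ Additive Eˣ := (topSect (EtCoh.Gm X)).trans (gmTop E)
  have hmu : ∀ y : EtCoh.H X (EtCoh.mu X p) 1, y = 0 := fun y => by
    obtain ⟨z, hz⟩ := Ext.covariant_sequence_exact₁ _ hS y (H1_Gm_eq_zero E _) (n₀ := 0) rfl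
    obtain ⟨b, rfl⟩ := (Ext.mk₀_bijective _ _).2 z
    obtain ⟨r, hr⟩ := exists_pow_eq_tame (p := p) R' K' E Ω hR hu gE π hπ0 hπu c hcE ((Additive.toMul (T b) : Eˣ) : E)
    have hr0 : r ≠ 0 := fun h => (Additive.toMul (T b) : Eˣ).ne_zero (by rw [← hr, h, zero_pow hp.out.ne_zero])
    have hb : p • T.symm (Additive.ofMul (Units.mk0 r hr0)) = b := T.injective (by
      rw [map_nsmul, T.apply_symm_apply, ← ofMul_pow]
      refine Eq.trans (congrArg Additive.ofMul (Units.ext ?_)) (ofMul_toMul (T b))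
      rw [Units.val_pow_eq_pow_val]
      exact hr)
    let δ : (EtCoh.const X ℤ ⟶ (kumSeq X p).X₃) →+ EtCoh.H X (EtCoh.mu X p) 1 :=
      AddMonoidHom.mk' (fun b => (Ext.mk₀ b).comp hS.extClass (zero_add 1)) fun a b => by
        rw [Ext.mk₀_add, Ext.add_comp]
    rw [← hz]
    show δ b = 0
    rw [← hb, map_nsmul]
    exact nsmul_ext_eq_zero (nsmul_id_mu X p) _
  haveI : NeZero ((p : ℕ) : Ω) := ⟨hp0⟩
  obtain ⟨z, hz⟩ : ∃ z : Ω, IsPrimitiveRoot z p := by
    have hcyc : (cyclotomic p Ω).degree ≠ 0 := by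
      rw [degree_cyclotomic]
      exact_mod_cast (Nat.totient_pos.2 hp.out.pos).ne'
    obtain ⟨z, hz⟩ := IsSepClosed.exists_root _ hcyc (separable_cyclotomic _ Ω)
    exact ⟨z, isRoot_cyclotomic_iff.1 hz⟩
  let ι : E →+* Γ(X, ⊤) := (Scheme.ΓSpecIso (CommRingCat.of E)).inv.hom
  have hζ := hz.map_of_injective gE.injective
  have hroot : Polynomial.aeval (ι (gE z)) (Polynomial.cyclotomic p ℤ) = 0 := by
    have h1 : Polynomial.aeval (gE z) (Polynomial.cyclotomic p ℤ) = 0 := by
      rw [Polynomial.aeval_def, ← Polynomial.eval_map, Polynomial.map_cyclotomic]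
      exact (hζ.isRoot_cyclotomic hp.out.pos).eq_zero
    have := congrArg ι h1
    rw [map_zero, Polynomial.aeval_def, Polynomial.hom_eval₂] at this
    rw [Polynomial.aeval_def, RingHom.ext_int (algebraMap ℤ Γ(X, ⊤)) (ι.comp (algebraMap ℤ E))]
    exact this
  obtain ⟨e⟩ := S13507.nonempty_mu_iso_const X p hp.out.one_le (isUnit_natCast_spec p hpE) (ι (gE z)) hroot
  have h2 : x = (x.comp (Ext.mk₀ e.inv) (add_zero _)).comp (Ext.mk₀ e.hom) (add_zero _) := by
    rw [Ext.comp_assoc_of_second_deg_zero, Ext.mk₀_comp_mk₀, Iso.inv_hom_id, Ext.comp_mk₀_id]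
  rw [h2, hmu (x.comp (Ext.mk₀ e.inv) (add_zero _)), Ext.zero_comp]

end Groth.Agent.CdTameLib
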